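import Cfsg.Agent.Lib.BrauerPairs.Fusion
import Cfsg.Prelude.Def_BlockFusion

/-!
# Defect groups of the local blocks and saturation of the fusion system of a block
-/

set_option linter.unusedSectionVars false

namespace Cfsg.Agent.BPairs

open MonoidAlgebra Blocks

universe u

variable {G : Type u} [Group G] [Finite G] {p : ℕ} {M : Ideal AlgInt} [M.IsPrime]

theorem map_conj_normalizer (Q : Subgroup G) (x : G) :
    (Subgroup.normalizer (Q : Set G)).map (MulAut.conj x).toMonoidHom =
      Subgroup.normalizer ((Q.map (MulAut.conj x).toMonoidHom : Subgroup G) : Set G) := by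
  ext u
  rw [Blocks.mem_map_conj, Subgroup.mem_normalizer_iff, Subgroup.mem_normalizer_iff]
  constructor
  · intro h v
    rw [Blocks.mem_map_conj, Blocks.mem_map_conj, h (x⁻¹ * v * x)]
    rw [show x⁻¹ * u * x * (x⁻¹ * v * x) * (x⁻¹ * u * x)⁻¹ = x⁻¹ * (u * v * u⁻¹) * x by group]
  · intro h v
    have := h (x * v * x⁻¹)
    rw [Blocks.mem_map_conj, Blocks.mem_map_conj, show x⁻¹ * (x * v * x⁻¹) * x = v by group,
      show x⁻¹ * (u * (x * v * x⁻¹) * u⁻¹) * x = x⁻¹ * u * x * v * (x⁻¹ * u * x)⁻¹ by group] at this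
    exact this

theorem map_conj_inf (A B : Subgroup G) (x : G) :
    (A ⊓ B).map (MulAut.conj x).toMonoidHom =
      A.map (MulAut.conj x).toMonoidHom ⊓ B.map (MulAut.conj x).toMonoidHom :=
  Subgroup.map_inf _ _ _ (MulAut.conj x).injective

theorem le_stabSub_of_rel {a b : BrauerPairIdx G} (h : NormalSubpairRel p M a b) :
    b.1 ≤ stabSub M a.1 a.2 := fun x hx =>
  ⟨(isNormalSubpair_iff.mp h).2.2.2.1 hx, (isNormalSubpair_iff.mp h).2.2.2.2.1 x hx⟩

/-- A pair of the local maximal size is locally maximal and gives a defect group of the local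
block. -/
theorem local_max_of_card (hM : IsPModular p M) {Q H : Subgroup G}
    {f : Set (IrrCharacter (Subgroup.centralizer (Q : Set G)))} (_hL : IsLocal p M Q f H)
    {D : Subgroup G} {k : Set (IrrCharacter (Subgroup.centralizer (D : Set G)))}
    (hD : IsLocalMax p M Q f H D k) {E : Set (IrrCharacter H)}
    (hE : IsDefectGroup p M E (D.subgroupOf H))
    {R : Subgroup G} {h : Set (IrrCharacter (Subgroup.centralizer (R : Set G)))}
    (hrel : NormalSubpairRel p M (⟨Q, f⟩ : BrauerPairIdx G) ⟨R, h⟩) (hRH : R ≤ H)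
    (hcard : Nat.card D ≤ Nat.card R) :
    IsLocalMax p M Q f H R h ∧ IsDefectGroup p M E (R.subgroupOf H) := by
  haveI := Fact.mk hM.1
  obtain ⟨t, ht, hle⟩ := hD.absorb R h hRH hrel
  have hDb : IsPBlock M k := (isNormalSubpair_iff.mp hD.rel).2.1.2
  have hRb : IsPBlock M (⟨R, h⟩ : BrauerPairIdx G).2 := (isNormalSubpair_iff.mp hrel).2.1.2
  have heq : conjIdx t (⟨R, h⟩ : BrauerPairIdx G) = ⟨D, k⟩ := by
    refine eq_of_chain_eq hM hle ?_
    exact le_of_eq (Subgroup.eq_of_le_of_card_ge (subpair_le hle)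
      (by rw [card_map_conj]; exact hcard)).symm
  have hback : conjIdx t⁻¹ (⟨D, k⟩ : BrauerPairIdx G) = ⟨R, h⟩ := by
    rw [← heq, conjIdx_conjIdx hRb, inv_mul_cancel, conjIdx_one hRb]
  refine ⟨⟨hrel, hRH, fun R' h' hR' hrel' => ?_⟩, ?_⟩
  · obtain ⟨s, hs, hle'⟩ := hD.absorb R' h' hR' hrel'
    have hR'b : IsPBlock M (⟨R', h'⟩ : BrauerPairIdx G).2 := (isNormalSubpair_iff.mp hrel').2.1.2
    refine ⟨t⁻¹ * s, H.mul_mem (H.inv_mem ht) hs, ?_⟩
    have := subpair_conj hM hle' t⁻¹
    rw [hback] at this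
    show Relation.ReflTransGen (NormalSubpairRel p M) (conjIdx (t⁻¹ * s) ⟨R', h'⟩) ⟨R, h⟩
    rw [← conjIdx_conjIdx hR'b]
    exact this
  · have h1 : D.map (MulAut.conj t⁻¹).toMonoidHom = R := congrArg Sigma.fst hback
    have h2 : R.subgroupOf H =
        (D.subgroupOf H).map (MulAut.conj (⟨t, ht⟩⁻¹ : H)).toMonoidHom := by
      ext y
      simp only [Subgroup.mem_subgroupOf, Blocks.mem_map_conj, ← h1]
      rfl
    rw [h2]
    exact Blocks.isDefectGroup_conj hE _

/-- A `p`-subgroup of `C(Q)` carried by a pair above `(Q, f)` lies in a defect group of `f`. -/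
theorem exists_defect_ge (hM : IsPModular p M) {Q : Subgroup G}
    {f : Set (IrrCharacter (Subgroup.centralizer (Q : Set G)))} {R : Subgroup G}
    {h : Set (IrrCharacter (Subgroup.centralizer (R : Set G)))}
    (hrel : NormalSubpairRel p M (⟨Q, f⟩ : BrauerPairIdx G) ⟨R, h⟩) :
    ∃ D : Subgroup (Subgroup.centralizer (Q : Set G)), IsDefectGroup p M f D ∧
      (R ⊓ Subgroup.centralizer (Q : Set G)).subgroupOf (Subgroup.centralizer (Q : Set G)) ≤ D := by
  classical
  haveI := Fact.mk hM.1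
  obtain ⟨hQf, hRh, hQR, -, -, hocc⟩ := isNormalSubpair_iff.mp hrel
  have hf : IsPBlock M f := hQf.2
  obtain ⟨ξ, hξ⟩ := block_nonempty hRh.2
  have h1 := hocc ξ hξ
  rw [val] at h1
  obtain ⟨K, -, hK⟩ := Finset.exists_ne_zero_of_sum_ne_zero (h1 ▸ one_ne_zero)
  obtain ⟨u, hu⟩ : ∃ u : Subgroup.centralizer (Q : Set G),
      ((u : G) = ((rep K : Subgroup.centralizer (R : Set G)) : G)) :=
    ⟨⟨_, centralizer_le_centralizer hQR (rep K).2⟩, rfl⟩
  have hne := left_ne_zero_of_mul hK
  rw [show ((rep K : Subgroup.centralizer (R : Set G)) : G) = ((u : Subgroup.centralizer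
    (Q : Set G)) : G) from hu.symm] at hne
  rw [show (bel M (Subgroup.centralizer ((⟨Q, f⟩ : BrauerPairIdx G).1 : Set G))
    (⟨Q, f⟩ : BrauerPairIdx G).2).coeff (u : G) = (bel M (Subgroup.centralizer (Q : Set G)) f).coeff
      (u : G) from rfl, coeff_bel] at hne
  have hunit : ¬ MemLocalIdeal M (blockCoeff f u) :=
    (coeff_bBar_ne_zero_iff (blockCoeff_mem_loc hf) u).mp hne
  obtain ⟨D, hD⟩ := exists_defectGroup (p := p) hf
  set R' := (R ⊓ Subgroup.centralizer (Q : Set G)).subgroupOf (Subgroup.centralizer (Q : Set G))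
    with hR'
  have hR'p : IsPGroup p R' := (hRh.1.to_le inf_le_left).comap_subtype
  have hR'u : R' ≤ Subgroup.centralizer ({u} : Set _) := fun r hr =>
    Subgroup.mem_centralizer_singleton_iff.mpr (Subtype.ext (by
      show (r : G) * (u : G) = (u : G) * (r : G)
      rw [hu]
      exact Subgroup.mem_centralizer_iff.mp (rep K).2 _
        (Subgroup.mem_subgroupOf.mp hr).1))
  obtain ⟨x, hx⟩ := conj_le_defect hM hf hD hR'p hunit hR'u
  refine ⟨D.map (MulAut.conj x⁻¹).toMonoidHom, Blocks.isDefectGroup_conj hD _, ?_⟩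
  have := Subgroup.map_mono (f := (MulAut.conj x⁻¹).toMonoidHom) hx
  rwa [map_conj_map_conj, inv_mul_cancel, map_conj_one] at this

/-- The centralizer part of the local maximal group is a defect group of `f`. -/
theorem IsLocalMax.card_inf (hM : IsPModular p M) {Q H : Subgroup G}
    {f : Set (IrrCharacter (Subgroup.centralizer (Q : Set G)))} (hL : IsLocal p M Q f H)
    {D : Subgroup G} {k : Set (IrrCharacter (Subgroup.centralizer (D : Set G)))}
    (hD : IsLocalMax p M Q f H D k) {Df : Subgroup (Subgroup.centralizer (Q : Set G))}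
    (hDf : IsDefectGroup p M f Df) :
    Nat.card Df ≤ Nat.card (D ⊓ Subgroup.centralizer (Q : Set G) : Subgroup G) := by
  haveI := Fact.mk hM.1
  have hf : IsPBlock M f := hL.pair.2
  obtain ⟨g, hg, hle, hDp, -⟩ := defectGroup_spec hDf
  set D' := Df.map (Subgroup.centralizer (Q : Set G)).subtype with hD'
  have hD'C : D' ≤ Subgroup.centralizer (Q : Set G) := Subgroup.map_subtype_le _
  set R := D' ⊔ Q with hR
  have hRp : IsPGroup p R := IsPGroup.to_sup_of_normal_right' (hDp.map _) hL.pair.1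
    (hD'C.trans (Subgroup.centralizer_le_normalizer _))
  have hgR : (g : G) ∈ Subgroup.centralizer (R : Set G) := by
    rw [hR]
    refine le_centralizer_singleton.mp (sup_le ?_ (le_centralizer_singleton.mpr g.2))
    rintro _ ⟨d, hd, rfl⟩
    exact Subgroup.mem_centralizer_singleton_iff.mpr
      (congrArg Subtype.val (Subgroup.mem_centralizer_singleton_iff.mp (hle hd)))
  have hne : (bel M (Subgroup.centralizer (Q : Set G)) f).coeff (g : G) ≠ 0 := by
    rw [coeff_bel]
    exact (coeff_bBar_ne_zero_iff (blockCoeff_mem_loc hf) g).mpr hg.2.1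
  have hRH : R ≤ H := sup_le (hD'C.trans hL.cle) hL.le
  obtain ⟨h, hrel⟩ := exists_pair_of_coeff hM hL hRp le_sup_right hRH hgR hne
  obtain ⟨t, ht, hle'⟩ := hD.absorb R h hRH hrel
  have h1 : D'.map (MulAut.conj t).toMonoidHom ≤ D ⊓ Subgroup.centralizer (Q : Set G) := by
    refine le_inf ((Subgroup.map_mono le_sup_left).trans (subpair_le hle')) ?_
    rintro _ ⟨d, hd, rfl⟩
    exact (centralizer_conj_mem (hL.leN ht)).mpr (hD'C hd)
  calc Nat.card Df = Nat.card D' :=
        (Nat.card_congr (Subgroup.equivMapOfInjective Df _ (Subgroup.subtype_injective _)).toEquiv)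
    _ = Nat.card (D'.map (MulAut.conj t).toMonoidHom) := (card_map_conj D' t).symm
    _ ≤ _ := Subgroup.card_le_of_le h1

section Fusion

variable {B : Set (IrrCharacter G)} {P : Subgroup G}
  {e : Set (IrrCharacter (Subgroup.centralizer (P : Set G)))} {Q : Subgroup G}
  {f : Set (IrrCharacter (Subgroup.centralizer (Q : Set G)))}

/-- The pair obtained from `(Q, f)` by conjugating the normalizer pair of a conjugate back. -/
theorem exists_rel_back (hM : IsPModular p M) (hPe : IsBrauerPair p M P e) (hf : IsPBlock M f)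
    {g : G}
    (hg : SubpairLE p M (Q.map (MulAut.conj g).toMonoidHom) (conjBlock Q g f) P e) :
    ∃ h, NormalSubpairRel p M (⟨Q, f⟩ : BrauerPairIdx G)
      ⟨(P ⊓ Subgroup.normalizer ((Q.map (MulAut.conj g).toMonoidHom : Subgroup G) : Set G)).map
        (MulAut.conj g⁻¹).toMonoidHom, h⟩ := by
  obtain ⟨h, -, hrel⟩ := exists_normalizer_pair hM hPe hg
  have := normalSubpair_conj hM hrel g⁻¹
  rw [show (⟨Q.map (MulAut.conj g).toMonoidHom, conjBlock Q g f⟩ : BrauerPairIdx G) =
    conjIdx g ⟨Q, f⟩ from rfl, conjIdx_conjIdx (show IsPBlock M (⟨Q, f⟩ : BrauerPairIdx G).2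
      from hf), inv_mul_cancel,
    conjIdx_one (show IsPBlock M (⟨Q, f⟩ : BrauerPairIdx G).2 from hf)] at this
  exact ⟨_, this⟩

/-- The local maximal group is seen in `P` after conjugation. -/
theorem exists_conj_local (hM : IsPModular p M) (hmax : IsMaximalBrauerPair p M B P e)
    (hle : SubpairLE p M Q f P e) {H D : Subgroup G}
    {k : Set (IrrCharacter (Subgroup.centralizer (D : Set G)))}
    (hD : IsLocalMax p M Q f H D k) :
    ∃ g : G, SubpairLE p M (Q.map (MulAut.conj g).toMonoidHom) (conjBlock Q g f) P e ∧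
      D.map (MulAut.conj g).toMonoidHom ≤
        P ⊓ Subgroup.normalizer ((Q.map (MulAut.conj g).toMonoidHom : Subgroup G) : Set G) := by
  have hQf : IsBrauerPairOf p M B Q f :=
    (pairOf_iff_of_subpair hM hmax.1.2.1 ⟨Q, f⟩ ⟨P, e⟩ hle).mp hmax.1
  obtain ⟨d, hDd, hd⟩ := exists_maximal hM
    ((pairOf_iff_of_subpair hM hmax.1.2.1 _ ⟨D, k⟩ (Relation.ReflTransGen.single hD.rel)).mpr hQf)
  obtain ⟨g, hg⟩ := exists_conj_maximal hM hd (b := (⟨P, e⟩ : BrauerPairIdx G)) hmax
  refine ⟨g, ?_, le_inf ?_ ?_⟩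
  · have := subpair_conj hM ((Relation.ReflTransGen.single hD.rel).trans hDd) g
    rwa [hg] at this
  · refine (Subgroup.map_mono (subpair_le hDd)).trans (le_of_eq ?_)
    exact congrArg Sigma.fst hg
  · rw [← map_conj_normalizer]
    exact Subgroup.map_mono fun y hy => (le_stabSub_of_rel hD.rel hy).1

/-- `N_P(Q)` is locally maximal when it is largest among the conjugates. -/
theorem localMax_of_fullyNormalized (hM : IsPModular p M) (hmax : IsMaximalBrauerPair p M B P e)
    (hle : SubpairLE p M Q f P e)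
    (hfn : ∀ g : G, SubpairLE p M (Q.map (MulAut.conj g).toMonoidHom) (conjBlock Q g f) P e →
      Nat.card (P ⊓ Subgroup.normalizer
        ((Q.map (MulAut.conj g).toMonoidHom : Subgroup G) : Set G) : Subgroup G) ≤
        Nat.card (P ⊓ Subgroup.normalizer (Q : Set G) : Subgroup G)) :
    ∃ h E, SubpairLE p M (P ⊓ Subgroup.normalizer (Q : Set G)) h P e ∧
      IsLocalMax p M Q f (stabSub M Q f) (P ⊓ Subgroup.normalizer (Q : Set G)) h ∧
      IsPBlock M E ∧
      (∀ t : stabSub M Q f, blockCoeff E t =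
        subgroupBlockCoeff (Subgroup.centralizer (Q : Set G)) f (t : G)) ∧
      IsDefectGroup p M E
        ((P ⊓ Subgroup.normalizer (Q : Set G)).subgroupOf (stabSub M Q f)) := by
  have hQp : IsBrauerPair p M Q f := isBrauerPair_of_subpair hle hmax.1.1
  obtain ⟨D, k, E, hD, hE, hcoeff, hdef⟩ := exists_local_max hM (isLocal_stabSub hQp)
  obtain ⟨h, hh, hrel⟩ := exists_normalizer_pair hM hmax.1.1 hle
  obtain ⟨g, hg, hgD⟩ := exists_conj_local hM hmax hle hD
  have hcard := (Subgroup.card_le_of_le hgD).trans (hfn g hg)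
  rw [card_map_conj] at hcard
  have hH : P ⊓ Subgroup.normalizer (Q : Set G) ≤ stabSub M Q f := le_stabSub_of_rel hrel
  obtain ⟨h1, h2⟩ := local_max_of_card hM (isLocal_stabSub hQp) hD hdef hrel hH hcard
  exact ⟨h, E, hh, h1, hE, hcoeff, h2⟩

theorem card_normalizer_le (hM : IsPModular p M) (hmax : IsMaximalBrauerPair p M B P e)
    (hle : SubpairLE p M Q f P e) {D : Subgroup G}
    {k : Set (IrrCharacter (Subgroup.centralizer (D : Set G)))}
    (hD : IsLocalMax p M Q f (stabSub M Q f) D k) {g : G}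
    (hg : SubpairLE p M (Q.map (MulAut.conj g).toMonoidHom) (conjBlock Q g f) P e) :
    Nat.card (P ⊓ Subgroup.normalizer
      ((Q.map (MulAut.conj g).toMonoidHom : Subgroup G) : Set G) : Subgroup G) ≤ Nat.card D := by
  obtain ⟨h, hrel⟩ := exists_rel_back hM hmax.1.1
    (isBrauerPair_of_subpair hle hmax.1.1 : IsBrauerPair p M Q f).2 hg
  have := hD.card_le (le_stabSub_of_rel hrel) hrel
  rwa [card_map_conj] at this

theorem card_centralizer_le (hM : IsPModular p M) (hmax : IsMaximalBrauerPair p M B P e)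
    (hle : SubpairLE p M Q f P e) {Df : Subgroup (Subgroup.centralizer (Q : Set G))}
    (hDf : IsDefectGroup p M f Df) {g : G}
    (hg : SubpairLE p M (Q.map (MulAut.conj g).toMonoidHom) (conjBlock Q g f) P e) :
    Nat.card (P ⊓ Subgroup.centralizer
      ((Q.map (MulAut.conj g).toMonoidHom : Subgroup G) : Set G) : Subgroup G) ≤ Nat.card Df := by
  have hf := (isBrauerPair_of_subpair hle hmax.1.1 : IsBrauerPair p M Q f).2
  obtain ⟨h, hrel⟩ := exists_rel_back hM hmax.1.1 hf hg
  obtain ⟨D', hD', hle'⟩ := exists_defect_ge hM hrel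
  have hsub : (P ⊓ Subgroup.centralizer
      ((Q.map (MulAut.conj g).toMonoidHom : Subgroup G) : Set G)).map (MulAut.conj g⁻¹).toMonoidHom ≤
      (P ⊓ Subgroup.normalizer ((Q.map (MulAut.conj g).toMonoidHom : Subgroup G) : Set G)).map
        (MulAut.conj g⁻¹).toMonoidHom ⊓ Subgroup.centralizer (Q : Set G) := by
    refine le_inf (Subgroup.map_mono
      (inf_le_inf_left _ (Subgroup.centralizer_le_normalizer _))) ?_
    rw [map_conj_inf, map_conj_centralizer, map_conj_map_conj, inv_mul_cancel, map_conj_one]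
    exact inf_le_right
  calc _ = Nat.card ((P ⊓ Subgroup.centralizer
      ((Q.map (MulAut.conj g).toMonoidHom : Subgroup G) : Set G)).map
        (MulAut.conj g⁻¹).toMonoidHom) := (card_map_conj _ _).symm
    _ ≤ _ := Subgroup.card_le_of_le hsub
    _ = _ := (Nat.card_congr (Subgroup.subgroupOfEquivOfLe inf_le_right).toEquiv).symm
    _ ≤ Nat.card D' := Subgroup.card_le_of_le hle'
    _ = Nat.card Df := Blocks.card_defect_eq hM hf hD' hDf

theorem exists_centralizer_ge (hM : IsPModular p M) (hmax : IsMaximalBrauerPair p M B P e)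
    (hle : SubpairLE p M Q f P e) {Df : Subgroup (Subgroup.centralizer (Q : Set G))}
    (hDf : IsDefectGroup p M f Df) :
    ∃ g : G, SubpairLE p M (Q.map (MulAut.conj g).toMonoidHom) (conjBlock Q g f) P e ∧
      Nat.card Df ≤ Nat.card (P ⊓ Subgroup.centralizer
        ((Q.map (MulAut.conj g).toMonoidHom : Subgroup G) : Set G) : Subgroup G) := by
  have hQp : IsBrauerPair p M Q f := isBrauerPair_of_subpair hle hmax.1.1
  obtain ⟨D, k, E, hD, -⟩ := exists_local_max hM (isLocal_stabSub hQp)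
  obtain ⟨g, hg, hgD⟩ := exists_conj_local hM hmax hle hD
  refine ⟨g, hg, (hD.card_inf hM (isLocal_stabSub hQp) hDf).trans ?_⟩
  rw [← card_map_conj (D ⊓ _) g, map_conj_inf, map_conj_centralizer]
  exact Subgroup.card_le_of_le (inf_le_inf_right _ (hgD.trans inf_le_left))

/-- `C_P(Q)` is a defect group of `f` when it is as large as one. -/
theorem isDefectGroup_of_centralizer (hM : IsPModular p M)
    (hmax : IsMaximalBrauerPair p M B P e) (hle : SubpairLE p M Q f P e)
    {Df : Subgroup (Subgroup.centralizer (Q : Set G))} (hDf : IsDefectGroup p M f Df)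
    {R : Subgroup G} (hR : R ≤ P ⊓ Subgroup.centralizer (Q : Set G))
    (hcard : Nat.card Df ≤ Nat.card R) :
    IsDefectGroup p M f (R.subgroupOf (Subgroup.centralizer (Q : Set G))) := by
  have hf := (isBrauerPair_of_subpair hle hmax.1.1 : IsBrauerPair p M Q f).2
  obtain ⟨h, -, hrel⟩ := exists_normalizer_pair hM hmax.1.1 hle
  obtain ⟨D', hD', hle'⟩ := exists_defect_ge hM hrel
  have h1 : R.subgroupOf (Subgroup.centralizer (Q : Set G)) ≤ D' := by
    refine le_trans (Subgroup.comap_mono ?_) hle'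
    exact le_inf (le_inf (hR.trans inf_le_left)
      ((hR.trans inf_le_right).trans (Subgroup.centralizer_le_normalizer _))) (hR.trans inf_le_right)
  rw [Subgroup.eq_of_le_of_card_ge h1 (by
    rw [Nat.card_congr (Subgroup.subgroupOfEquivOfLe (hR.trans inf_le_right)).toEquiv,
      Blocks.card_defect_eq hM hf hD' hDf]
    exact hcard)]
  exact hD'

theorem centralizer_defect_of_fullyCentralized (hM : IsPModular p M)
    (hmax : IsMaximalBrauerPair p M B P e) (hle : SubpairLE p M Q f P e)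
    (hfc : ∀ g : G, SubpairLE p M (Q.map (MulAut.conj g).toMonoidHom) (conjBlock Q g f) P e →
      Nat.card (P ⊓ Subgroup.centralizer
        ((Q.map (MulAut.conj g).toMonoidHom : Subgroup G) : Set G) : Subgroup G) ≤
        Nat.card (P ⊓ Subgroup.centralizer (Q : Set G) : Subgroup G)) :
    IsDefectGroup p M f
      ((P ⊓ Subgroup.centralizer (Q : Set G)).subgroupOf (Subgroup.centralizer (Q : Set G))) := by
  have hf := (isBrauerPair_of_subpair hle hmax.1.1 : IsBrauerPair p M Q f).2
  haveI := Fact.mk hM.1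
  obtain ⟨Df, hDf⟩ := exists_defectGroup (p := p) hf
  obtain ⟨g, hg, hge⟩ := exists_centralizer_ge hM hmax hle hDf
  exact isDefectGroup_of_centralizer hM hmax hle hDf le_rfl (hge.trans (hfc g hg))

/-- The conjugates of `(Q, f)` below `(P, e)` compose. -/
theorem below_comp (hM : IsPModular p M) (hf : IsPBlock M f) {x g : G}
    (h : SubpairLE p M ((Q.map (MulAut.conj x).toMonoidHom).map (MulAut.conj g).toMonoidHom)
      (conjBlock _ g (conjBlock Q x f)) P e) :
    SubpairLE p M (Q.map (MulAut.conj (g * x)).toMonoidHom) (conjBlock Q (g * x) f) P e := by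
  show Relation.ReflTransGen (NormalSubpairRel p M) (conjIdx (g * x) ⟨Q, f⟩) ⟨P, e⟩
  rw [← conjIdx_conjIdx (show IsPBlock M (⟨Q, f⟩ : BrauerPairIdx G).2 from hf)]
  exact h

/-- A conjugate with `C_P` (or any measure) largest. -/
theorem exists_max_conj (hle : SubpairLE p M Q f P e) (hf : IsPBlock M f)
    (w : Subgroup G → ℕ) :
    ∃ x : G, SubpairLE p M (Q.map (MulAut.conj x).toMonoidHom) (conjBlock Q x f) P e ∧
      ∀ g : G, SubpairLE p M (Q.map (MulAut.conj g).toMonoidHom) (conjBlock Q g f) P e →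
        w (Q.map (MulAut.conj g).toMonoidHom) ≤ w (Q.map (MulAut.conj x).toMonoidHom) := by
  have h1 : SubpairLE p M (Q.map (MulAut.conj (1 : G)).toMonoidHom) (conjBlock Q 1 f) P e := by
    show Relation.ReflTransGen (NormalSubpairRel p M) (conjIdx 1 ⟨Q, f⟩) ⟨P, e⟩
    rw [conjIdx_one (show IsPBlock M (⟨Q, f⟩ : BrauerPairIdx G).2 from hf)]
    exact hle
  obtain ⟨x, hx, hxm⟩ := Set.Finite.exists_maximalFor
    (fun g : G => w (Q.map (MulAut.conj g).toMonoidHom))
    {g : G | SubpairLE p M (Q.map (MulAut.conj g).toMonoidHom) (conjBlock Q g f) P e}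
    (Set.toFinite _) ⟨1, h1⟩
  exact ⟨x, hx, fun g hg => (le_total _ _).elim id fun h => hxm (j := g) hg h⟩

theorem isConj_iff_below (hM : IsPModular p M) {F : FusionSystem P}
    (hF : IsBlockFusionSystemOn p M B P e F) (hle : SubpairLE p M Q f P e) (Q' : Subgroup G) :
    F.IsConj Q Q' ↔ ∃ g : G, Q.map (MulAut.conj g).toMonoidHom = Q' ∧
      SubpairLE p M (Q.map (MulAut.conj g).toMonoidHom) (conjBlock Q g f) P e := by
  constructor
  · rintro ⟨φ, hφ, rfl⟩
    obtain ⟨-, g, hg, -, f', hf', hfg⟩ := (hF.2 Q φ).mp hφ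
    obtain rfl := eq_of_below hM hF.1.1.1 _ Q rfl f' f hf' hle
    refine ⟨g, ?_, hfg⟩
    ext v
    constructor
    · rintro ⟨u, hu, rfl⟩
      exact ⟨⟨u, hu⟩, (hg ⟨u, hu⟩)⟩
    · rintro ⟨u, rfl⟩
      exact ⟨u, u.2, (hg u).symm⟩
  · rintro ⟨g, rfl, hfg⟩
    refine ⟨conjHom Q g, (hF.2 Q _).mpr ⟨subpair_le hle, g, fun _ => rfl, subpair_le hfg, f, hle,
      hfg⟩, ?_⟩
    ext v
    constructor
    · rintro ⟨u, rfl⟩
      exact ⟨u, u.2, rfl⟩
    · rintro ⟨u, hu, rfl⟩
      exact ⟨⟨u, hu⟩, rfl⟩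

/-! ### The fusion system -/

/-- The fusion system of a block on a maximal pair. -/
def blockFusion (hM : IsPModular p M) (hmax : IsMaximalBrauerPair p M B P e) : FusionSystem P where
  Hom Q := {φ | Q ≤ P ∧ ∃ g : G, (∀ u : Q, φ u = g * (u : G) * g⁻¹) ∧
    Q.map (MulAut.conj g).toMonoidHom ≤ P ∧
    ∃ f : Set (IrrCharacter (Subgroup.centralizer (Q : Set G))),
      SubpairLE p M Q f P e ∧
        SubpairLE p M (Q.map (MulAut.conj g).toMonoidHom) (conjBlock Q g f) P e}
  le_of_mem := by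
    rintro Q φ ⟨hQ, g, hg, hmap, -⟩
    exact ⟨hQ, fun u => (hg u).symm ▸ hmap ⟨u, u.2, rfl⟩⟩
  injective_of_mem := by
    rintro Q φ ⟨-, g, hg, -⟩ a b hab
    exact Subtype.ext (mul_left_cancel (mul_right_cancel ((hg a).symm.trans (hab.trans (hg b)))))
  conj_mem := by
    intro Q g hQ hg
    obtain ⟨f, ⟨-, hf⟩, -⟩ := existsUnique_below hM hmax.1.1 hQ
    refine ⟨hQ, g, fun u => rfl, ?_, f, hf, conj_below hM hmax.1.1.2 hf hg⟩
    exact subpair_le (conj_below hM hmax.1.1.2 hf hg)
  comp_mem := by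
    rintro Q R φ ψ ⟨hQ, g, hg, hmap, f, hf, hfg⟩ ⟨hR, k, hk, -, r, hr, hrk⟩ h
    have hQR : Q.map (MulAut.conj g).toMonoidHom ≤ R := by
      rintro _ ⟨u, hu, rfl⟩
      have := h ⟨u, hu⟩
      rw [hg] at this
      exact this
    have hfb : IsPBlock M f := (isBrauerPair_of_subpair hf hmax.1.1 : IsBrauerPair p M Q f).2
    have hle : SubpairLE p M (Q.map (MulAut.conj (k * g)).toMonoidHom) (conjBlock Q (k * g) f)
        P e := below_comp hM hfb ((subpair_conj hM (below_of_le hM hmax.1.1 hfg hQR hr) k).trans hrk)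
    refine ⟨hQ, k * g, fun u => ?_, subpair_le hle, f, hf, hle⟩
    show ψ (φ.codRestrict R h u) = k * g * (u : G) * (k * g)⁻¹
    rw [hk]
    show k * φ u * k⁻¹ = _
    rw [hg]
    group
  inv_mem := by
    rintro Q φ ⟨hQ, g, hg, hmap, f, hf, hfg⟩
    have hrange : φ.range = Q.map (MulAut.conj g).toMonoidHom := by
      ext v
      constructor
      · rintro ⟨u, rfl⟩
        exact ⟨u, u.2, (hg u).symm⟩
      · rintro ⟨u, hu, rfl⟩
        exact ⟨⟨u, hu⟩, hg ⟨u, hu⟩⟩
    have hfb : IsPBlock M (⟨Q, f⟩ : BrauerPairIdx G).2 :=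
      (isBrauerPair_of_subpair hf hmax.1.1 : IsBrauerPair p M Q f).2
    refine ⟨conjHom φ.range g⁻¹, ?_, fun u => ?_⟩
    · rw [hrange]
      have hback : SubpairLE p M
          ((Q.map (MulAut.conj g).toMonoidHom).map (MulAut.conj g⁻¹).toMonoidHom)
          (conjBlock _ g⁻¹ (conjBlock Q g f)) P e := by
        show Relation.ReflTransGen (NormalSubpairRel p M) (conjIdx g⁻¹ (conjIdx g ⟨Q, f⟩)) ⟨P, e⟩
        rw [conjIdx_conjIdx hfb, inv_mul_cancel, conjIdx_one hfb]
        exact hf
      exact ⟨hmap, g⁻¹, fun v => rfl, subpair_le hback, _, hfg, hback⟩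
    · show g⁻¹ * φ u * g⁻¹⁻¹ = _
      rw [hg]
      group

theorem blockFusion_isOn (hM : IsPModular p M) (hmax : IsMaximalBrauerPair p M B P e) :
    IsBlockFusionSystemOn p M B P e (blockFusion hM hmax) :=
  ⟨hmax, fun _ _ => Iff.rfl⟩

/-- Fully normalized subgroups are fully automized. -/
theorem fullyAutomized_of_fullyNormalized (hM : IsPModular p M) {F : FusionSystem P}
    (hF : IsBlockFusionSystemOn p M B P e F) (hle : SubpairLE p M Q f P e) {h}
    (hlm : IsLocalMax p M Q f (stabSub M Q f) (P ⊓ Subgroup.normalizer (Q : Set G)) h) :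
    F.IsFullyAutomized p Q := by
  classical
  haveI := Fact.mk hM.1
  have hQb : IsPBlock M (⟨Q, f⟩ : BrauerPairIdx G).2 :=
    (isBrauerPair_of_subpair hle hF.1.1.1 : IsBrauerPair p M Q f).2
  have hQp : IsBrauerPair p M Q f := isBrauerPair_of_subpair hle hF.1.1.1
  set T := stabSub M Q f with hT
  have hTN : T ≤ Subgroup.normalizer (Q : Set G) := fun x hx => hx.1
  set θ : T →* MulAut Q := (Subgroup.normalizerMonoidHom Q).comp (Subgroup.inclusion hTN) with hθ
  have hθv : ∀ (x : T) (u : Q), ((θ x u : Q) : G) = (x : G) * (u : G) * (x : G)⁻¹ := fun _ _ => rfl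
  have hker : θ.ker = (Subgroup.centralizer (Q : Set G)).subgroupOf T := by
    ext x
    rw [MonoidHom.mem_ker, Subgroup.mem_subgroupOf, Subgroup.mem_centralizer_iff]
    constructor
    · intro h q hq
      have := congrArg Subtype.val (DFunLike.congr_fun h ⟨q, hq⟩)
      rw [hθv] at this
      exact (mul_inv_eq_iff_eq_mul.mp this).symm
    · intro h
      refine MulEquiv.ext fun u => Subtype.ext ?_
      rw [hθv, ← h u u.2, mul_inv_cancel_right]
      rfl
  have haut : F.autGroup Q = θ.range := by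
    rw [FusionSystem.autGroup]
    have hset : {α : MulAut Q | Q.subtype.comp α.toMonoidHom ∈ F.Hom Q} = (θ.range : Set (MulAut Q)) := by
      ext α
      constructor
      · intro hα
        obtain ⟨-, g, hg, -, f', hf', hfg⟩ := (hF.2 Q _).mp hα
        obtain rfl := eq_of_below hM hF.1.1.1 _ Q rfl f' f hf' hle
        have hmap : Q.map (MulAut.conj g).toMonoidHom = Q := by
          ext v
          constructor
          · rintro ⟨u, hu, rfl⟩
            have := hg ⟨u, hu⟩
            show g * u * g⁻¹ ∈ Q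
            rw [← this]
            exact (α ⟨u, hu⟩).2
          · intro hv
            refine ⟨_, (α.symm ⟨v, hv⟩).2, ?_⟩
            have := hg (α.symm ⟨v, hv⟩)
            rw [MonoidHom.comp_apply, MulEquiv.coe_toMonoidHom, MulEquiv.apply_symm_apply] at this
            exact this.symm
        have hgT : g ∈ T := by
          refine (conjIdx_eq_self_iff hQb).mp (Sigma.ext hmap ?_)
          revert hfg
          show SubpairLE p M (Q.map (MulAut.conj g).toMonoidHom) (conjBlock Q g f') P e →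
            HEq (conjBlock Q g f') f'
          generalize conjBlock Q g f' = k
          revert k
          rw [hmap]
          intro k hk
          exact heq_of_eq (eq_of_below hM hF.1.1.1 _ Q rfl k f' hk hle)
        exact ⟨⟨g, hgT⟩, MulEquiv.ext fun u => Subtype.ext ((hθv _ u).trans (hg u).symm)⟩
      · rintro ⟨x, rfl⟩
        have hsub : SubpairLE p M (Q.map (MulAut.conj (x : G)).toMonoidHom) (conjBlock Q (x : G) f)
            P e := by
          show Relation.ReflTransGen (NormalSubpairRel p M) (conjIdx (x : G) ⟨Q, f⟩) ⟨P, e⟩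
          rw [(conjIdx_eq_self_iff hQb).mpr x.2]
          exact hle
        exact (hF.2 Q _).mpr ⟨subpair_le hle, (x : G), fun u => hθv x u, subpair_le hsub, f, hle,
          hsub⟩
    rw [hset, Subgroup.closure_eq]
  set R := P ⊓ Subgroup.normalizer (Q : Set G) with hR
  have hRT : R ≤ T := hlm.le
  have hind : autInducedBy P Q = (R.subgroupOf T).map θ := by
    rw [autInducedBy]
    have hset : {α : MulAut Q | ∃ g ∈ P, ∀ x : Q, ((α x : Q) : G) = g * (x : G) * g⁻¹} =
        (((R.subgroupOf T).map θ : Subgroup (MulAut Q)) : Set (MulAut Q)) := by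
      ext α
      constructor
      · rintro ⟨g, hg, hα⟩
        have hgN : g ∈ Subgroup.normalizer (Q : Set G) := by
          rw [Subgroup.mem_normalizer_iff]
          intro v
          constructor
          · intro hv
            rw [← hα ⟨v, hv⟩]
            exact (α ⟨v, hv⟩).2
          · intro hv
            obtain ⟨u, hu⟩ := α.surjective ⟨g * v * g⁻¹, hv⟩
            have := (hα u).symm.trans (congrArg Subtype.val hu)
            rw [← mul_left_cancel (mul_right_cancel this)]
            exact u.2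
        exact ⟨⟨g, hRT ⟨hg, hgN⟩⟩, ⟨hg, hgN⟩,
          MulEquiv.ext fun u => Subtype.ext ((hθv _ u).trans (hα u).symm)⟩
      · rintro ⟨x, hx, rfl⟩
        exact ⟨(x : G), (Subgroup.mem_subgroupOf.mp hx).1, fun u => hθv x u⟩
    rw [hset, Subgroup.closure_eq]
  have himg : ∀ X : Subgroup G, X ≤ T →
      Nat.card ((X.subgroupOf T).map θ) = (Subgroup.centralizer (Q : Set G)).relIndex X := by
    intro X hX
    rw [← Subgroup.relIndex_ker, hker, Subgroup.relIndex_subgroupOf hX]
  have hRp : IsPGroup p R := hlm.rel.2.1.1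
  refine ⟨subpair_le hle, ?_⟩
  rw [haut, hind]
  set U := ((R.subgroupOf T).map θ).subgroupOf θ.range with hU
  have hUle : (R.subgroupOf T).map θ ≤ θ.range := Subgroup.map_le_range _ _
  have hUp : IsPGroup p U :=
    IsPGroup.of_equiv ((hRp.comap_subtype (K := T)).map θ) (Subgroup.subgroupOfEquivOfLe hUle).symm
  have hUcard : Nat.card U = p ^ (Nat.card θ.range).factorization p := by
    obtain ⟨i, hi⟩ := IsPGroup.iff_card.mp hUp
    refine le_antisymm ?_ ?_
    · rw [hi]
      exact Nat.pow_le_pow_right hM.1.pos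
        ((Nat.Prime.pow_dvd_iff_le_factorization hM.1 Nat.card_pos.ne').mp
          (hi ▸ Subgroup.card_subgroup_dvd_card U))
    · let S : Sylow p T := default
      let S' : Sylow p θ.range := S.mapSurjective θ.rangeRestrict_surjective
      rw [← S'.card_eq_multiplicity]
      have h1 : Nat.card S' = Nat.card ((S : Subgroup T).map θ) := by
        show Nat.card ((S : Subgroup T).map θ.rangeRestrict) = _
        rw [Nat.card_congr (Subgroup.equivMapOfInjective ((S : Subgroup T).map θ.rangeRestrict)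
            θ.range.subtype (Subgroup.subtype_injective _)).toEquiv, Subgroup.map_map,
          MonoidHom.subtype_comp_rangeRestrict]
      have hS : (S : Subgroup T) = ((S : Subgroup T).map T.subtype).subgroupOf T :=
        (Subgroup.comap_map_eq_self_of_injective T.subtype_injective _).symm
      rw [h1, Nat.card_congr (Subgroup.subgroupOfEquivOfLe hUle).toEquiv, hS,
        himg _ (Subgroup.map_subtype_le _), himg R hRT]
      exact hlm.relIndex_le hM (isLocal_stabSub hQp) (S.isPGroup'.map _) (Subgroup.map_subtype_le _)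
  exact ⟨Sylow.ofCard U hUcard, rfl⟩

/-- Fully normalized subgroups are receptive. -/
theorem receptive_of_fullyNormalized (hM : IsPModular p M) {F : FusionSystem P}
    (hF : IsBlockFusionSystemOn p M B P e F) (hle : SubpairLE p M Q f P e) {h}
    (hhP : SubpairLE p M (P ⊓ Subgroup.normalizer (Q : Set G)) h P e)
    (hlm : IsLocalMax p M Q f (stabSub M Q f) (P ⊓ Subgroup.normalizer (Q : Set G)) h) :
    F.IsReceptive Q := by
  classical
  haveI := Fact.mk hM.1
  have hPe := hF.1.1.1
  have hPb : IsPBlock M (⟨P, e⟩ : BrauerPairIdx G).2 := hPe.2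
  have hQp : IsBrauerPair p M Q f := isBrauerPair_of_subpair hle hPe
  refine ⟨subpair_le hle, fun P₁ φ hφ hrange => ?_⟩
  obtain ⟨hP₁, g, hg, hmapP, f₁, hf₁, hfg⟩ := (hF.2 P₁ φ).mp hφ
  have hmap : P₁.map (MulAut.conj g).toMonoidHom = Q := by
    rw [← hrange]
    ext v
    constructor
    · rintro ⟨u, hu, rfl⟩
      exact ⟨⟨u, hu⟩, hg ⟨u, hu⟩⟩
    · rintro ⟨u, rfl⟩
      exact ⟨u, u.2, (hg u).symm⟩
  have hidx : conjIdx g (⟨P₁, f₁⟩ : BrauerPairIdx G) = ⟨Q, f⟩ := by
    refine Sigma.ext hmap ?_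
    revert hfg
    show SubpairLE p M (P₁.map (MulAut.conj g).toMonoidHom) (conjBlock P₁ g f₁) P e →
      HEq (conjBlock P₁ g f₁) f
    generalize conjBlock P₁ g f₁ = k
    revert k
    rw [hmap]
    intro k hk
    exact heq_of_eq (eq_of_below hM hPe _ Q rfl k f hk hle)
  set R := P ⊓ Subgroup.normalizer (Q : Set G) with hR
  set N := FusionSystem.extender P P₁ φ with hN
  have hNP : N ≤ P ⊓ Subgroup.normalizer (P₁ : Set G) :=
    (Subgroup.closure_le _).mpr fun x hx => ⟨hx.1, hx.2.1⟩
  have hP₁N : P₁ ≤ N := by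
    intro x hx
    refine Subgroup.subset_closure ⟨hP₁ hx, Subgroup.le_normalizer hx, φ ⟨x, hx⟩, ?_, fun u hu => ?_⟩
    · rw [hg]; exact hmapP ⟨x, hx, rfl⟩
    · rw [hg, hg, hg]
      group
  set H := R ⊔ Subgroup.centralizer (Q : Set G) with hH
  have hHT : H ≤ stabSub M Q f :=
    sup_le hlm.le (isLocal_stabSub hQp).cle
  have hLH : IsLocal p M Q f H :=
    ⟨hQp, (le_inf (subpair_le hle) Subgroup.le_normalizer).trans le_sup_left, le_sup_right,
      hHT.trans fun y hy => hy.1, fun y hy => (hHT hy).2⟩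
  obtain ⟨D, k, E, hD, -, -, hdef⟩ := exists_local_max hM hLH
  obtain ⟨hlmH, -⟩ := local_max_of_card hM hLH hD hdef hlm.rel le_sup_left
    (hlm.card_le (hD.le.trans hHT) hD.rel)
  -- the image of the extender lies in `H`
  have hNH : N.map (MulAut.conj g).toMonoidHom ≤ H := by
    rw [Subgroup.map_le_iff_le_comap]
    refine (Subgroup.closure_le _).mpr ?_
    rintro x ⟨hxP, hxN, y, hy, hxy⟩
    show g * x * g⁻¹ ∈ H
    have hyN : y ∈ Subgroup.normalizer (Q : Set G) := by
      rw [Subgroup.mem_normalizer_iff]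
      intro v
      constructor
      · intro hv
        rw [← hrange] at hv ⊢
        obtain ⟨u, rfl⟩ := hv
        exact ⟨_, hxy u ((Subgroup.mem_normalizer_iff.mp hxN _).mp u.2)⟩
      · intro hv
        rw [← hrange] at hv ⊢
        obtain ⟨u, hu⟩ := hv
        have hu' : x⁻¹ * (u : G) * x ∈ P₁ := (Subgroup.mem_normalizer_iff''.mp hxN _).mp u.2
        have h2 := hxy ⟨_, hu'⟩ (by rw [show x * (x⁻¹ * (u : G) * x) * x⁻¹ = u by group]; exact u.2)
        refine ⟨⟨_, hu'⟩, mul_left_cancel (a := y) (mul_right_cancel (b := y⁻¹) ?_)⟩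
        rw [← h2, ← hu]
        congr 1
        exact Subtype.ext (by group)
    have hc : y⁻¹ * (g * x * g⁻¹) ∈ Subgroup.centralizer (Q : Set G) := by
      rw [Subgroup.mem_centralizer_iff]
      intro v hv
      rw [SetLike.mem_coe, ← hrange] at hv
      obtain ⟨u, rfl⟩ := hv
      have h2 := hxy u ((Subgroup.mem_normalizer_iff.mp hxN _).mp u.2)
      rw [hg, hg] at h2
      rw [hg]
      have h3 : g * x * g⁻¹ * (g * (u : G) * g⁻¹) = y * (g * (u : G) * g⁻¹) * y⁻¹ * (g * x * g⁻¹) := by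
        rw [← h2]; group
      calc g * (u : G) * g⁻¹ * (y⁻¹ * (g * x * g⁻¹))
          = y⁻¹ * (y * (g * (u : G) * g⁻¹) * y⁻¹ * (g * x * g⁻¹)) := by group
        _ = y⁻¹ * (g * x * g⁻¹ * (g * (u : G) * g⁻¹)) := by rw [h3]
        _ = _ := by group
    rw [show g * x * g⁻¹ = y * (y⁻¹ * (g * x * g⁻¹)) by group]
    exact Subgroup.mul_mem_sup ⟨hy, hyN⟩ hc
  obtain ⟨kN, ⟨-, hkN⟩, -⟩ := existsUnique_below hM hPe (hNP.trans inf_le_left)
  have hrelN : NormalSubpairRel p M (⟨Q, f⟩ : BrauerPairIdx G) (conjIdx g ⟨N, kN⟩) := by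
    rw [← hidx]
    exact normalSubpair_conj hM (rel_of_below hM hPe hf₁ hP₁N (hNP.trans inf_le_right) hkN) g
  have hNb : IsPBlock M (⟨N, kN⟩ : BrauerPairIdx G).2 :=
    (isBrauerPair_of_subpair hkN hPe : IsBrauerPair p M N kN).2
  obtain ⟨t, ht, htR⟩ := hlmH.absorb _ _ hNH hrelN
  have htR' : Relation.ReflTransGen (NormalSubpairRel p M) (conjIdx (t * g) ⟨N, kN⟩)
      (⟨P, e⟩ : BrauerPairIdx G) := by
    rw [← conjIdx_conjIdx hNb]
    exact htR.trans hhP
  have ht' := ht
  rw [hH, ← SetLike.mem_coe, Subgroup.coe_mul_of_left_le_normalizer_right R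
    (Subgroup.centralizer (Q : Set G))
    ((inf_le_right).trans (normalizer_le_normalizer_centralizer Q))] at ht'
  obtain ⟨r, hr, c, hc, hrc⟩ := ht'
  have hcg : Relation.ReflTransGen (NormalSubpairRel p M) (conjIdx (c * g) ⟨N, kN⟩)
      (⟨P, e⟩ : BrauerPairIdx G) := by
    have := subpair_conj hM htR' r⁻¹
    rw [conjIdx_conjIdx hNb, conjIdx_self hPb (inv_mem hr.1)] at this
    rwa [← show r * c = t from hrc, show r⁻¹ * (r * c * g) = c * g by group] at this
  refine ⟨conjHom N (c * g), (hF.2 N _).mpr ⟨hNP.trans inf_le_left, c * g, fun _ => rfl,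
    subpair_le hcg, kN, hkN, hcg⟩, fun x hx _ => ?_⟩
  show c * g * x * (c * g)⁻¹ = φ ⟨x, hx⟩
  rw [hg]
  have hxQ : g * x * g⁻¹ ∈ Q := hmap ▸ ⟨x, hx, rfl⟩
  rw [show c * g * x * (c * g)⁻¹ = c * (g * x * g⁻¹) * c⁻¹ by group,
    ← Subgroup.mem_centralizer_iff.mp hc _ hxQ, mul_inv_cancel_right]

/-- The fusion system of a block is saturated. -/
theorem blockFusion_saturated (hM : IsPModular p M) (hmax : IsMaximalBrauerPair p M B P e) :
    (blockFusion hM hmax).IsSaturated p := by
  intro Q hQ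
  have hF := blockFusion_isOn hM hmax
  obtain ⟨f, ⟨hfb, hf⟩, -⟩ := existsUnique_below hM hmax.1.1 hQ
  obtain ⟨x, hx, hxm⟩ := exists_max_conj hf hfb
    fun X => Nat.card (P ⊓ Subgroup.normalizer (X : Set G) : Subgroup G)
  obtain ⟨h, E, hh, hlm, -⟩ := localMax_of_fullyNormalized hM hmax hx fun g hg => by
    have := hxm (g * x) (below_comp hM hfb hg)
    rw [← map_conj_map_conj] at this
    exact this
  exact ⟨_, (isConj_iff_below hM hF hf _).mpr ⟨x, rfl, hx⟩,
    fullyAutomized_of_fullyNormalized hM hF hx hlm, receptive_of_fullyNormalized hM hF hx hh hlm⟩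

end Fusion

end Cfsg.Agent.BPairs
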