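import Cfsg.Agent.Lib.BrauerPairs.Fusion

/-!
# Fusion below an abelian maximal pair

Conjugations between pairs below a maximal Brauer pair on an abelian subgroup are controlled by
the stabilizer of that pair.
-/

set_option linter.unusedSectionVars false

namespace Cfsg.Agent.BPairs

open MonoidAlgebra Blocks

universe u

variable {G : Type u} [Group G] [Finite G] {p : ℕ} {M : Ideal AlgInt} [M.IsPrime]

/-- Fusion below an abelian maximal pair. -/
theorem abelian_fusion (hM : IsPModular p M) {B : Set (IrrCharacter G)} {P Q Q' : Subgroup G}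
    {e : Set (IrrCharacter (Subgroup.centralizer (P : Set G)))}
    {f : Set (IrrCharacter (Subgroup.centralizer (Q : Set G)))}
    {f' : Set (IrrCharacter (Subgroup.centralizer (Q' : Set G)))}
    (hmax : IsMaximalBrauerPair p M B P e) (hP : P ≤ Subgroup.centralizer (P : Set G))
    (hle : SubpairLE p M Q f P e) (hle' : SubpairLE p M Q' f' P e) {h : G}
    (hh : conjIdx h (⟨Q, f⟩ : BrauerPairIdx G) = ⟨Q', f'⟩) :
    ∃ t ∈ stabSub M P e, ∃ c ∈ Subgroup.centralizer (Q' : Set G), h = c * t := by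
  have hQP := subpair_le hle
  have hQP' := subpair_le hle'
  have hPC : ∀ {R : Subgroup G}, R ≤ P → P ≤ Subgroup.centralizer (R : Set G) := fun hR =>
    hP.trans (Subgroup.centralizer_le hR)
  have hQp : IsBrauerPair p M Q' f' := isBrauerPair_of_subpair hle' hmax.1.1
  have hPb : IsPBlock M (⟨P, e⟩ : BrauerPairIdx G).2 := hmax.1.1.2
  obtain ⟨D, k, E, hD, -⟩ := exists_local_max hM
    (isLocal_centralizer hQp (hQP'.trans (hPC hQP')))
  -- both maximal pairs are moved to the local one
  have key : ∀ b : BrauerPairIdx G, IsMaximalBrauerPair p M B b.1 b.2 →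
      b.1 ≤ Subgroup.centralizer (Q' : Set G) →
      Relation.ReflTransGen (NormalSubpairRel p M) (⟨Q', f'⟩ : BrauerPairIdx G) b →
      ∃ t ∈ Subgroup.centralizer (Q' : Set G), conjIdx t b = ⟨D, k⟩ := by
    intro b hb hbC hQb
    have hrel : NormalSubpairRel p M (⟨Q', f'⟩ : BrauerPairIdx G) b :=
      rel_of_below hM hb.1.1 hQb (subpair_le hQb)
        (hbC.trans (Subgroup.centralizer_le_normalizer _)) Relation.ReflTransGen.refl
    obtain ⟨t, ht, htD⟩ := hD.absorb b.1 b.2 hbC hrel
    exact ⟨t, ht, maximal_of_chain hM (maximal_conj hM hb t) htD⟩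
  obtain ⟨t, ht, hte⟩ := key ⟨P, e⟩ hmax (hPC hQP') hle'
  obtain ⟨s, hs, hse⟩ := key (conjIdx h ⟨P, e⟩) (maximal_conj hM (a := ⟨P, e⟩) hmax h)
    (by
      have hQ' : Q' = Q.map (MulAut.conj h).toMonoidHom := (congrArg Sigma.fst hh).symm
      rintro _ ⟨u, hu, rfl⟩
      rw [hQ', Subgroup.mem_centralizer_iff]
      rintro _ ⟨v, hv, rfl⟩
      show (MulAut.conj h) v * (MulAut.conj h) u = (MulAut.conj h) u * (MulAut.conj h) v
      rw [← map_mul, ← map_mul, Subgroup.mem_centralizer_iff.mp (hPC hQP hu) v hv])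
    (by
      have := subpair_conj hM hle h
      rwa [hh] at this)
  refine ⟨t⁻¹ * (s * h), ?_, s⁻¹ * t, mul_mem (inv_mem hs) ht, by group⟩
  apply (conjIdx_eq_self_iff hPb).mp
  rw [← conjIdx_conjIdx hPb, ← conjIdx_conjIdx hPb, hse, ← hte, conjIdx_conjIdx hPb,
    inv_mul_cancel, conjIdx_one hPb]

end Cfsg.Agent.BPairs
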