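import Cfsg.Agent.Lib.BrauerPairs.Elem
import Cfsg.Agent.Lib.Blocks.Defect

/-!
# Brauer pairs through group algebra elements
-/

set_option linter.unusedSectionVars false

namespace Cfsg.Agent.BPairs

open MonoidAlgebra Blocks
open scoped ComplexConjugate

universe u

variable {G : Type u} [Group G] [Finite G] {p : ℕ} {M : Ideal AlgInt} [M.IsPrime]

/-! ### The idempotents of all blocks -/

section All

/-- The finite set of blocks. -/
noncomputable def blocks (M : Ideal AlgInt) (G : Type u) [Group G] [Finite G] :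
    Finset (Set (IrrCharacter G)) :=
  haveI := Fintype.ofFinite (IrrCharacter G)
  haveI := Classical.decPred fun B : Set (IrrCharacter G) => IsPBlock M B
  Finset.univ.filter fun B => IsPBlock M B

theorem mem_blocks {B : Set (IrrCharacter G)} : B ∈ blocks M G ↔ IsPBlock M B := by
  simp [blocks]

theorem bBar_mul_of_ne (hM : IsPModular p M) {B B' : Set (IrrCharacter G)} (hB : IsPBlock M B)
    (hB' : IsPBlock M B') (hne : B ≠ B') : bBar M B * bBar M B' = 0 := by
  have h1 := bBar_mul_self (M := M) (blockCoeff_mem_loc hB)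
  have h2 := bBar_mul_self (M := M) (blockCoeff_mem_loc hB')
  refine eq_zero_of_omegaBar hM _ (by rw [mul_mul_mul_comm, h1, h2]) fun χ => ?_
  rw [map_mul, omegaBar_bBar (blockCoeff_mem_loc hB), omegaBar_bBar (blockCoeff_mem_loc hB')]
  split_ifs with e e'
  · exact absurd (block_eq_of_mem hB hB' e e') hne
  all_goals simp

theorem sum_bBar (hM : IsPModular p M) : ∑ B ∈ blocks M G, bBar M B = 1 := by
  classical
  refine idem_ext hM ?_ (one_mul _) fun χ => ?_
  · rw [Finset.sum_mul]
    refine Finset.sum_congr rfl fun B hB => ?_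
    rw [Finset.mul_sum, Finset.sum_eq_single B]
    · exact bBar_mul_self (blockCoeff_mem_loc (mem_blocks.mp hB))
    · exact fun B' hB' hne => bBar_mul_of_ne hM (mem_blocks.mp hB) (mem_blocks.mp hB') hne.symm
    · exact fun h => absurd hB h
  · rw [map_sum, map_one, Finset.sum_eq_single (blockOf M (χ : G → ℂ))]
    · rw [omegaBar_bBar (blockCoeff_mem_loc (isPBlock_blockOf χ)), if_pos (self_mem_blockOf χ)]
    · intro B hB hne
      rw [omegaBar_bBar (blockCoeff_mem_loc (mem_blocks.mp hB)), if_neg]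
      exact fun h => hne (block_eq_blockOf (mem_blocks.mp hB) h)
    · exact fun h => absurd (mem_blocks.mpr (isPBlock_blockOf χ)) h

end All

/-! ### Idempotents of centralizer blocks -/

section Bel

theorem bel_mul_self (H : Subgroup G) {b : Set (IrrCharacter H)} (hb : IsPBlock M b) :
    bel M H b * bel M H b = bel M H b := by
  rw [bel, ← map_mul, ← Subring.coe_mul, bBar_mul_self (blockCoeff_mem_loc hb)]

theorem bel_mul_of_ne (hM : IsPModular p M) (H : Subgroup G) {b b' : Set (IrrCharacter H)}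
    (hb : IsPBlock M b) (hb' : IsPBlock M b') (hne : b ≠ b') : bel M H b * bel M H b' = 0 := by
  rw [bel, bel, ← map_mul, ← Subring.coe_mul, bBar_mul_of_ne hM hb hb' hne]
  simp

theorem bel_injective (H : Subgroup G) {b b' : Set (IrrCharacter H)} (hb : IsPBlock M b)
    (hb' : IsPBlock M b') (h : bel M H b = bel M H b') : b = b' := by
  obtain ⟨χ, hχ⟩ := block_nonempty hb
  have h' : bBar M b = bBar M b' := Subtype.ext (embH_injective H h)
  have := congrArg (omegaBar M χ) h'
  rw [omegaBar_bBar_eq_one_of hb hχ, omegaBar_bBar (blockCoeff_mem_loc hb')] at this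
  split_ifs at this with e
  · exact block_eq_of_mem hb hb' hχ e
  · exact absurd this one_ne_zero
where
  omegaBar_bBar_eq_one_of {b : Set (IrrCharacter H)} (hb : IsPBlock M b) {χ : IrrCharacter H}
      (hχ : χ ∈ b) : omegaBar M χ (bBar M b) = 1 := by
    rw [omegaBar_bBar (blockCoeff_mem_loc hb), if_pos hχ]

theorem bel_ne_zero (H : Subgroup G) {b : Set (IrrCharacter H)} (hb : IsPBlock M b) :
    bel M H b ≠ 0 := by
  intro h
  obtain ⟨χ, hχ⟩ := block_nonempty hb
  have h0 : bBar M b = 0 := Subtype.ext (embH_injective H (h.trans (map_zero _).symm))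
  have := congrArg (omegaBar M χ) h0
  rw [omegaBar_bBar (blockCoeff_mem_loc hb), if_pos hχ, map_zero] at this
  exact one_ne_zero this

theorem isInv_bel (H : Subgroup G) (b : Set (IrrCharacter H)) : IsInv H (bel M H b) :=
  isInv_embH le_rfl (bBar M b).2

theorem resH_bel (H : Subgroup G) (b : Set (IrrCharacter H)) :
    resH H (bel M H b) = (bBar M b : MonoidAlgebra (Res M) H) := resH_embH H _

theorem sum_bel (hM : IsPModular p M) (H : Subgroup G) :
    ∑ b ∈ blocks M H, bel M H b = 1 := by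
  simp only [bel]
  rw [← map_sum, ← AddSubmonoidClass.coe_finsetSum, sum_bBar hM, OneMemClass.coe_one, map_one]

theorem val_bel {P : Subgroup G} {b : Set (IrrCharacter (Subgroup.centralizer (P : Set G)))}
    (hb : IsPBlock M b) (ξ : IrrCharacter (Subgroup.centralizer (P : Set G))) [Decidable (ξ ∈ b)] :
    val M P ξ (bel M (Subgroup.centralizer (P : Set G)) b) = if ξ ∈ b then 1 else 0 := by
  have hm := resH_mem_center_of_isInv (P := P) (isInv_bel (M := M) _ b)
  rw [val_eq_omegaBar P ξ hm,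
    show (⟨_, hm⟩ : ZG (Res M) _) = bBar M b from Subtype.ext (resH_bel _ b),
    omegaBar_bBar (blockCoeff_mem_loc hb)]
  split_ifs <;> rfl

/-- An idempotent element occurs at `(P, e)`. -/
def Occ (M : Ideal AlgInt) [M.IsPrime] (P : Subgroup G)
    (e : Set (IrrCharacter (Subgroup.centralizer (P : Set G)))) (a : MonoidAlgebra (Res M) G) :
    Prop :=
  ∀ ξ ∈ e, val M P ξ a = 1

theorem occ_of_mem {P : Subgroup G} {e : Set (IrrCharacter (Subgroup.centralizer (P : Set G)))}
    (he : IsPBlock M e) {ξ : IrrCharacter (Subgroup.centralizer (P : Set G))} (hξ : ξ ∈ e)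
    {a : MonoidAlgebra (Res M) G} (h : val M P ξ a = 1) : Occ M P e a :=
  fun _ hη => (val_congr_block ((mem_block_iff he hξ).mp hη) a).symm.trans h

/-- Invariance under a subgroup and the centralizer of it. -/
def Inv2 (P : Subgroup G) (a : MonoidAlgebra (Res M) G) : Prop :=
  IsInv P a ∧ IsInv (Subgroup.centralizer (P : Set G)) a

theorem inv2_mul {P : Subgroup G} {a b : MonoidAlgebra (Res M) G} (ha : Inv2 P a) (hb : Inv2 P b) :
    Inv2 P (a * b) := ⟨isInv_mul ha.1 hb.1, isInv_mul ha.2 hb.2⟩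

theorem inv2_center (P : Subgroup G) {a : MonoidAlgebra (Res M) G}
    (ha : a ∈ Subring.center (MonoidAlgebra (Res M) G)) : Inv2 P a :=
  ⟨isInv_of_mem_center _ ha, isInv_of_mem_center _ ha⟩

theorem val_zero_or_one (hM : IsPModular p M) {P : Subgroup G} (hP : IsPGroup p P)
    (ξ : IrrCharacter (Subgroup.centralizer (P : Set G))) {a : MonoidAlgebra (Res M) G}
    (ha : Inv2 P a) (haa : a * a = a) : val M P ξ a = 0 ∨ val M P ξ a = 1 := by
  have h := val_mul hM hP ξ ha.1 ha.1 ha.2 ha.2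
  rw [haa] at h
  rcases eq_or_ne (val M P ξ a) 0 with h0 | h0
  · exact Or.inl h0
  · exact Or.inr ((mul_eq_left₀ h0).mp h.symm)

/-- A nonzero restriction has an occurrence. -/
theorem exists_occ (hM : IsPModular p M) {P : Subgroup G} (hP : IsPGroup p P)
    {a : MonoidAlgebra (Res M) G} (ha : Inv2 P a) (haa : a * a = a) {u : G}
    (hu : u ∈ Subgroup.centralizer (P : Set G)) (hau : a.coeff u ≠ 0) :
    ∃ e, IsPBlock M e ∧ Occ M P e a := by
  have hm := resH_mem_center_of_isInv (P := P) ha.2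
  have hidem : (⟨_, hm⟩ : ZG (Res M) (Subgroup.centralizer (P : Set G))) * ⟨_, hm⟩ = ⟨_, hm⟩ :=
    Subtype.ext (by rw [Subring.coe_mul, ← resH_mul_of_isInv hM hP ha.1 ha.1, haa])
  by_contra hne
  push Not at hne
  have h0 := eq_zero_of_omegaBar hM _ hidem fun ξ => by
    rw [← val_eq_omegaBar P ξ hm]
    rcases val_zero_or_one hM hP ξ ha haa with h | h
    · exact h
    · exact absurd (occ_of_mem (isPBlock_blockOf ξ) (self_mem_blockOf ξ) h)
        (hne _ (isPBlock_blockOf ξ))
  apply hau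
  have := congrArg (fun z : ZG (Res M) (Subgroup.centralizer (P : Set G)) =>
    (z : MonoidAlgebra (Res M) (Subgroup.centralizer (P : Set G))).coeff ⟨u, hu⟩) h0
  simpa using this

/-- An occurring element fixes the idempotent of the block on the restriction. -/
theorem resH_mul_of_occ (hM : IsPModular p M) {P : Subgroup G} (hP : IsPGroup p P)
    {e : Set (IrrCharacter (Subgroup.centralizer (P : Set G)))} (he : IsPBlock M e)
    {a : MonoidAlgebra (Res M) G} (ha : Inv2 P a) (haa : a * a = a) (h : Occ M P e a) :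
    resH (Subgroup.centralizer (P : Set G)) a *
        (bBar M e : MonoidAlgebra (Res M) (Subgroup.centralizer (P : Set G))) =
      (bBar M e : MonoidAlgebra (Res M) (Subgroup.centralizer (P : Set G))) := by
  have hm := resH_mem_center_of_isInv (P := P) ha.2
  have hidem : (⟨_, hm⟩ : ZG (Res M) (Subgroup.centralizer (P : Set G))) * ⟨_, hm⟩ = ⟨_, hm⟩ :=
    Subtype.ext (by rw [Subring.coe_mul, ← resH_mul_of_isInv hM hP ha.1 ha.1, haa])
  have hee := bBar_mul_self (M := M) (blockCoeff_mem_loc he)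
  have := idem_ext hM (a := (⟨_, hm⟩ : ZG (Res M) _) * bBar M e) (b := bBar M e)
    (by rw [mul_mul_mul_comm, hidem, hee]) hee fun χ => by
      classical
      rw [map_mul, omegaBar_bBar (blockCoeff_mem_loc he), ← val_eq_omegaBar P χ hm]
      split_ifs with e'
      · rw [h χ e', one_mul]
      · rw [mul_zero]
  exact congrArg Subtype.val this

end Bel

/-! ### Conjugation of blocks of subgroups -/

section ConjBlocks

/-- Conjugation as an isomorphism of subgroups. -/
def cIso (x : G) (H H' : Subgroup G) (h : ∀ u, u ∈ H ↔ x * u * x⁻¹ ∈ H') : H' ≃* H where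
  toFun k := ⟨x⁻¹ * (k : G) * x, (h _).mpr (by simpa [mul_assoc] using k.2)⟩
  invFun k := ⟨x * (k : G) * x⁻¹, (h _).mp k.2⟩
  left_inv k := Subtype.ext (by simp [mul_assoc])
  right_inv k := Subtype.ext (by simp [mul_assoc])
  map_mul' a b := Subtype.ext (by simp [mul_assoc])

/-- The conjugate of a set of irreducible characters. -/
def conjSet (x : G) (H H' : Subgroup G) (h : ∀ u, u ∈ H ↔ x * u * x⁻¹ ∈ H')
    (b : Set (IrrCharacter H)) : Set (IrrCharacter H') :=
  pullSet (cIso x H H' h) b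

theorem mem_conjSet_iff (x : G) (H H' : Subgroup G) (h : ∀ u, u ∈ H ↔ x * u * x⁻¹ ∈ H')
    (b : Set (IrrCharacter H)) (ξ' : IrrCharacter H') :
    ξ' ∈ conjSet x H H' h b ↔ ∃ ξ ∈ b, ∀ (c : H) (c' : H'), (c' : G) = x * (c : G) * x⁻¹ →
      (ξ' : H' → ℂ) c' = (ξ : H → ℂ) c := by
  constructor
  · intro hξ
    refine ⟨_, hξ, fun c c' hc => ?_⟩
    show (ξ' : H' → ℂ) c' = (ξ' : H' → ℂ) ((cIso x H H' h).symm c)
    exact congrArg _ (Subtype.ext hc)
  · rintro ⟨ξ, hξ, hh⟩
    show Glauberman.compIrr (cIso x H H' h).symm ξ' ∈ b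
    rwa [show Glauberman.compIrr (cIso x H H' h).symm ξ' = ξ from
      Subtype.ext (funext fun c => hh c _ rfl)]

theorem bel_conjSet (x : G) (H H' : Subgroup G) (h : ∀ u, u ∈ H ↔ x * u * x⁻¹ ∈ H')
    {b : Set (IrrCharacter H)} (hb : IsPBlock M b) :
    bel M H' (conjSet x H H' h b) = conjA x (bel M H b) := by
  refine MonoidAlgebra.ext (Finsupp.ext fun u => ?_)
  rw [coeff_conjA]
  by_cases hu : u ∈ H'
  · rw [show u = ((⟨u, hu⟩ : H') : G) from rfl, coeff_bel, conjSet, bBar_pullSet _ hb, ← coeff_bel]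
    rfl
  · rw [bel, bel, coeff_embH_of_notMem _ _ hu, coeff_embH_of_notMem]
    intro hmem
    exact hu (by simpa [mul_assoc] using (h _).mp hmem)

theorem conjA_bel_iff_stabilizes (x : G) (H : Subgroup G) {b : Set (IrrCharacter H)}
    (hb : IsPBlock M b) (hx : x ∈ Subgroup.normalizer (H : Set G)) :
    StabilizesBlock H b x ↔ conjA x (bel M H b) = bel M H b := by
  have h : ∀ u, u ∈ H ↔ x * u * x⁻¹ ∈ H := fun u => Subgroup.mem_normalizer_iff.mp hx u
  have hb' : IsPBlock M (conjSet x H H h b) := isPBlock_pullSet _ hb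
  constructor
  · intro hs
    rw [← bel_conjSet x H H h hb]
    congr 1
    obtain ⟨χ, hχ⟩ := block_nonempty hb
    obtain ⟨χ', hχ', hc⟩ := hs.2 χ hχ
    exact block_eq_of_mem hb' hb ((mem_conjSet_iff x H H h b χ').mpr ⟨χ, hχ, hc⟩) hχ'
  · intro he
    rw [← bel_conjSet x H H h hb] at he
    have e := bel_injective H hb' hb he
    refine ⟨hx, fun χ hχ => ⟨Glauberman.compIrr (cIso x H H h) χ, ?_, fun k k' hk => ?_⟩⟩
    · have : Glauberman.compIrr (cIso x H H h) χ ∈ conjSet x H H h b :=
        (compIrr_mem_pullSet _).mpr hχ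
      rwa [e] at this
    · show (χ : H → ℂ) _ = (χ : H → ℂ) k
      exact congrArg _ (Subtype.ext (by
        show x⁻¹ * (k' : G) * x = k
        rw [hk]; simp [mul_assoc]))

end ConjBlocks

/-! ### Statements in terms of the elements -/

section Bridge

theorem conj_mem_centralizer {P : Subgroup G} {x u : G} :
    u ∈ Subgroup.centralizer (P : Set G) ↔
      x * u * x⁻¹ ∈ Subgroup.centralizer
        ((P.map (MulAut.conj x).toMonoidHom : Subgroup G) : Set G) := by
  simp only [Subgroup.mem_centralizer_iff, SetLike.mem_coe, Subgroup.mem_map]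
  constructor
  · rintro h _ ⟨q, hq, rfl⟩
    show x * q * x⁻¹ * (x * u * x⁻¹) = x * u * x⁻¹ * (x * q * x⁻¹)
    calc x * q * x⁻¹ * (x * u * x⁻¹) = x * (q * u) * x⁻¹ := by group
      _ = x * (u * q) * x⁻¹ := by rw [h q hq]
      _ = _ := by group
  · intro h q hq
    have h1 : x * q * x⁻¹ * (x * u * x⁻¹) = x * u * x⁻¹ * (x * q * x⁻¹) := h _ ⟨q, hq, rfl⟩
    calc q * u = x⁻¹ * (x * q * x⁻¹ * (x * u * x⁻¹)) * x := by group
      _ = x⁻¹ * (x * u * x⁻¹ * (x * q * x⁻¹)) * x := by rw [h1]
      _ = u * q := by group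

theorem normalizer_le_normalizer_centralizer (Q : Subgroup G) :
    Subgroup.normalizer (Q : Set G) ≤
      Subgroup.normalizer (Subgroup.centralizer (Q : Set G) : Set G) := by
  intro x hx
  rw [Subgroup.mem_normalizer_iff]
  exact fun u => (centralizer_conj_mem hx).symm

theorem brauerOmega_iff {P : Subgroup G} {β : G → ℂ} {a : MonoidAlgebra (Res M) G}
    (hβ : ∀ u, β u ∈ Loc M) (hred : ∀ u, a.coeff u = red M ⟨β u, hβ u⟩)
    (hinv : ∀ c ∈ Subgroup.centralizer (P : Set G), ∀ u, β (c * u * c⁻¹) = β u)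
    (ξ : IrrCharacter (Subgroup.centralizer (P : Set G))) :
    MemLocalIdeal M (brauerOmega P β (ξ : Subgroup.centralizer (P : Set G) → ℂ) - 1) ↔
      val M P ξ a = 1 := by
  classical
  haveI := Fintype.ofFinite (Subgroup.centralizer (P : Set G))
  have hz : ofFun (fun u : (Subgroup.centralizer (P : Set G)) => (⟨β u, hβ u⟩ : Loc M)) ∈
      Subring.center (MonoidAlgebra (Loc M) (Subgroup.centralizer (P : Set G))) := by
    rw [mem_center_iff_isClassFn]
    intro g c
    simp only [coeff_ofFun]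
    exact Subtype.ext (hinv c.1 c.2 g.1)
  set z : ZG (Loc M) (Subgroup.centralizer (P : Set G)) := ⟨_, hz⟩ with hzdef
  have h1 : ((omegaL M ξ z : Loc M) : ℂ) = brauerOmega P β (ξ : Subgroup.centralizer (P : Set G) → ℂ) := by
    rw [coe_omegaL, omega, ev_eq_sum, brauerOmega, finsum_eq_sum_of_fintype, Finset.sum_div]
    refine Finset.sum_congr rfl fun u _ => ?_
    rw [hzdef, toC, coeff_map', coeff_ofFun]
    rfl
  have ha : IsInv (Subgroup.centralizer (P : Set G)) a := fun c hc u => by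
    rw [hred, hred]
    exact congrArg _ (Subtype.ext (hinv c hc u))
  have hm := resH_mem_center_of_isInv (P := P) ha
  have h2 : (⟨_, hm⟩ : ZG (Res M) (Subgroup.centralizer (P : Set G))) = redZ M (Subgroup.centralizer (P : Set G)) z :=
    Subtype.ext (MonoidAlgebra.ext (Finsupp.ext fun u => by
      rw [coe_redZ, hzdef, coeff_map', coeff_resH, coeff_ofFun, hred]))
  rw [val_eq_omegaBar P ξ hm, h2, omegaBar_redZ, ← h1]
  rw [show (1 : ℂ) = ((1 : Loc M) : ℂ) from rfl, ← red_eq_iff, map_one]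

theorem isBrauerPairOf_iff {Q : Subgroup G}
    {e : Set (IrrCharacter (Subgroup.centralizer (Q : Set G)))} {B : Set (IrrCharacter G)} :
    IsBrauerPairOf p M B Q e ↔ IsPGroup p Q ∧ IsPBlock M e ∧ IsPBlock M B ∧
      Occ M Q e (bBar M B : MonoidAlgebra (Res M) G) := by
  constructor
  · rintro ⟨⟨hQ, he⟩, hB, h⟩
    exact ⟨hQ, he, hB, fun ξ hξ => (brauerOmega_iff (blockCoeff_mem_loc hB)
      (fun u => coeff_bBar _ u)
      (fun c _ u => blockCoeff_congr B (isConj_iff.mpr ⟨c⁻¹, by group⟩)) ξ).mp (h ξ hξ)⟩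
  · rintro ⟨hQ, he, hB, h⟩
    exact ⟨⟨hQ, he⟩, hB, fun ξ hξ => (brauerOmega_iff (blockCoeff_mem_loc hB)
      (fun u => coeff_bBar _ u)
      (fun c _ u => blockCoeff_congr B (isConj_iff.mpr ⟨c⁻¹, by group⟩)) ξ).mpr (h ξ hξ)⟩

theorem subgroupBlockCoeff_mem_loc {H : Subgroup G} {b : Set (IrrCharacter H)}
    (hb : IsPBlock M b) (u : G) : subgroupBlockCoeff H b u ∈ Loc M := by
  unfold subgroupBlockCoeff
  split_ifs
  · exact blockCoeff_mem_loc hb _
  · exact zero_mem _

theorem coeff_bel_eq {H : Subgroup G} {b : Set (IrrCharacter H)} (hb : IsPBlock M b) (u : G) :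
    (bel M H b).coeff u =
      red M ⟨subgroupBlockCoeff H b u, subgroupBlockCoeff_mem_loc hb u⟩ := by
  by_cases hu : u ∈ H
  · rw [show (bel M H b).coeff u = (bel M H b).coeff ((⟨u, hu⟩ : H) : G) from rfl, coeff_bel,
      coeff_bBar (blockCoeff_mem_loc hb)]
    exact congrArg _ (Subtype.ext (by simp [subgroupBlockCoeff, hu]))
  · rw [bel, coeff_embH_of_notMem _ _ hu, eq_comm,
      show (⟨subgroupBlockCoeff H b u, subgroupBlockCoeff_mem_loc hb u⟩ : Loc M) = 0 from
        Subtype.ext (by simp [subgroupBlockCoeff, hu]), map_zero]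

theorem subgroupBlockCoeff_conj {H : Subgroup G} (b : Set (IrrCharacter H)) {c : G} (hc : c ∈ H)
    (u : G) : subgroupBlockCoeff H b (c * u * c⁻¹) = subgroupBlockCoeff H b u := by
  by_cases hu : u ∈ H
  · have hu' : c * u * c⁻¹ ∈ H := mul_mem (mul_mem hc hu) (inv_mem hc)
    simp only [subgroupBlockCoeff, dif_pos hu, dif_pos hu']
    exact blockCoeff_congr b (isConj_iff.mpr ⟨⟨c⁻¹, inv_mem hc⟩, Subtype.ext (by
      show c⁻¹ * (c * u * c⁻¹) * c⁻¹⁻¹ = u
      group)⟩)
  · have hu' : c * u * c⁻¹ ∉ H := fun h => hu (by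
      simpa [mul_assoc] using mul_mem (mul_mem (inv_mem hc) h) hc)
    simp only [subgroupBlockCoeff, dif_neg hu, dif_neg hu']

theorem isNormalSubpair_iff {Q P : Subgroup G}
    {f : Set (IrrCharacter (Subgroup.centralizer (Q : Set G)))}
    {e : Set (IrrCharacter (Subgroup.centralizer (P : Set G)))} :
    IsNormalSubpair p M Q f P e ↔ IsBrauerPair p M Q f ∧ IsBrauerPair p M P e ∧ Q ≤ P ∧
      P ≤ Subgroup.normalizer (Q : Set G) ∧
      (∀ x ∈ P, conjA x (bel M _ f) = bel M _ f) ∧ Occ M P e (bel M _ f) := by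
  constructor
  · rintro ⟨hf, he, hQP, hPN, hst, h⟩
    exact ⟨hf, he, hQP, hPN, fun x hx => (conjA_bel_iff_stabilizes x _ hf.2
      (normalizer_le_normalizer_centralizer Q (hPN hx))).mp (hst x hx), fun ξ hξ =>
      (brauerOmega_iff (subgroupBlockCoeff_mem_loc hf.2) (coeff_bel_eq hf.2)
        (fun c hc u => subgroupBlockCoeff_conj f
          (Subgroup.centralizer_le (fun _ h => hQP h) hc) u) ξ).mp (h ξ hξ)⟩
  · rintro ⟨hf, he, hQP, hPN, hst, h⟩
    exact ⟨hf, he, hQP, hPN, fun x hx => (conjA_bel_iff_stabilizes x _ hf.2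
      (normalizer_le_normalizer_centralizer Q (hPN hx))).mpr (hst x hx), fun ξ hξ =>
      (brauerOmega_iff (subgroupBlockCoeff_mem_loc hf.2) (coeff_bel_eq hf.2)
        (fun c hc u => subgroupBlockCoeff_conj f
          (Subgroup.centralizer_le (fun _ h => hQP h) hc) u) ξ).mpr (h ξ hξ)⟩

end Bridge

end Cfsg.Agent.BPairs
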