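import Cfsg.Prelude.Def_BrauerPairs
import Cfsg.Agent.Lib.Blocks.Subgroup
import Cfsg.Agent.Lib.Glauberman.Solvable

/-!
# Block idempotents of centralizers as elements of the group algebra in characteristic `p`

`bel M H b` is the reduced idempotent of the block `b` of the subgroup `H`, as an element of the
group algebra of `G`; `val M P ξ a` is the central character of `ξ` at the restriction of `a` to
the centralizer of `P`.
-/

set_option linter.unusedSectionVars false

namespace Cfsg.Agent.BPairs

open MonoidAlgebra Blocks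
open scoped ComplexConjugate

universe u v

/-! ### Transport along isomorphisms -/

section Transport

variable {G : Type u} [Group G] {H : Type u} [Group H] (e : H ≃* G)

theorem index_centralizer_map (h : H) :
    (Subgroup.centralizer ({e h} : Set G)).index =
      (Subgroup.centralizer ({h} : Set H)).index := by
  have : (Subgroup.centralizer ({h} : Set H)) =
      (Subgroup.centralizer ({e h} : Set G)).comap e.toMonoidHom := by
    ext x
    simp only [Subgroup.mem_comap, Subgroup.mem_centralizer_singleton_iff,
      MulEquiv.coe_toMonoidHom, ← map_mul, e.injective.eq_iff]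
  rw [this, Subgroup.index_comap_of_surjective _ e.surjective]

theorem centralChar_comp (χ : G → ℂ) (h : H) :
    centralChar (fun x => χ (e x)) h = centralChar χ (e h) := by
  rw [centralChar, centralChar, index_centralizer_map, map_one]

variable {M : Ideal AlgInt}

/-- The preimage of a set of irreducible characters along an isomorphism. -/
def pullSet (b : Set (IrrCharacter G)) : Set (IrrCharacter H) :=
  {ξ | Glauberman.compIrr e.symm ξ ∈ b}

theorem compIrr_mem_pullSet {b : Set (IrrCharacter G)} {χ : IrrCharacter G} :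
    Glauberman.compIrr e χ ∈ pullSet e b ↔ χ ∈ b := by
  have h : Glauberman.compIrr e.symm (Glauberman.compIrr e χ) = χ :=
    (Glauberman.compIrrEquiv e).symm_apply_apply χ
  show Glauberman.compIrr e.symm (Glauberman.compIrr e χ) ∈ b ↔ _
  rw [h]

theorem pullSet_blockOf (χ : IrrCharacter G) :
    pullSet e (blockOf M (χ : G → ℂ)) = blockOf M (Glauberman.compIrr e χ : H → ℂ) := by
  ext ξ
  have hc : ∀ h, centralChar (ξ : H → ℂ) h =
      centralChar (Glauberman.compIrr e.symm ξ : G → ℂ) (e h) := by
    intro h
    rw [← centralChar_comp e]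
    congr 1
    funext x
    simp [Glauberman.compIrr_apply]
  show SameBlock M _ _ ↔ SameBlock M _ _
  constructor
  · intro h g
    rw [show (Glauberman.compIrr e χ : H → ℂ) = fun x => (χ : G → ℂ) (e x) from rfl,
      centralChar_comp, hc]
    exact h (e g)
  · intro h g
    have := h (e.symm g)
    rw [show (Glauberman.compIrr e χ : H → ℂ) = fun x => (χ : G → ℂ) (e x) from rfl,
      centralChar_comp, hc, MulEquiv.apply_symm_apply] at this
    exact this

theorem isPBlock_pullSet {b : Set (IrrCharacter G)} (hb : IsPBlock M b) :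
    IsPBlock M (pullSet e b) := by
  obtain ⟨χ, rfl⟩ := hb
  exact ⟨Glauberman.compIrr e χ, pullSet_blockOf e χ⟩

theorem blockCoeff_pullSet [Finite G] (b : Set (IrrCharacter G)) (h : H) :
    blockCoeff (pullSet e b) h = blockCoeff b (e h) := by
  rw [blockCoeff, blockCoeff, Nat.card_congr e.toEquiv]
  congr 1
  refine finsum_mem_eq_of_bijOn (Glauberman.compIrrEquiv e).symm ⟨fun ξ hξ => hξ,
    (Glauberman.compIrrEquiv e).symm.injective.injOn, fun χ hχ => ?_⟩ fun ξ _ => ?_
  · exact ⟨Glauberman.compIrr e χ, (compIrr_mem_pullSet e).mpr hχ,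
      (Glauberman.compIrrEquiv e).symm_apply_apply χ⟩
  · show _ = (ξ : H → ℂ) (e.symm 1) * conj ((ξ : H → ℂ) (e.symm (e h)))
    rw [map_one, MulEquiv.symm_apply_apply]

end Transport

/-! ### Conjugation in the group algebra -/

section Conj

variable {G : Type u} [Group G] {R : Type v} [CommRing R]

/-- Conjugation of an element of the group algebra. -/
noncomputable def conjA (x : G) (a : MonoidAlgebra R G) : MonoidAlgebra R G :=
  single x 1 * a * single x⁻¹ 1

theorem coeff_conjA (x : G) (a : MonoidAlgebra R G) (u : G) :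
    (conjA x a).coeff u = a.coeff (x⁻¹ * u * x) := by
  rw [conjA, coeff_mul_single', coeff_single_mul', inv_inv, mul_one, one_mul, mul_assoc]

theorem conjA_eq_self_iff (x : G) (a : MonoidAlgebra R G) :
    conjA x a = a ↔ ∀ u, a.coeff (x⁻¹ * u * x) = a.coeff u := by
  constructor
  · intro h u
    rw [← coeff_conjA, h]
  · intro h
    refine MonoidAlgebra.ext (Finsupp.ext fun u => ?_)
    rw [coeff_conjA, h]

theorem conjA_mul (x : G) (a b : MonoidAlgebra R G) : conjA x (a * b) = conjA x a * conjA x b := by
  have h : (single x⁻¹ (1 : R) : MonoidAlgebra R G) * single x 1 = 1 := by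
    rw [single_mul_single, inv_mul_cancel, one_mul]; rfl
  simp only [conjA, mul_assoc]
  rw [← mul_assoc (single x⁻¹ (1 : R)), h, one_mul]

theorem conjA_sum {ι : Type*} (s : Finset ι) (x : G) (f : ι → MonoidAlgebra R G) :
    conjA x (∑ i ∈ s, f i) = ∑ i ∈ s, conjA x (f i) := by
  simp only [conjA, Finset.mul_sum, Finset.sum_mul]

theorem conjA_conjA (x y : G) (a : MonoidAlgebra R G) :
    conjA x (conjA y a) = conjA (x * y) a := by
  refine MonoidAlgebra.ext (Finsupp.ext fun u => ?_)
  simp only [coeff_conjA]
  congr 1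
  group

theorem conjA_one (a : MonoidAlgebra R G) : conjA 1 a = a := by
  refine MonoidAlgebra.ext (Finsupp.ext fun u => ?_)
  simp [coeff_conjA]

theorem isInv_iff_conjA {Q : Subgroup G} {a : MonoidAlgebra R G} :
    IsInv Q a ↔ ∀ x ∈ Q, conjA x a = a := by
  constructor
  · intro h x hx
    rw [conjA_eq_self_iff]
    intro u
    simpa using h x⁻¹ (inv_mem hx) u
  · intro h q hq u
    have := (conjA_eq_self_iff q⁻¹ a).mp (h q⁻¹ (inv_mem hq)) u
    simpa using this

theorem conjA_of_mem_center [Finite G] (x : G) {a : MonoidAlgebra R G}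
    (ha : a ∈ Subring.center (MonoidAlgebra R G)) : conjA x a = a :=
  isInv_iff_conjA.mp (isInv_of_mem_center ⊤ ha) x trivial

end Conj

/-! ### Values at truncations -/

section Val

variable {G : Type u} [Group G] [Finite G] {p : ℕ} (M : Ideal AlgInt) [M.IsPrime]

/-- The reduced idempotent of a block of a subgroup inside the group algebra of `G`. -/
noncomputable def bel (H : Subgroup G) (b : Set (IrrCharacter H)) : MonoidAlgebra (Res M) G :=
  embH H (bBar M b : MonoidAlgebra (Res M) H)

/-- The central character of `ξ` at the restriction of `a` to the centralizer of `P`. -/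
noncomputable def val (P : Subgroup G) (ξ : IrrCharacter (Subgroup.centralizer (P : Set G)))
    (a : MonoidAlgebra (Res M) G) : Res M :=
  ∑ K : ConjClasses (Subgroup.centralizer (P : Set G)),
    a.coeff ((rep K : Subgroup.centralizer (P : Set G)) : G) * red M (centralCharL M ξ (rep K))

variable {M}

theorem coeff_bel (H : Subgroup G) (b : Set (IrrCharacter H)) (h : H) :
    (bel M H b).coeff (h : G) = (bBar M b : MonoidAlgebra (Res M) H).coeff h :=
  coeff_embH H _ h

theorem coeff_bBar {A : Set (IrrCharacter G)} (hA : ∀ u, blockCoeff A u ∈ Loc M) (u : G) :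
    (bBar M A : MonoidAlgebra (Res M) G).coeff u = red M ⟨blockCoeff A u, hA u⟩ := by
  rw [bBar, coe_redZ, coeff_map', coeff_bIdem hA]

theorem bBar_pullSet {H : Type u} [Group H] [Finite H] (e : H ≃* G) {b : Set (IrrCharacter G)}
    (hb : IsPBlock M b) (h : H) :
    (bBar M (pullSet e b) : MonoidAlgebra (Res M) H).coeff h =
      (bBar M b : MonoidAlgebra (Res M) G).coeff (e h) := by
  rw [coeff_bBar (blockCoeff_mem_loc (isPBlock_pullSet e hb)),
    coeff_bBar (blockCoeff_mem_loc hb)]
  congr 1
  exact Subtype.ext (blockCoeff_pullSet e b h)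

theorem val_eq_omegaBar (P : Subgroup G) (ξ : IrrCharacter (Subgroup.centralizer (P : Set G)))
    {a : MonoidAlgebra (Res M) G}
    (ha : resH (Subgroup.centralizer (P : Set G)) a ∈
      Subring.center (MonoidAlgebra (Res M) (Subgroup.centralizer (P : Set G)))) :
    val M P ξ a = omegaBar M ξ ⟨_, ha⟩ := by
  rw [omegaBar_apply]
  exact Finset.sum_congr rfl fun K _ => by rw [coeff_resH]

theorem val_add (P : Subgroup G) (ξ : IrrCharacter (Subgroup.centralizer (P : Set G)))
    (a b : MonoidAlgebra (Res M) G) : val M P ξ (a + b) = val M P ξ a + val M P ξ b := by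
  simp only [val, coeff_add, Finsupp.add_apply, add_mul, Finset.sum_add_distrib]

theorem val_sum {ι : Type*} (s : Finset ι) (P : Subgroup G)
    (ξ : IrrCharacter (Subgroup.centralizer (P : Set G))) (f : ι → MonoidAlgebra (Res M) G) :
    val M P ξ (∑ i ∈ s, f i) = ∑ i ∈ s, val M P ξ (f i) := by
  simp only [val]
  rw [Finset.sum_comm]
  refine Finset.sum_congr rfl fun K _ => ?_
  rw [coeff_sum, Finsupp.finset_sum_apply, Finset.sum_mul]

theorem resH_mem_center_of_isInv {P : Subgroup G} {a : MonoidAlgebra (Res M) G}
    (ha : IsInv (Subgroup.centralizer (P : Set G)) a) :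
    resH (Subgroup.centralizer (P : Set G)) a ∈
      Subring.center (MonoidAlgebra (Res M) (Subgroup.centralizer (P : Set G))) := by
  rw [mem_center_iff_isClassFn]
  intro g c
  show (resH _ a).coeff (c * g * c⁻¹) = (resH _ a).coeff g
  rw [coeff_resH, coeff_resH]
  exact ha c.1 c.2 g.1

theorem resH_mul_of_isInv (hM : IsPModular p M) {P : Subgroup G} (hP : IsPGroup p P)
    {a b : MonoidAlgebra (Res M) G} (ha : IsInv P a) (hb : IsInv P b) :
    resH (Subgroup.centralizer (P : Set G)) (a * b) =
      resH (Subgroup.centralizer (P : Set G)) a * resH (Subgroup.centralizer (P : Set G)) b := by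
  haveI := Fact.mk hM.1
  haveI := charP_res hM
  have hres : ∀ c : MonoidAlgebra (Res M) G,
      resH (Subgroup.centralizer (P : Set G)) (trunc (Subgroup.centralizer (P : Set G) : Set G) c) =
        resH (Subgroup.centralizer (P : Set G)) c := fun c => MonoidAlgebra.ext (Finsupp.ext fun u => by
    rw [coeff_resH, coeff_resH]
    exact coeff_trunc_of_mem c u.2)
  apply embH_injective (R := Res M) (Subgroup.centralizer (P : Set G))
  rw [map_mul, ← hres (a * b), ← hres a, ← hres b, embH_resH_trunc le_rfl, embH_resH_trunc le_rfl,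
    embH_resH_trunc le_rfl, trunc_mul hP ha hb]

theorem val_mul (hM : IsPModular p M) {P : Subgroup G} (hP : IsPGroup p P)
    (ξ : IrrCharacter (Subgroup.centralizer (P : Set G))) {a b : MonoidAlgebra (Res M) G}
    (ha : IsInv P a) (hb : IsInv P b) (ha' : IsInv (Subgroup.centralizer (P : Set G)) a)
    (hb' : IsInv (Subgroup.centralizer (P : Set G)) b) :
    val M P ξ (a * b) = val M P ξ a * val M P ξ b := by
  rw [val_eq_omegaBar P ξ (resH_mem_center_of_isInv ha'),
    val_eq_omegaBar P ξ (resH_mem_center_of_isInv hb'),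
    val_eq_omegaBar P ξ (resH_mem_center_of_isInv (isInv_mul ha' hb')), ← map_mul]
  exact congrArg _ (Subtype.ext (resH_mul_of_isInv hM hP ha hb))

theorem val_one (P : Subgroup G) (ξ : IrrCharacter (Subgroup.centralizer (P : Set G))) :
    val M P ξ 1 = 1 := by
  have h : resH (Subgroup.centralizer (P : Set G)) (1 : MonoidAlgebra (Res M) G) = 1 := by
    have := resH_embH (R := Res M) (Subgroup.centralizer (P : Set G)) 1
    rwa [map_one] at this
  have hm : resH (Subgroup.centralizer (P : Set G)) (1 : MonoidAlgebra (Res M) G) ∈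
      Subring.center (MonoidAlgebra (Res M) (Subgroup.centralizer (P : Set G))) := by
    rw [h]; exact one_mem _
  rw [val_eq_omegaBar P ξ hm, show (⟨_, hm⟩ : ZG (Res M) _) = 1 from Subtype.ext h, map_one]

theorem val_congr_block {P : Subgroup G}
    {ξ ξ' : IrrCharacter (Subgroup.centralizer (P : Set G))}
    (h : SameBlock M (ξ : Subgroup.centralizer (P : Set G) → ℂ) (ξ' : _ → ℂ))
    (a : MonoidAlgebra (Res M) G) : val M P ξ a = val M P ξ' a := by
  simp only [val, sameBlock_iff_red.mp h]

end Val

end Cfsg.Agent.BPairs
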