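import Cfsg.Agent.Lib.BrauerPairs.Inclusion
import Cfsg.Agent.Lib.Blocks.SylowCentralizer

/-!
# Maximal Brauer pairs
-/

set_option linter.unusedSectionVars false

namespace Cfsg.Agent.BPairs

open MonoidAlgebra Blocks

universe u

variable {G : Type u} [Group G] [Finite G] {p : ℕ} {M : Ideal AlgInt} [M.IsPrime]

/-! ### Conjugation of pairs -/

section ConjPairs

theorem conjBlock_eq (Q : Subgroup G) (x : G)
    (f : Set (IrrCharacter (Subgroup.centralizer (Q : Set G)))) :
    conjBlock Q x f = conjSet x (Subgroup.centralizer (Q : Set G)) _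
      (fun _ => conj_mem_centralizer) f := by
  ext ξ'
  exact (mem_conjSet_iff x (Subgroup.centralizer (Q : Set G)) _
    (fun _ => conj_mem_centralizer) f ξ').symm

theorem isPBlock_conjBlock (Q : Subgroup G) (x : G)
    {f : Set (IrrCharacter (Subgroup.centralizer (Q : Set G)))} (hf : IsPBlock M f) :
    IsPBlock M (conjBlock Q x f) := by
  rw [conjBlock_eq]; exact isPBlock_pullSet _ hf

theorem bel_conjBlock (Q : Subgroup G) (x : G)
    {f : Set (IrrCharacter (Subgroup.centralizer (Q : Set G)))} (hf : IsPBlock M f) :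
    bel M _ (conjBlock Q x f) = conjA x (bel M _ f) := by
  rw [conjBlock_eq]; exact bel_conjSet _ _ _ _ hf

theorem idx_ext {a b : BrauerPairIdx G} (ha : IsPBlock M a.2) (hb : IsPBlock M b.2)
    (h1 : a.1 = b.1) (h2 : bel M _ a.2 = bel M _ b.2) : a = b := by
  obtain ⟨Q, f⟩ := a
  obtain ⟨R, g⟩ := b
  obtain rfl : Q = R := h1
  exact congrArg (Sigma.mk Q) (bel_injective _ ha hb h2)

theorem occ_of_mul {P : Subgroup G} {e : Set (IrrCharacter (Subgroup.centralizer (P : Set G)))}
    (he : IsPBlock M e) {a : MonoidAlgebra (Res M) G}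
    (ha : IsInv (Subgroup.centralizer (P : Set G)) a)
    (h : embH _ (resH (Subgroup.centralizer (P : Set G)) a) * bel M _ e = bel M _ e) :
    Occ M P e a := by
  rw [bel, ← map_mul] at h
  have h' := embH_injective _ h
  have hm := resH_mem_center_of_isInv (P := P) ha
  have hz : (⟨_, hm⟩ : ZG (Res M) (Subgroup.centralizer (P : Set G))) * bBar M e = bBar M e :=
    Subtype.ext h'
  intro ξ hξ
  classical
  have := congrArg (omegaBar M ξ) hz
  rw [map_mul, omegaBar_bBar (blockCoeff_mem_loc he), if_pos hξ, mul_one] at this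
  rw [val_eq_omegaBar P ξ hm, this]

theorem mul_of_occ (hM : IsPModular p M) {P : Subgroup G} (hP : IsPGroup p P)
    {e : Set (IrrCharacter (Subgroup.centralizer (P : Set G)))} (he : IsPBlock M e)
    {a : MonoidAlgebra (Res M) G} (ha : Inv2 P a) (haa : a * a = a) (h : Occ M P e a) :
    embH _ (resH (Subgroup.centralizer (P : Set G)) a) * bel M _ e = bel M _ e := by
  rw [bel, ← map_mul, resH_mul_of_occ hM hP he ha haa h]

theorem isInv_conjA {H : Subgroup G} {a : MonoidAlgebra (Res M) G} (ha : IsInv H a) (x : G) :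
    IsInv (H.map (MulAut.conj x).toMonoidHom) (conjA x a) := by
  rw [isInv_iff_conjA] at ha ⊢
  rintro _ ⟨h, hh, rfl⟩
  show conjA (x * h * x⁻¹) (conjA x a) = conjA x a
  rw [conjA_conjA, inv_mul_cancel_right, ← conjA_conjA, ha h hh]

theorem map_conj_centralizer (P : Subgroup G) (x : G) :
    (Subgroup.centralizer (P : Set G)).map (MulAut.conj x).toMonoidHom =
      Subgroup.centralizer ((P.map (MulAut.conj x).toMonoidHom : Subgroup G) : Set G) := by
  ext u
  rw [mem_map_conj, conj_mem_centralizer (P := P) (x := x),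
    show x * (x⁻¹ * u * x) * x⁻¹ = u by group]

theorem inv2_conjA {P : Subgroup G} {a : MonoidAlgebra (Res M) G} (ha : Inv2 P a) (x : G) :
    Inv2 (P.map (MulAut.conj x).toMonoidHom) (conjA x a) :=
  ⟨isInv_conjA ha.1 x, map_conj_centralizer P x ▸ isInv_conjA ha.2 x⟩

theorem embH_resH_conjA (P : Subgroup G) (x : G) (a : MonoidAlgebra (Res M) G) :
    embH _ (resH (Subgroup.centralizer
        ((P.map (MulAut.conj x).toMonoidHom : Subgroup G) : Set G)) (conjA x a)) =
      conjA x (embH _ (resH (Subgroup.centralizer (P : Set G)) a)) := by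
  refine MonoidAlgebra.ext (Finsupp.ext fun u => ?_)
  rw [coeff_conjA]
  have hiff : x⁻¹ * u * x ∈ Subgroup.centralizer (P : Set G) ↔
      u ∈ Subgroup.centralizer ((P.map (MulAut.conj x).toMonoidHom : Subgroup G) : Set G) := by
    rw [conj_mem_centralizer (P := P) (x := x), show x * (x⁻¹ * u * x) * x⁻¹ = u by group]
  by_cases hu : u ∈ Subgroup.centralizer ((P.map (MulAut.conj x).toMonoidHom : Subgroup G) : Set G)
  · rw [coeff_embH _ _ ⟨u, hu⟩, coeff_embH _ _ ⟨_, hiff.mpr hu⟩, coeff_resH, coeff_resH,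
      coeff_conjA]
  · rw [coeff_embH_of_notMem _ _ hu, coeff_embH_of_notMem _ _ fun h => hu (hiff.mp h)]

theorem occ_conj (hM : IsPModular p M) {P : Subgroup G} (hP : IsPGroup p P)
    {e : Set (IrrCharacter (Subgroup.centralizer (P : Set G)))} (he : IsPBlock M e)
    {a : MonoidAlgebra (Res M) G} (ha : Inv2 P a) (haa : a * a = a) (h : Occ M P e a) (x : G) :
    Occ M (P.map (MulAut.conj x).toMonoidHom) (conjBlock P x e) (conjA x a) := by
  refine occ_of_mul (isPBlock_conjBlock P x he) (inv2_conjA ha x).2 ?_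
  rw [embH_resH_conjA, bel_conjBlock P x he, ← conjA_mul, mul_of_occ hM hP he ha haa h]

/-- The conjugate of a pair. -/
def conjIdx (x : G) (a : BrauerPairIdx G) : BrauerPairIdx G :=
  ⟨a.1.map (MulAut.conj x).toMonoidHom, conjBlock a.1 x a.2⟩

theorem isBrauerPair_conj {Q : Subgroup G}
    {f : Set (IrrCharacter (Subgroup.centralizer (Q : Set G)))} (h : IsBrauerPair p M Q f) (x : G) :
    IsBrauerPair p M (Q.map (MulAut.conj x).toMonoidHom) (conjBlock Q x f) :=
  ⟨isPGroup_map_conj h.1 x, isPBlock_conjBlock Q x h.2⟩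

theorem isBrauerPairOf_conj (hM : IsPModular p M) {B : Set (IrrCharacter G)} {Q : Subgroup G}
    {f : Set (IrrCharacter (Subgroup.centralizer (Q : Set G)))} (h : IsBrauerPairOf p M B Q f)
    (x : G) : IsBrauerPairOf p M B (Q.map (MulAut.conj x).toMonoidHom) (conjBlock Q x f) := by
  obtain ⟨hQ, hf, hB, ho⟩ := isBrauerPairOf_iff.mp h
  refine isBrauerPairOf_iff.mpr ⟨isPGroup_map_conj hQ x, isPBlock_conjBlock Q x hf, hB, ?_⟩
  have := occ_conj hM hQ hf (inv2_center Q (bBar M B).2)
    (by rw [← Subring.coe_mul, bBar_mul_self (blockCoeff_mem_loc hB)]) ho x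
  rwa [conjA_of_mem_center x (bBar M B).2] at this

theorem normalSubpair_conj (hM : IsPModular p M) {a b : BrauerPairIdx G}
    (h : NormalSubpairRel p M a b) (x : G) : NormalSubpairRel p M (conjIdx x a) (conjIdx x b) := by
  obtain ⟨hf, he, hQP, hPN, hst, ho⟩ := isNormalSubpair_iff.mp h
  refine isNormalSubpair_iff.mpr ⟨isBrauerPair_conj hf x, isBrauerPair_conj he x,
    Subgroup.map_mono hQP, ?_, ?_, ?_⟩
  · rintro _ ⟨y, hy, rfl⟩
    rw [Subgroup.mem_normalizer_iff]
    intro u
    have hn := Subgroup.mem_normalizer_iff.mp (hPN hy) (x⁻¹ * u * x)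
    show u ∈ a.1.map (MulAut.conj x).toMonoidHom ↔
      x * y * x⁻¹ * u * (x * y * x⁻¹)⁻¹ ∈ a.1.map (MulAut.conj x).toMonoidHom
    rw [mem_map_conj, mem_map_conj,
      show x⁻¹ * (x * y * x⁻¹ * u * (x * y * x⁻¹)⁻¹) * x = y * (x⁻¹ * u * x) * y⁻¹ by group]
    exact hn
  · rintro _ ⟨y, hy, rfl⟩
    show conjA (x * y * x⁻¹) (bel M _ (conjBlock a.1 x a.2)) = bel M _ (conjBlock a.1 x a.2)
    rw [bel_conjBlock _ _ hf.2, conjA_conjA, inv_mul_cancel_right, ← conjA_conjA, hst y hy]
  · show Occ M _ (conjBlock b.1 x b.2) (bel M _ (conjBlock a.1 x a.2))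
    rw [bel_conjBlock _ _ hf.2]
    exact occ_conj hM he.1 he.2 (inv2_bel hQP hst) (bel_mul_self _ hf.2) ho x

theorem subpair_conj (hM : IsPModular p M) {a b : BrauerPairIdx G}
    (h : Relation.ReflTransGen (NormalSubpairRel p M) a b) (x : G) :
    Relation.ReflTransGen (NormalSubpairRel p M) (conjIdx x a) (conjIdx x b) :=
  by
  induction h with
  | refl => exact .refl
  | tail _ hr ih => exact ih.tail (normalSubpair_conj hM hr x)

end ConjPairs

/-! ### Maximal pairs -/

section Maximal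

theorem exists_maximal (hM : IsPModular p M) {B : Set (IrrCharacter G)} {Q : Subgroup G}
    {f : Set (IrrCharacter (Subgroup.centralizer (Q : Set G)))} (h : IsBrauerPairOf p M B Q f) :
    ∃ b : BrauerPairIdx G, Relation.ReflTransGen (NormalSubpairRel p M) ⟨Q, f⟩ b ∧
      IsMaximalBrauerPair p M B b.1 b.2 := by
  haveI : Finite (BrauerPairIdx G) := inferInstance
  obtain ⟨b, hb, hbmax⟩ := Set.Finite.exists_maximalFor (fun a : BrauerPairIdx G => Nat.card a.1)
    {b : BrauerPairIdx G | Relation.ReflTransGen (NormalSubpairRel p M) ⟨Q, f⟩ b}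
    (Set.toFinite _) ⟨⟨Q, f⟩, Relation.ReflTransGen.refl⟩
  have hBb : IsBrauerPairOf p M B b.1 b.2 :=
    (pairOf_iff_of_subpair hM h.2.1 _ _ hb).mpr h
  refine ⟨b, hb, hBb, fun R g hR hle => ?_⟩
  have hsub := subpair_le hle
  have hc : Nat.card R ≤ Nat.card b.1 :=
    hbmax (j := ⟨R, g⟩) (hb.trans hle) (Subgroup.card_le_of_le hsub)
  exact SetLike.coe_injective (Set.eq_of_subset_of_ncard_le hsub
    (by simpa [← Nat.card_coe_set_eq] using hc) (Set.toFinite _)).symm

theorem val_center_eq (hM : IsPModular p M) {B : Set (IrrCharacter G)} {P : Subgroup G}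
    {e : Set (IrrCharacter (Subgroup.centralizer (P : Set G)))} (h : IsBrauerPairOf p M B P e)
    {ξ : IrrCharacter (Subgroup.centralizer (P : Set G))} (hξ : ξ ∈ e) {χ : IrrCharacter G}
    (hχ : χ ∈ B) (z : ZG (Res M) G) :
    val M P ξ (z : MonoidAlgebra (Res M) G) = omegaBar M χ z := by
  classical
  obtain ⟨hP, he, hB, ho⟩ := isBrauerPairOf_iff.mp h
  haveI := Fact.mk hM.1
  haveI := charP_res hM
  have hCN : Subgroup.centralizer (P : Set G) ≤ Subgroup.normalizer (P : Set G) :=
    Subgroup.centralizer_le_normalizer _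
  let l : ZG (Res M) G →+* Res M :=
    (omegaBar M ξ).comp (brH P (Subgroup.centralizer (P : Set G)) hP le_rfl hCN)
  have hl : ∀ a : ZG (Res M) G, l a = val M P ξ (a : MonoidAlgebra (Res M) G) := by
    intro a
    rw [val_eq_omegaBar P ξ (resH_mem_center_of_isInv (inv2_center P a.2).2)]
    show omegaBar M ξ _ = _
    congr 1
    refine Subtype.ext (MonoidAlgebra.ext (Finsupp.ext fun u => ?_))
    rw [coe_brH, coeff_resH, coeff_resH, coeff_trunc_of_mem _ u.2]
  obtain ⟨χ', hχ'⟩ := exists_eq_omegaBar hM l (fun c => by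
    show omegaBar M ξ (brH P _ hP le_rfl hCN (scalarZ c)) = c
    rw [brH_scalarZ, omegaBar_scalarZ])
  have h1 : omegaBar M χ' (bBar M B) = 1 := by
    rw [← hχ', hl]; exact ho ξ hξ
  rw [omegaBar_bBar (blockCoeff_mem_loc hB)] at h1
  split_ifs at h1 with e'
  · rw [← hl, hχ', omegaBar_eq_of_sameBlock ((mem_block_iff hB hχ).mp e')]
  · exact absurd h1 zero_ne_one

/-- The reduced idempotents of the normalizer conjugates of a block. -/
noncomputable def orbit (M : Ideal AlgInt) [M.IsPrime] (P : Subgroup G)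
    (e : Set (IrrCharacter (Subgroup.centralizer (P : Set G)))) :
    Finset (MonoidAlgebra (Res M) G) :=
  haveI := Fintype.ofFinite G
  haveI := Classical.decEq (MonoidAlgebra (Res M) G)
  haveI := Classical.decPred fun x : G => x ∈ Subgroup.normalizer (P : Set G)
  (Finset.univ.filter fun x => x ∈ Subgroup.normalizer (P : Set G)).image
    fun x => conjA x (bel M _ e)

theorem mem_orbit {P : Subgroup G} {e : Set (IrrCharacter (Subgroup.centralizer (P : Set G)))}
    {d : MonoidAlgebra (Res M) G} :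
    d ∈ orbit M P e ↔ ∃ x ∈ Subgroup.normalizer (P : Set G), conjA x (bel M _ e) = d := by
  simp [orbit]

theorem orbit_block {P : Subgroup G} {e : Set (IrrCharacter (Subgroup.centralizer (P : Set G)))}
    (he : IsPBlock M e) {d : MonoidAlgebra (Res M) G} (hd : d ∈ orbit M P e) :
    ∃ e' : Set (IrrCharacter (Subgroup.centralizer (P : Set G))),
      IsPBlock M e' ∧ bel M _ e' = d := by
  obtain ⟨x, hx, rfl⟩ := mem_orbit.mp hd
  exact ⟨conjSet x _ _ (fun u => (centralizer_conj_mem hx).symm) e, isPBlock_pullSet _ he,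
    bel_conjSet _ _ _ _ he⟩

theorem conjA_mem_orbit {P : Subgroup G} {e : Set (IrrCharacter (Subgroup.centralizer (P : Set G)))}
    {d : MonoidAlgebra (Res M) G} {y : G} (hy : y ∈ Subgroup.normalizer (P : Set G))
    (hd : d ∈ orbit M P e) : conjA y d ∈ orbit M P e := by
  obtain ⟨x, hx, rfl⟩ := mem_orbit.mp hd
  exact mem_orbit.mpr ⟨y * x, mul_mem hy hx, (conjA_conjA y x _).symm⟩

/-- A stable element detecting the orbit of a maximal pair. -/
theorem exists_detector (hM : IsPModular p M) {B : Set (IrrCharacter G)} {P : Subgroup G}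
    {e : Set (IrrCharacter (Subgroup.centralizer (P : Set G)))}
    (hmax : IsMaximalBrauerPair p M B P e) :
    ∃ z : ZG (Res M) G,
      (∀ u, (z : MonoidAlgebra (Res M) G).coeff u ≠ 0 →
        Nat.card P = p ^ (Nat.card (Subgroup.centralizer ({u} : Set G))).factorization p) ∧
      ∀ (e' : Set (IrrCharacter (Subgroup.centralizer (P : Set G)))), IsPBlock M e' →
        ∀ ξ ∈ e', (bel M _ e' ∈ orbit M P e → val M P ξ (z : MonoidAlgebra (Res M) G) = 1) ∧
          (bel M _ e' ∉ orbit M P e → val M P ξ (z : MonoidAlgebra (Res M) G) = 0) := by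
  classical
  haveI := Fact.mk hM.1
  haveI := charP_res hM
  obtain ⟨hPB, hmax'⟩ := hmax
  obtain ⟨hP, he, hB, -⟩ := isBrauerPairOf_iff.mp hPB
  set N := Subgroup.normalizer (P : Set G) with hN
  set ε : MonoidAlgebra (Res M) G := ∑ d ∈ orbit M P e, d with hε
  have hεinv : ∀ y ∈ N, ∀ u, ε.coeff (y⁻¹ * u * y) = ε.coeff u := by
    intro y hy
    refine (conjA_eq_self_iff y ε).mp ?_
    rw [hε, conjA_sum]
    refine Finset.sum_nbij' (fun d => conjA y d) (fun d => conjA y⁻¹ d)
      (fun d hd => conjA_mem_orbit hy hd) (fun d hd => conjA_mem_orbit (inv_mem hy) hd)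
      (fun d _ => ?_) (fun d _ => ?_) (fun d _ => rfl)
    · simp [conjA_conjA, conjA_one]
    · simp [conjA_conjA, conjA_one]
  have hεsupp : ∀ u, ε.coeff u ≠ 0 → u ∈ Subgroup.centralizer (P : Set G) := by
    intro u hu
    by_contra hmem
    apply hu
    rw [hε, coeff_sum, Finsupp.finsetSum_apply]
    refine Finset.sum_eq_zero fun d hd => ?_
    obtain ⟨e', -, rfl⟩ := orbit_block he hd
    exact coeff_embH_of_notMem _ _ hmem
  -- no larger p-subgroup of the normalizer centralizes the support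
  have hkey : ∀ R : Subgroup G, IsPGroup p R → P ≤ R → R ≤ N → P ≠ R →
      ∀ u ∈ Subgroup.centralizer (R : Set G), ε.coeff u = 0 := by
    intro R hR hPR hRN hne u hu
    let act : R →* Equiv.Perm {d // d ∈ orbit M P e} :=
      { toFun := fun r =>
          { toFun := fun d => ⟨conjA (r : G) d.1, conjA_mem_orbit (hRN r.2) d.2⟩
            invFun := fun d => ⟨conjA (r : G)⁻¹ d.1, conjA_mem_orbit (inv_mem (hRN r.2)) d.2⟩
            left_inv := fun d => Subtype.ext (by simp [conjA_conjA, conjA_one])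
            right_inv := fun d => Subtype.ext (by simp [conjA_conjA, conjA_one]) }
        map_one' := Equiv.ext fun d => Subtype.ext (conjA_one _)
        map_mul' := fun r r' => Equiv.ext fun d => Subtype.ext (conjA_conjA _ _ _).symm }
    rw [hε, coeff_sum, Finsupp.finsetSum_apply,
      ← Finset.sum_coe_sort (orbit M P e) (fun d => d.coeff u),
      Glauberman.sum_eq_sum_fixed hR act (fun d => d.1.coeff u)
        (fun r d => conjA_ne_zero_coeff r.2 hu)]
    refine Finset.sum_eq_zero fun d hd => ?_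
    have hfix : ∀ r ∈ R, conjA r d.1 = d.1 := fun r hr =>
      congrArg Subtype.val ((Finset.mem_filter.mp hd).2 ⟨r, hr⟩)
    obtain ⟨x, hx, hxd⟩ := mem_orbit.mp d.2
    set R' := R.map (MulAut.conj x⁻¹).toMonoidHom with hR'
    have hst : ∀ r ∈ R', conjA r (bel M _ e) = bel M _ e := by
      rintro _ ⟨r, hr, rfl⟩
      show conjA (x⁻¹ * r * x⁻¹⁻¹) (bel M _ e) = bel M _ e
      rw [inv_inv, ← conjA_conjA, hxd, ← conjA_conjA, hfix r hr, ← hxd, conjA_conjA,
        inv_mul_cancel, conjA_one]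
    have hPR' : P ≤ R' := by
      intro q hq
      refine ⟨x * q * x⁻¹, hPR ((Subgroup.mem_normalizer_iff.mp hx q).mp hq), ?_⟩
      show x⁻¹ * (x * q * x⁻¹) * x⁻¹⁻¹ = q
      group
    have hR'N : R' ≤ N := by
      rintro _ ⟨r, hr, rfl⟩
      show x⁻¹ * r * x⁻¹⁻¹ ∈ N
      exact mul_mem (mul_mem (inv_mem hx) (hRN hr)) (inv_mem (inv_mem hx))
    by_contra hne0
    rw [← hxd, coeff_conjA] at hne0
    have hu' : x⁻¹ * u * x ∈ Subgroup.centralizer (R' : Set G) := by
      have := (conj_mem_centralizer (P := R) (x := x⁻¹)).mp hu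
      rwa [inv_inv] at this
    obtain ⟨g, hg, hgo⟩ := exists_occ hM (isPGroup_map_conj hR x⁻¹) (inv2_bel hPR' hst)
      (bel_mul_self _ he) hu' hne0
    have hrel : NormalSubpairRel p M ⟨P, e⟩ ⟨R', g⟩ := isNormalSubpair_iff.mpr
      ⟨⟨hP, he⟩, ⟨isPGroup_map_conj hR x⁻¹, hg⟩, hPR', hR'N, hst, hgo⟩
    have hpair := (pairOf_iff_of_subpair hM hB ⟨P, e⟩ ⟨R', g⟩
      (Relation.ReflTransGen.single hrel)).mpr hPB
    have heq := hmax' R' g hpair (Relation.ReflTransGen.single hrel)
    apply hne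
    refine SetLike.coe_injective (Set.eq_of_subset_of_ncard_le hPR ?_ (Set.toFinite _))
    have hcard : Nat.card R' = Nat.card R := card_map_conj R x⁻¹
    rw [heq] at hcard
    simp [← Nat.card_coe_set_eq, hcard]
  have hsyl : ∀ u, ε.coeff u ≠ 0 →
      Nat.card P = p ^ (Nat.card (Subgroup.centralizer ({u} : Set G))).factorization p := by
    intro u hu
    have hPu : P ≤ Subgroup.centralizer ({u} : Set G) := le_centralizer_singleton.mpr (hεsupp u hu)
    refine card_eq_of_inf_normalizer hP hPu ?_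
    by_contra hne
    obtain ⟨S, hS⟩ := exists_sylow_ge (le_inf hPu Subgroup.le_normalizer :
      P ≤ Subgroup.centralizer ({u} : Set G) ⊓ N) hP
    set R := (S : Subgroup _).map
      (Subgroup.centralizer ({u} : Set G) ⊓ N).subtype with hR
    have hRle : R ≤ Subgroup.centralizer ({u} : Set G) ⊓ N := Subgroup.map_subtype_le _
    refine hu (hkey R ?_ hS (hRle.trans inf_le_right) ?_ u ?_)
    · exact S.isPGroup'.map _
    · intro h
      apply hne
      rw [← hN, show Nat.card P = Nat.card R by rw [h], hR, card_sylow_map]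
    · exact le_centralizer_singleton.mp (hRle.trans inf_le_left)
  -- extend to a class function
  let Z : G → Res M := fun u => if h : ∃ v, ε.coeff v ≠ 0 ∧ IsConj u v then ε.coeff h.choose else 0
  have hZkey : ∀ u v, ε.coeff v ≠ 0 → IsConj u v → Z u = ε.coeff v := by
    intro u v hv huv
    have h : ∃ v, ε.coeff v ≠ 0 ∧ IsConj u v := ⟨v, hv, huv⟩
    show dite _ _ _ = _
    rw [dif_pos h]
    obtain ⟨hw, huw⟩ := h.choose_spec
    obtain ⟨n, hn, hnw⟩ := exists_normalizer_conj (huw.symm.trans huv)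
      (le_centralizer_singleton.mpr (hεsupp _ hw)) (le_centralizer_singleton.mpr (hεsupp v hv))
      (hsyl v hv)
    rw [← hnw]
    conv_rhs => rw [← hεinv n hn]
    congr 1
    group
  have hZres : ∀ u ∈ Subgroup.centralizer (P : Set G), Z u = ε.coeff u := by
    intro u hu
    by_cases h : ∃ v, ε.coeff v ≠ 0 ∧ IsConj u v
    · obtain ⟨v, hv, huv⟩ := h
      obtain ⟨n, hn, hnv⟩ := exists_normalizer_conj huv (le_centralizer_singleton.mpr hu)
        (le_centralizer_singleton.mpr (hεsupp v hv)) (hsyl v hv)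
      rw [hZkey u v hv huv, ← hnv]
      conv_lhs => rw [← hεinv n hn]
      congr 1
      group
    · show dite _ _ _ = _
      rw [dif_neg h]
      by_contra hne
      exact h ⟨u, Ne.symm hne, IsConj.refl u⟩
  have hZc : ofFun Z ∈ Subring.center (MonoidAlgebra (Res M) G) := by
    rw [mem_center_iff_isClassFn]
    intro g c
    simp only [coeff_ofFun]
    have hconj : IsConj g (c * g * c⁻¹) := isConj_iff.mpr ⟨c, rfl⟩
    by_cases h : ∃ v, ε.coeff v ≠ 0 ∧ IsConj g v
    · obtain ⟨v, hv, hgv⟩ := h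
      rw [hZkey g v hv hgv, hZkey _ v hv (hconj.symm.trans hgv)]
    · have h' : ¬ ∃ v, ε.coeff v ≠ 0 ∧ IsConj (c * g * c⁻¹) v :=
        fun ⟨v, hv, hgv⟩ => h ⟨v, hv, hconj.trans hgv⟩
      show dite _ _ _ = dite _ _ _
      rw [dif_neg h, dif_neg h']
  refine ⟨⟨_, hZc⟩, fun u hu => ?_, fun e' he' ξ hξ => ?_⟩
  · rw [show ((⟨ofFun Z, hZc⟩ : ZG (Res M) G) : MonoidAlgebra (Res M) G).coeff u = Z u from
      coeff_ofFun _ _] at hu
    by_cases h : ∃ v, ε.coeff v ≠ 0 ∧ IsConj u v
    · obtain ⟨v, hv, huv⟩ := h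
      obtain ⟨c, rfl⟩ := isConj_iff.mp huv
      rw [hsyl _ hv, card_centralizer_conj]
    · exact absurd (dif_neg h) hu
  have hval : val M P ξ ((⟨ofFun Z, hZc⟩ : ZG (Res M) G) : MonoidAlgebra (Res M) G) =
      val M P ξ ε := by
    simp only [val]
    refine Finset.sum_congr rfl fun K _ => ?_
    rw [coeff_ofFun, hZres _ (rep K).2]
  rw [hval, hε, val_sum]
  have hterm : ∀ d ∈ orbit M P e, d ≠ bel M _ e' → val M P ξ d = 0 := by
    intro d hd hne
    obtain ⟨e'', he'', rfl⟩ := orbit_block he hd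
    rw [val_bel he'', if_neg]
    intro hmem
    exact hne (by rw [block_eq_of_mem he'' he' hmem hξ])
  refine ⟨fun hmem => ?_, fun hmem => Finset.sum_eq_zero fun d hd => hterm d hd fun h => hmem (h ▸ hd)⟩
  rw [Finset.sum_eq_single_of_mem _ hmem hterm, val_bel he', if_pos hξ]

theorem isDefectGroup_of_maximal (hM : IsPModular p M) {B : Set (IrrCharacter G)} {P : Subgroup G}
    {e : Set (IrrCharacter (Subgroup.centralizer (P : Set G)))}
    (hmax : IsMaximalBrauerPair p M B P e) : IsDefectGroup p M B P := by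
  haveI := Fact.mk hM.1
  haveI := charP_res hM
  obtain ⟨z, hz1, hz2⟩ := exists_detector hM hmax
  obtain ⟨hP, he, hB, ho⟩ := isBrauerPairOf_iff.mp hmax.1
  obtain ⟨ξ, hξ⟩ := block_nonempty he
  obtain ⟨χ, hχ⟩ := block_nonempty hB
  have h1 : omegaBar M χ z = 1 := by
    rw [← val_center_eq hM hmax.1 hξ hχ]
    exact (hz2 e he ξ hξ).1 (mem_orbit.mpr ⟨1, one_mem _, conjA_one _⟩)
  obtain ⟨u, hu, hχu⟩ := exists_class_of_omegaBar_ne_zero χ (h1 ▸ one_ne_zero)
  obtain ⟨D, hD⟩ := exists_defectGroup (p := p) hB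
  obtain ⟨x, hx⟩ := defect_conj_le_centralizer hM hB hD hχ hχu
  have hcard : Nat.card D ≤ Nat.card P := by
    rw [hz1 u hu, ← card_map_conj D x]
    exact card_le_of_isPGroup_le hx (isPGroup_map_conj (defectGroup_spec hD).choose_spec.2.2.1 x)
  have hbr : br P hP (bBar M B) ≠ 0 := by
    intro h0
    have h2 := ho ξ hξ
    rw [val] at h2
    refine one_ne_zero (h2.symm.trans (Finset.sum_eq_zero fun K _ => ?_))
    have := congrArg (fun a : MonoidAlgebra (Res M) G =>
      a.coeff ((rep K : Subgroup.centralizer (P : Set G)) : G)) h0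
    simp only [br_apply, coeff_trunc_of_mem _ (rep K).2] at this
    rw [this]
    simp
  obtain ⟨y, hy⟩ := (br_bBar_ne_zero_iff hM hB hD hP).mp hbr
  have heq : P.map (MulAut.conj y).toMonoidHom = D :=
    SetLike.coe_injective (Set.eq_of_subset_of_ncard_le hy
      (by rw [← Nat.card_coe_set_eq, ← Nat.card_coe_set_eq]
          exact le_of_le_of_eq hcard (card_map_conj P y).symm) (Set.toFinite _))
  have := isDefectGroup_conj hD y⁻¹
  rwa [← heq, map_conj_map_conj, inv_mul_cancel, map_conj_one] at this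

/-- All pairs of the block on the subgroup of a maximal pair are conjugate to it. -/
theorem conj_of_pair_on_maximal (hM : IsPModular p M) {B : Set (IrrCharacter G)} {P : Subgroup G}
    {e e' : Set (IrrCharacter (Subgroup.centralizer (P : Set G)))}
    (hmax : IsMaximalBrauerPair p M B P e) (h : IsBrauerPairOf p M B P e') :
    ∃ x ∈ Subgroup.normalizer (P : Set G), conjA x (bel M _ e) = bel M _ e' := by
  obtain ⟨z, -, hz2⟩ := exists_detector hM hmax
  obtain ⟨hP, he, hB, -⟩ := isBrauerPairOf_iff.mp hmax.1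
  obtain ⟨ξ, hξ⟩ := block_nonempty he
  obtain ⟨ξ', hξ'⟩ := block_nonempty h.1.2
  obtain ⟨χ, hχ⟩ := block_nonempty hB
  refine mem_orbit.mp ?_
  by_contra hne
  have h0 := (hz2 e' h.1.2 ξ' hξ').2 hne
  have h1 := (hz2 e he ξ hξ).1 (mem_orbit.mpr ⟨1, one_mem _, conjA_one _⟩)
  rw [val_center_eq hM h hξ' hχ] at h0
  rw [val_center_eq hM hmax.1 hξ hχ, h0] at h1
  exact zero_ne_one h1

/-- Every pair of the block has a conjugate below a given maximal pair. -/
theorem exists_conj_below_maximal (hM : IsPModular p M) {B : Set (IrrCharacter G)}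
    {P Q : Subgroup G} {e : Set (IrrCharacter (Subgroup.centralizer (P : Set G)))}
    {f : Set (IrrCharacter (Subgroup.centralizer (Q : Set G)))}
    (hmax : IsMaximalBrauerPair p M B P e) (hQf : IsBrauerPairOf p M B Q f) :
    ∃ x : G, SubpairLE p M (Q.map (MulAut.conj x).toMonoidHom) (conjBlock Q x f) P e := by
  obtain ⟨⟨R, g⟩, hle, hgmax⟩ := exists_maximal hM hQf
  haveI := Fact.mk hM.1
  have hB := hQf.2.1
  obtain ⟨y, hy⟩ := defect_conj hM hB (isDefectGroup_of_maximal hM hgmax)
    (isDefectGroup_of_maximal hM hmax)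
  subst hy
  have hconj := isBrauerPairOf_conj hM hgmax.1 y
  obtain ⟨x, hx, hxe⟩ := conj_of_pair_on_maximal hM hmax hconj
  rw [bel_conjBlock R y hgmax.1.1.2] at hxe
  refine ⟨x⁻¹ * y, ?_⟩
  have heq : conjIdx (x⁻¹ * y) ⟨R, g⟩ = ⟨R.map (MulAut.conj y).toMonoidHom, e⟩ := by
    refine idx_ext (M := M) (isPBlock_conjBlock R _ hgmax.1.1.2) hmax.1.1.2 ?_ ?_
    · show R.map (MulAut.conj (x⁻¹ * y)).toMonoidHom = R.map (MulAut.conj y).toMonoidHom
      rw [← map_conj_map_conj]
      ext u
      rw [mem_map_conj, inv_inv]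
      exact (Subgroup.mem_normalizer_iff.mp hx u).symm
    · show bel M _ (conjBlock R (x⁻¹ * y) g) = bel M _ e
      rw [bel_conjBlock R _ hgmax.1.1.2, ← conjA_conjA, ← hxe, conjA_conjA, inv_mul_cancel,
        conjA_one]
  have := subpair_conj hM hle (x⁻¹ * y)
  rw [heq] at this
  exact this

end Maximal

end Cfsg.Agent.BPairs
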