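import Cfsg.Agent.Lib.BrauerPairs.Cover
import Cfsg.Agent.Lib.BrauerPairs.Maximal

/-!
# Brauer pairs above a given pair inside its stabilizer

For a Brauer pair `(Q, f)` and a subgroup `H` between `Q C(Q)` and the stabilizer of `(Q, f)`, the
idempotent of `f` is a block idempotent of `H`, and the pairs `(R, h)` with `(Q, f)` normally below
and `R ≤ H` are the Brauer pairs of that block above `Q`.
-/

set_option linter.unusedSectionVars false

namespace Cfsg.Agent.BPairs

open MonoidAlgebra Blocks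

universe u

variable {G : Type u} [Group G] [Finite G] {p : ℕ} {M : Ideal AlgInt} [M.IsPrime]

/-- `H` lies between `Q C(Q)` and the stabilizer of the pair `(Q, f)`. -/
structure IsLocal (p : ℕ) (M : Ideal AlgInt) [M.IsPrime] (Q : Subgroup G)
    (f : Set (IrrCharacter (Subgroup.centralizer (Q : Set G)))) (H : Subgroup G) : Prop where
  pair : IsBrauerPair p M Q f
  le : Q ≤ H
  cle : Subgroup.centralizer (Q : Set G) ≤ H
  leN : H ≤ Subgroup.normalizer (Q : Set G)
  stab : ∀ h ∈ H, conjA h (bel M (Subgroup.centralizer (Q : Set G)) f) =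
    bel M (Subgroup.centralizer (Q : Set G)) f

theorem coeff_bel_of_notMem (K : Subgroup G) (b : Set (IrrCharacter K)) {u : G} (hu : u ∉ K) :
    (bel M K b).coeff u = 0 :=
  coeff_embH_of_notMem _ _ hu

theorem conjA_bel_self (Q : Subgroup G)
    (f : Set (IrrCharacter (Subgroup.centralizer (Q : Set G)))) {q : G} (hq : q ∈ Q) :
    conjA q (bel M (Subgroup.centralizer (Q : Set G)) f) =
      bel M (Subgroup.centralizer (Q : Set G)) f := by
  refine MonoidAlgebra.ext (Finsupp.ext fun u => ?_)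
  by_cases hu : u ∈ Subgroup.centralizer (Q : Set G)
  · exact conjA_ne_zero_coeff hq hu
  · rw [coeff_conjA, coeff_bel_of_notMem _ _ hu, coeff_bel_of_notMem]
    intro h
    apply hu
    have := Subgroup.mem_centralizer_iff.mp h q hq
    rwa [show u = q * (q⁻¹ * u * q) * q⁻¹ by group, this, mul_inv_cancel_right]

theorem isLocal_stabilizer {Q : Subgroup G}
    {f : Set (IrrCharacter (Subgroup.centralizer (Q : Set G)))} (hQf : IsBrauerPair p M Q f)
    {T : Subgroup G} (hT : ∀ y : G, y ∈ T ↔ y ∈ Subgroup.normalizer (Q : Set G) ∧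
      StabilizesBlock (Subgroup.centralizer (Q : Set G)) f y) : IsLocal p M Q f T := by
  have hiff : ∀ y, y ∈ T ↔ y ∈ Subgroup.normalizer (Q : Set G) ∧
      conjA y (bel M (Subgroup.centralizer (Q : Set G)) f) =
        bel M (Subgroup.centralizer (Q : Set G)) f := fun y =>
    (hT y).trans (and_congr_right fun hy =>
      conjA_bel_iff_stabilizes y _ hQf.2 (normalizer_le_normalizer_centralizer Q hy))
  exact ⟨hQf, fun q hq => (hiff q).mpr ⟨Subgroup.le_normalizer hq, conjA_bel_self Q f hq⟩,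
    fun c hc => (hiff c).mpr ⟨Subgroup.centralizer_le_normalizer _ hc,
      isInv_iff_conjA.mp (isInv_bel _ f) c hc⟩,
    fun y hy => ((hiff y).mp hy).1, fun y hy => ((hiff y).mp hy).2⟩

theorem isLocal_centralizer {Q : Subgroup G}
    {f : Set (IrrCharacter (Subgroup.centralizer (Q : Set G)))} (hQf : IsBrauerPair p M Q f)
    (hQ : Q ≤ Subgroup.centralizer (Q : Set G)) :
    IsLocal p M Q f (Subgroup.centralizer (Q : Set G)) :=
  ⟨hQf, hQ, le_rfl, Subgroup.centralizer_le_normalizer _,
    fun c hc => isInv_iff_conjA.mp (isInv_bel _ f) c hc⟩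

theorem inv2_bel_self {Q : Subgroup G}
    (f : Set (IrrCharacter (Subgroup.centralizer (Q : Set G)))) :
    Inv2 Q (bel M (Subgroup.centralizer (Q : Set G)) f) :=
  inv2_bel le_rfl fun _ hq => conjA_bel_self Q f hq

theorem mul_bel_cases' (hM : IsPModular p M) {Q : Subgroup G} (hQ : IsPGroup p Q)
    {f : Set (IrrCharacter (Subgroup.centralizer (Q : Set G)))} (hf : IsPBlock M f)
    {a : MonoidAlgebra (Res M) G}
    (hsupp : ∀ u ∉ Subgroup.centralizer (Q : Set G), a.coeff u = 0) (hi : Inv2 Q a)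
    (haa : a * a = a) :
    a * bel M (Subgroup.centralizer (Q : Set G)) f = bel M (Subgroup.centralizer (Q : Set G)) f ∨
      a * bel M (Subgroup.centralizer (Q : Set G)) f = 0 := by
  classical
  have ha : embH _ (resH (Subgroup.centralizer (Q : Set G)) a) = a := Blocks.embH_resH hsupp
  obtain ⟨ξ, hξ⟩ := block_nonempty hf
  rcases val_zero_or_one hM hQ ξ hi haa with h | h
  · right
    have hm := resH_mem_center_of_isInv (P := Q) hi.2
    have hidem : (⟨_, hm⟩ : ZG (Res M) (Subgroup.centralizer (Q : Set G))) * ⟨_, hm⟩ = ⟨_, hm⟩ :=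
      Subtype.ext (by rw [Subring.coe_mul, ← resH_mul_of_isInv hM hQ hi.1 hi.1, haa])
    have h0 : (⟨_, hm⟩ : ZG (Res M) _) * bBar M f = 0 := by
      refine eq_zero_of_omegaBar hM _ (by
        rw [mul_mul_mul_comm, hidem, bBar_mul_self (blockCoeff_mem_loc hf)]) fun χ => ?_
      rw [map_mul, omegaBar_bBar (blockCoeff_mem_loc hf), ← val_eq_omegaBar Q χ hm]
      split_ifs with e'
      · rw [val_congr_block ((mem_block_iff hf e').mp hξ), h, zero_mul]
      · rw [mul_zero]
    have h1 := congrArg Subtype.val h0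
    rw [Subring.coe_mul, Subring.coe_zero] at h1
    rw [← ha, bel, ← map_mul, h1, map_zero]
  · left
    have := mul_of_occ hM hQ hf hi haa (occ_of_mem hf hξ h)
    rwa [ha] at this

/-- The idempotent of `f` is a block idempotent of `H`. -/
theorem exists_local_block (hM : IsPModular p M) {Q H : Subgroup G}
    {f : Set (IrrCharacter (Subgroup.centralizer (Q : Set G)))} (hL : IsLocal p M Q f H) :
    ∃ E : Set (IrrCharacter H), IsPBlock M E ∧
      bel M H E = bel M (Subgroup.centralizer (Q : Set G)) f ∧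
      ∀ t : H, blockCoeff E t = subgroupBlockCoeff (Subgroup.centralizer (Q : Set G)) f (t : G) := by
  classical
  haveI : Fact p.Prime := ⟨hM.1⟩
  haveI := charP_res hM
  have hf := hL.pair.2
  have hinv : ∀ x ∈ H, conjA x (celt (Subgroup.centralizer (Q : Set G)) f) =
      celt (Subgroup.centralizer (Q : Set G)) f := fun x hx => by
    have hmem : ∀ u, u ∈ Subgroup.centralizer (Q : Set G) ↔
        x * u * x⁻¹ ∈ Subgroup.centralizer (Q : Set G) :=
      fun u => (centralizer_conj_mem (hL.leN hx)).symm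
    have h := hL.stab x hx
    rw [← bel_conjSet x _ _ hmem hf] at h
    have h2 : conjSet x _ _ hmem f = f := bel_injective _ (isPBlock_pullSet _ hf) hf h
    rw [← celt_conjSet x _ _ hmem, h2]
  let S : MonoidAlgebra ℂ H :=
    ofFun fun t => subgroupBlockCoeff (Subgroup.centralizer (Q : Set G)) f (t : G)
  have hSemb : embH H S = celt (Subgroup.centralizer (Q : Set G)) f := by
    refine MonoidAlgebra.ext (Finsupp.ext fun u => ?_)
    by_cases hu : u ∈ H
    · rw [coeff_embH H _ ⟨u, hu⟩, coeff_ofFun, coeff_celt]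
    · rw [coeff_embH_of_notMem _ _ hu, celt, coeff_embH_of_notMem _ _ fun h => hu (hL.cle h)]
  have hScen : S ∈ Subring.center (MonoidAlgebra ℂ H) := by
    rw [mem_center_iff_isClassFn]
    intro t c
    simp only [S, coeff_ofFun, ← coeff_celt]
    have := (conjA_eq_self_iff _ _).mp (hinv _ (H.inv_mem c.2)) (t : G)
    simpa using this
  have hSS : S * S = S := embH_injective H (by
    rw [map_mul, hSemb, celt, ← map_mul, idemC_mul_self])
  set A := idemSupport S with hA
  have hcoeff : ∀ t : H, blockCoeff A t =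
      subgroupBlockCoeff (Subgroup.centralizer (Q : Set G)) f (t : G) := fun t => by
    rw [hA, blockCoeff_idemSupport hScen hSS, coeff_ofFun]
  have hloc : ∀ t : H, blockCoeff A t ∈ Loc M := fun t => by
    rw [hcoeff]; exact subgroupBlockCoeff_mem_loc hf _
  have hAbel : bel M H A = bel M (Subgroup.centralizer (Q : Set G)) f := by
    refine MonoidAlgebra.ext (Finsupp.ext fun u => ?_)
    by_cases hu : u ∈ H
    · rw [show u = ((⟨u, hu⟩ : H) : G) from rfl, coeff_bel, coeff_bBar hloc, coeff_bel_eq hf]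
      exact congrArg _ (Subtype.ext (hcoeff _))
    · rw [bel, bel, coeff_embH_of_notMem _ _ hu, coeff_embH_of_notMem _ _ fun h => hu (hL.cle h)]
  refine ⟨A, isPBlock_of_primitive hM hloc (fun h0 => bel_ne_zero _ hf ?_) fun F hF => ?_, hAbel,
    hcoeff⟩
  · rw [← hAbel, bel, h0, Subring.coe_zero, map_zero]
  haveI : (Q.subgroupOf H).Normal := Subgroup.normal_subgroupOf_of_le_normalizer hL.leN
  have hsupp : ∀ u ∉ Subgroup.centralizer (Q : Set G), (bel M H F).coeff u = 0 := by
    intro u hu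
    by_cases huT : u ∈ H
    · rw [show u = ((⟨u, huT⟩ : H) : G) from rfl, coeff_bel]
      refine coeff_bBar_eq_zero_of_notMem (P := Q.subgroupOf H) hL.pair.1.comap_subtype hF
        fun hmem => hu ?_
      rw [Subgroup.mem_centralizer_iff] at hmem ⊢
      intro q hq
      exact congrArg Subtype.val (hmem ⟨q, hL.le hq⟩ hq)
    · rw [bel, coeff_embH_of_notMem _ _ huT]
  have hi : Inv2 Q (bel M H F) := ⟨isInv_mono hL.le (isInv_bel H F), isInv_mono hL.cle (isInv_bel H F)⟩
  rcases mul_bel_cases' hM hL.pair.1 hf hsupp hi (bel_mul_self H hF) with h | h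
  · left
    refine Subtype.ext (embH_injective H ?_)
    rw [Subring.coe_mul, map_mul]
    show bel M H F * bel M H A = bel M H A
    rw [hAbel, h]
  · right
    refine Subtype.ext (embH_injective H ?_)
    rw [Subring.coe_mul, Subring.coe_zero, map_mul, map_zero]
    show bel M H F * bel M H A = 0
    rw [hAbel, h]

/-! ### Pushing pairs of a subgroup into the group -/

section Push

variable {H : Subgroup G}

theorem conjA_embH (t : H) (a : MonoidAlgebra (Res M) H) :
    conjA (t : G) (embH H a) = embH H (conjA t a) := by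
  simp only [conjA, map_mul, embH_single, Subgroup.coe_inv]

theorem map_subtype_conj (R : Subgroup H) (t : H) :
    (R.map (MulAut.conj t).toMonoidHom).map H.subtype =
      (R.map H.subtype).map (MulAut.conj (t : G)).toMonoidHom := by
  rw [Subgroup.map_map, Subgroup.map_map]
  rfl

/-- The pair `a` of `H` and the pair `b` of `G` have the same subgroup and idempotent. -/
def IsPush (M : Ideal AlgInt) [M.IsPrime] (a : BrauerPairIdx H) (b : BrauerPairIdx G) : Prop :=
  IsPBlock M a.2 ∧ IsPBlock M b.2 ∧ a.1.map H.subtype = b.1 ∧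
    embH H (bel M (Subgroup.centralizer (a.1 : Set H)) a.2) =
      bel M (Subgroup.centralizer (b.1 : Set G)) b.2

theorem mem_centralizer_map_iff (R : Subgroup H) (u : H) :
    (u : G) ∈ Subgroup.centralizer ((R.map H.subtype : Subgroup G) : Set G) ↔
      u ∈ Subgroup.centralizer (R : Set H) := by
  simp only [Subgroup.mem_centralizer_iff, SetLike.mem_coe, Subgroup.mem_map]
  constructor
  · intro h r hr
    exact Subtype.ext (h _ ⟨r, hr, rfl⟩)
  · rintro h _ ⟨r, hr, rfl⟩
    exact congrArg Subtype.val (h r hr)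

/-- The centralizer in `H` as the centralizer in `G`, when the latter lies in `H`. -/
def pushIso (R : Subgroup H)
    (hR : Subgroup.centralizer ((R.map H.subtype : Subgroup G) : Set G) ≤ H) :
    Subgroup.centralizer (R : Set H) ≃*
      Subgroup.centralizer ((R.map H.subtype : Subgroup G) : Set G) where
  toFun u := ⟨((u : H) : G), (mem_centralizer_map_iff R u.1).mpr u.2⟩
  invFun v := ⟨⟨(v : G), hR v.2⟩, (mem_centralizer_map_iff R ⟨(v : G), hR v.2⟩).mp v.2⟩
  left_inv _ := rfl
  right_inv _ := rfl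
  map_mul' _ _ := rfl

theorem coeff_push (R : Subgroup H)
    (hR : Subgroup.centralizer ((R.map H.subtype : Subgroup G) : Set G) ≤ H)
    {h : Set (IrrCharacter (Subgroup.centralizer ((R.map H.subtype : Subgroup G) : Set G)))}
    {h' : Set (IrrCharacter (Subgroup.centralizer (R : Set H)))}
    (hh : ∀ u : Subgroup.centralizer (R : Set H),
      (bBar M h' : MonoidAlgebra (Res M) _).coeff u =
        (bBar M h : MonoidAlgebra (Res M) _).coeff (pushIso R hR u)) :
    embH H (bel M (Subgroup.centralizer (R : Set H)) h') =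
      bel M (Subgroup.centralizer ((R.map H.subtype : Subgroup G) : Set G)) h := by
  refine MonoidAlgebra.ext (Finsupp.ext fun u => ?_)
  by_cases hu : u ∈ Subgroup.centralizer ((R.map H.subtype : Subgroup G) : Set G)
  · have huH := hR hu
    have hu' := (mem_centralizer_map_iff R ⟨u, huH⟩).mp hu
    rw [coeff_embH H _ ⟨u, huH⟩,
      show (⟨u, huH⟩ : H) = ((⟨⟨u, huH⟩, hu'⟩ : Subgroup.centralizer (R : Set H)) : H) from rfl,
      coeff_bel, hh]
    exact (coeff_bel (M := M) _ h ⟨u, hu⟩).symm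
  · rw [coeff_bel_of_notMem _ _ hu]
    by_cases huH : u ∈ H
    · rw [coeff_embH H _ ⟨u, huH⟩,
        coeff_bel_of_notMem _ _ fun hu' => hu ((mem_centralizer_map_iff R ⟨u, huH⟩).mpr hu')]
    · rw [coeff_embH_of_notMem _ _ huH]

theorem exists_push (a : BrauerPairIdx H) (ha : IsPBlock M a.2)
    (hR : Subgroup.centralizer ((a.1.map H.subtype : Subgroup G) : Set G) ≤ H) :
    ∃ b : BrauerPairIdx G, IsPush M a b := by
  refine ⟨⟨a.1.map H.subtype, pullSet (pushIso a.1 hR).symm a.2⟩, ha, isPBlock_pullSet _ ha, rfl,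
    coeff_push a.1 hR fun u => ?_⟩
  rw [bBar_pullSet _ ha, MulEquiv.symm_apply_apply]

theorem exists_pull (b : BrauerPairIdx G) (hb : IsPBlock M b.2) (hbH : b.1 ≤ H)
    (hR : Subgroup.centralizer (b.1 : Set G) ≤ H) :
    ∃ a : BrauerPairIdx H, IsPush M a b := by
  obtain ⟨R, h⟩ := b
  obtain ⟨R', rfl⟩ : ∃ R' : Subgroup H, R'.map H.subtype = R :=
    ⟨R.subgroupOf H, Subgroup.map_subgroupOf_eq_of_le hbH⟩
  exact ⟨⟨R', pullSet (pushIso R' hR) h⟩, isPBlock_pullSet _ hb, hb, rfl,
    coeff_push R' hR fun u => bBar_pullSet _ hb u⟩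

theorem isPush_conj {a : BrauerPairIdx H} {b : BrauerPairIdx G} (h : IsPush M a b) (t : H) :
    IsPush M (conjIdx t a) (conjIdx (t : G) b) := by
  obtain ⟨ha, hb, hsub, hbel⟩ := h
  refine ⟨isPBlock_conjBlock _ _ ha, isPBlock_conjBlock _ _ hb, ?_, ?_⟩
  · show (a.1.map (MulAut.conj t).toMonoidHom).map H.subtype = _
    rw [map_subtype_conj, hsub]
    rfl
  · show embH H (bel M _ (conjBlock a.1 t a.2)) = bel M _ (conjBlock b.1 (t : G) b.2)
    rw [bel_conjBlock _ _ ha, bel_conjBlock _ _ hb, ← conjA_embH, hbel]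

theorem isPGroup_push {R : Subgroup H} {R' : Subgroup G} (h : R.map H.subtype = R') :
    IsPGroup p R ↔ IsPGroup p R' := by
  subst h
  exact ⟨fun hp => hp.map _, fun hp => hp.of_equiv
    (R.equivMapOfInjective H.subtype H.subtype_injective).symm⟩

theorem inv2_push {R : Subgroup H} {R' : Subgroup G} (hsub : R.map H.subtype = R')
    (hR : Subgroup.centralizer (R' : Set G) ≤ H) {c : MonoidAlgebra (Res M) H}
    (hc : Inv2 R c) : Inv2 R' (embH H c) := by
  subst hsub
  refine ⟨isInv_iff_conjA.mpr ?_, isInv_iff_conjA.mpr fun x hx => ?_⟩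
  · rintro _ ⟨r, hr, rfl⟩
    exact (conjA_embH r c).trans (congrArg _ (isInv_iff_conjA.mp hc.1 r hr))
  · exact (conjA_embH (⟨x, hR hx⟩ : H) c).trans (congrArg _
      (isInv_iff_conjA.mp hc.2 _ ((mem_centralizer_map_iff R ⟨x, hR hx⟩).mp hx)))

theorem embH_resH_push (R : Subgroup H)
    (hR : Subgroup.centralizer ((R.map H.subtype : Subgroup G) : Set G) ≤ H)
    (c : MonoidAlgebra (Res M) H) :
    embH _ (resH (Subgroup.centralizer ((R.map H.subtype : Subgroup G) : Set G)) (embH H c)) =
      embH H (embH _ (resH (Subgroup.centralizer (R : Set H)) c)) := by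
  refine MonoidAlgebra.ext (Finsupp.ext fun u => ?_)
  by_cases hu : u ∈ Subgroup.centralizer ((R.map H.subtype : Subgroup G) : Set G)
  · rw [coeff_embH _ _ ⟨u, hu⟩, coeff_resH, coeff_embH H _ ⟨u, hR hu⟩, coeff_embH H _ ⟨u, hR hu⟩]
    exact ((coeff_embH (Subgroup.centralizer (R : Set H)) _
      ⟨⟨u, hR hu⟩, (mem_centralizer_map_iff R ⟨u, hR hu⟩).mp hu⟩).trans (coeff_resH _ _ _)).symm
  · rw [coeff_embH_of_notMem _ _ hu]
    by_cases huH : u ∈ H
    · rw [coeff_embH H _ ⟨u, huH⟩,
        coeff_embH_of_notMem _ _ fun hu' => hu ((mem_centralizer_map_iff R ⟨u, huH⟩).mpr hu')]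
    · rw [coeff_embH_of_notMem _ _ huH]

theorem occ_push (hM : IsPModular p M) {a : BrauerPairIdx H} {b : BrauerPairIdx G}
    (h : IsPush M a b) (hR : Subgroup.centralizer (b.1 : Set G) ≤ H) (hp : IsPGroup p a.1)
    {c : MonoidAlgebra (Res M) H} (hc : Inv2 a.1 c) (hcc : c * c = c) :
    Occ M b.1 b.2 (embH H c) ↔ Occ M a.1 a.2 c := by
  obtain ⟨R, h'⟩ := a
  obtain ⟨R', g⟩ := b
  obtain ⟨ha, hb, hsub, hbel⟩ := h
  subst hsub
  have hi := inv2_push rfl hR hc
  have hkey : embH _ (resH (Subgroup.centralizer ((R.map H.subtype : Subgroup G) : Set G))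
        (embH H c)) * bel M _ g = bel M _ g ↔
      embH _ (resH (Subgroup.centralizer (R : Set H)) c) * bel M _ h' = bel M _ h' := by
    rw [embH_resH_push R hR, ← hbel, ← map_mul]
    exact (embH_injective H).eq_iff
  constructor
  · intro ho
    exact occ_of_mul ha hc.2 (hkey.mp (mul_of_occ hM (hp.map _) hb hi
      (by rw [← map_mul, hcc]) ho))
  · intro ho
    exact occ_of_mul hb hi.2 (hkey.mpr (mul_of_occ hM hp ha hc hcc ho))

theorem rel_push (hM : IsPModular p M) {a a' : BrauerPairIdx H} {b b' : BrauerPairIdx G}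
    (h : IsPush M a b) (h' : IsPush M a' b')
    (hR : Subgroup.centralizer (b'.1 : Set G) ≤ H) (hr : NormalSubpairRel p M a a') :
    NormalSubpairRel p M b b' := by
  obtain ⟨hf, he, hQP, hPN, hst, ho⟩ := isNormalSubpair_iff.mp hr
  obtain ⟨ha, hb, hsub, hbel⟩ := h
  obtain ⟨ha', hb', hsub', hbel'⟩ := h'
  refine isNormalSubpair_iff.mpr ⟨⟨(isPGroup_push hsub).mp hf.1, hb⟩,
    ⟨(isPGroup_push hsub').mp he.1, hb'⟩, ?_, ?_, ?_, ?_⟩
  · rw [← hsub, ← hsub']; exact Subgroup.map_mono hQP
  · rw [← hsub, ← hsub']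
    exact (Subgroup.map_mono hPN).trans (Subgroup.le_normalizer_map H.subtype)
  · rw [← hsub']
    rintro _ ⟨x, hx, rfl⟩
    rw [← hbel]
    exact (conjA_embH x _).trans (congrArg _ (hst x hx))
  · rw [← hbel]
    exact (occ_push hM ⟨ha', hb', hsub', hbel'⟩ hR he.1 (inv2_bel hQP hst)
      (bel_mul_self _ hf.2)).mpr ho

theorem chain_push (hM : IsPModular p M) {Q : Subgroup G}
    (hcle : Subgroup.centralizer (Q : Set G) ≤ H) {a a' : BrauerPairIdx H}
    (hr : Relation.ReflTransGen (NormalSubpairRel p M) a a') {b : BrauerPairIdx G}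
    (hab : IsPush M a b) (hQb : Q ≤ b.1) :
    ∃ b' : BrauerPairIdx G, IsPush M a' b' ∧
      Relation.ReflTransGen (NormalSubpairRel p M) b b' := by
  induction hr with
  | refl => exact ⟨b, hab, .refl⟩
  | @tail c d _ hcd ih =>
    obtain ⟨c', hc', hbc'⟩ := ih
    have hle : c'.1 ≤ d.1.map H.subtype := by
      rw [← hc'.2.2.1]; exact Subgroup.map_mono (isNormalSubpair_iff.mp hcd).2.2.1
    have hQ : Q ≤ d.1.map H.subtype := hQb.trans ((subpair_le hbc').trans hle)
    obtain ⟨d', hd'⟩ := exists_push d (isNormalSubpair_iff.mp hcd).2.1.2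
      ((centralizer_le_centralizer hQ).trans hcle)
    exact ⟨d', hd', hbc'.tail (rel_push hM hc' hd'
      ((centralizer_le_centralizer (hd'.2.2.1 ▸ hQ)).trans hcle) hcd)⟩

end Push

/-! ### The local maximal pair -/

/-- A pair of maximal size above `(Q, f)` in `H`, absorbing all others up to conjugation. -/
structure IsLocalMax (p : ℕ) (M : Ideal AlgInt) [M.IsPrime] (Q : Subgroup G)
    (f : Set (IrrCharacter (Subgroup.centralizer (Q : Set G)))) (H D : Subgroup G)
    (k : Set (IrrCharacter (Subgroup.centralizer (D : Set G)))) : Prop where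
  rel : NormalSubpairRel p M (⟨Q, f⟩ : BrauerPairIdx G) ⟨D, k⟩
  le : D ≤ H
  absorb : ∀ (R : Subgroup G) (h : Set (IrrCharacter (Subgroup.centralizer (R : Set G)))),
    R ≤ H → NormalSubpairRel p M (⟨Q, f⟩ : BrauerPairIdx G) ⟨R, h⟩ →
      ∃ t ∈ H, SubpairLE p M (R.map (MulAut.conj t).toMonoidHom) (conjBlock R t h) D k

theorem exists_local_max (hM : IsPModular p M) {Q H : Subgroup G}
    {f : Set (IrrCharacter (Subgroup.centralizer (Q : Set G)))} (hL : IsLocal p M Q f H) :
    ∃ (D : Subgroup G) (k : Set (IrrCharacter (Subgroup.centralizer (D : Set G))))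
      (E : Set (IrrCharacter H)), IsLocalMax p M Q f H D k ∧ IsPBlock M E ∧
      (∀ t : H, blockCoeff E t =
        subgroupBlockCoeff (Subgroup.centralizer (Q : Set G)) f (t : G)) ∧
      IsDefectGroup p M E (D.subgroupOf H) := by
  classical
  obtain ⟨E, hE, hbelE, hcoeff⟩ := exists_local_block hM hL
  have hzz : (bBar M E : MonoidAlgebra (Res M) H) * (bBar M E : MonoidAlgebra (Res M) H) =
      (bBar M E : MonoidAlgebra (Res M) H) := by
    rw [← Subring.coe_mul, bBar_mul_self (blockCoeff_mem_loc hE)]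
  -- pairs of `E` above `Q` are the pairs above `(Q, f)`
  have hpair : ∀ (a : BrauerPairIdx H) (b : BrauerPairIdx G), IsPush M a b → Q ≤ b.1 →
      IsPGroup p b.1 → (IsBrauerPairOf p M E a.1 a.2 ↔
        NormalSubpairRel p M (⟨Q, f⟩ : BrauerPairIdx G) b) := by
    intro a b hab hQb hp
    have hR := (centralizer_le_centralizer hQb).trans hL.cle
    have ha := (isPGroup_push (p := p) hab.2.2.1).mpr hp
    have hocc := occ_push hM hab hR ha (inv2_center a.1 (bBar M E).2) hzz
    have hbH : b.1 ≤ H := hab.2.2.1 ▸ Subgroup.map_subtype_le _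
    rw [show embH H (bBar M E : MonoidAlgebra (Res M) H) = bel M H E from rfl, hbelE] at hocc
    rw [isBrauerPairOf_iff, ← hocc]
    exact ⟨fun h => isNormalSubpair_iff.mpr ⟨hL.pair, ⟨hp, hab.2.1⟩, hQb, hbH.trans hL.leN,
        fun x hx => hL.stab x (hbH hx), h.2.2.2⟩,
      fun h => ⟨ha, hab.1, hE, (isNormalSubpair_iff.mp h).2.2.2.2.2⟩⟩
  obtain ⟨a₀, ha₀⟩ := exists_pull ⟨Q, f⟩ hL.pair.2 hL.le hL.cle
  obtain ⟨ξ, hξ⟩ := block_nonempty hL.pair.2
  have hself : NormalSubpairRel p M (⟨Q, f⟩ : BrauerPairIdx G) ⟨Q, f⟩ :=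
    isNormalSubpair_iff.mpr ⟨hL.pair, hL.pair, le_rfl, Subgroup.le_normalizer,
      fun x hx => conjA_bel_self Q f hx, occ_of_mem hL.pair.2 hξ (by rw [val_bel hL.pair.2, if_pos hξ])⟩
  have hpair₀ := (hpair a₀ ⟨Q, f⟩ ha₀ le_rfl hL.pair.1).mpr hself
  obtain ⟨⟨D', k'⟩, hchain, hmax⟩ := exists_maximal hM hpair₀
  obtain ⟨⟨D, k⟩, hDk, hQD⟩ := chain_push hM hL.cle hchain ha₀ le_rfl
  have hD : D'.map H.subtype = D := hDk.2.2.1
  have hQle : Q ≤ D := subpair_le hQD
  have hDH : D ≤ H := hD ▸ Subgroup.map_subtype_le _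
  have hDp : IsPGroup p D := (isPGroup_push hD).mp hmax.1.1.1
  refine ⟨D, k, E, ⟨(hpair _ _ hDk hQle hDp).mp hmax.1, hDH, fun R h hRH hrel => ?_⟩, hE, hcoeff, ?_⟩
  · obtain ⟨-, hh, hQR, -, -, -⟩ := isNormalSubpair_iff.mp hrel
    have hCR := (centralizer_le_centralizer hQR).trans hL.cle
    obtain ⟨a, ha⟩ := exists_pull ⟨R, h⟩ hh.2 hRH hCR
    obtain ⟨t, ht⟩ := exists_conj_below_maximal hM hmax ((hpair a _ ha hQR hh.1).mpr hrel)
    have hQt : Q ≤ R.map (MulAut.conj (t : G)).toMonoidHom := by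
      intro q hq
      rw [Blocks.mem_map_conj]
      exact hQR ((Subgroup.mem_normalizer_iff''.mp (hL.leN t.2) q).mp hq)
    obtain ⟨b', hb', hchain'⟩ := chain_push hM hL.cle ht (isPush_conj ha t) hQt
    have heq : b' = ⟨D, k⟩ := idx_ext (M := M) hb'.2.1 hDk.2.1 (hb'.2.2.1.symm.trans hD)
      (hb'.2.2.2.symm.trans hDk.2.2.2)
    rw [heq] at hchain'
    exact ⟨t, t.2, hchain'⟩
  · have := isDefectGroup_of_maximal hM hmax
    rw [← hD]
    rwa [show (D'.map H.subtype).subgroupOf H = D' from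
      Subgroup.comap_map_eq_self_of_injective H.subtype_injective D']

theorem IsLocalMax.card_le {Q H D : Subgroup G}
    {f : Set (IrrCharacter (Subgroup.centralizer (Q : Set G)))}
    {k : Set (IrrCharacter (Subgroup.centralizer (D : Set G)))} (hD : IsLocalMax p M Q f H D k)
    {R : Subgroup G} {h : Set (IrrCharacter (Subgroup.centralizer (R : Set G)))} (hRH : R ≤ H)
    (hrel : NormalSubpairRel p M (⟨Q, f⟩ : BrauerPairIdx G) ⟨R, h⟩) : Nat.card R ≤ Nat.card D := by
  obtain ⟨t, -, ht⟩ := hD.absorb R h hRH hrel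
  rw [← card_map_conj R t]
  exact Subgroup.card_le_of_le (subpair_le ht)

/-- A `p`-subgroup of `H` centralizing a point of the support carries a pair above `(Q, f)`. -/
theorem exists_pair_of_coeff (hM : IsPModular p M) {Q H R : Subgroup G}
    {f : Set (IrrCharacter (Subgroup.centralizer (Q : Set G)))} (hL : IsLocal p M Q f H)
    (hR : IsPGroup p R) (hQR : Q ≤ R) (hRH : R ≤ H) {u : G}
    (hu : u ∈ Subgroup.centralizer (R : Set G))
    (hne : (bel M (Subgroup.centralizer (Q : Set G)) f).coeff u ≠ 0) :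
    ∃ h, NormalSubpairRel p M (⟨Q, f⟩ : BrauerPairIdx G) ⟨R, h⟩ := by
  have hst : ∀ x ∈ R, conjA x (bel M (Subgroup.centralizer (Q : Set G)) f) =
      bel M (Subgroup.centralizer (Q : Set G)) f := fun x hx => hL.stab x (hRH hx)
  obtain ⟨h, hh, ho⟩ := exists_occ hM hR (inv2_bel hQR hst) (bel_mul_self _ hL.pair.2) hu hne
  exact ⟨h, isNormalSubpair_iff.mpr ⟨hL.pair, ⟨hR, hh⟩, hQR, hRH.trans hL.leN, hst, ho⟩⟩

/-- A `p`-subgroup of `H` fixes a class of the support. -/
theorem exists_fixed_class (hM : IsPModular p M) {Q H R : Subgroup G}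
    {f : Set (IrrCharacter (Subgroup.centralizer (Q : Set G)))} (hL : IsLocal p M Q f H)
    (hR : IsPGroup p R) (hRH : R ≤ H) :
    ∃ u ∈ Subgroup.centralizer (Q : Set G),
      (bel M (Subgroup.centralizer (Q : Set G)) f).coeff u ≠ 0 ∧
      ∀ r ∈ R, ∃ c ∈ Subgroup.centralizer (Q : Set G),
        c⁻¹ * r ∈ Subgroup.centralizer ({u} : Set G) := by
  classical
  haveI := Fact.mk hM.1
  haveI := charP_res hM
  obtain ⟨ξ, hξ⟩ := block_nonempty hL.pair.2
  have hmem : ∀ r : R, ∀ u, u ∈ Subgroup.centralizer (Q : Set G) ↔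
      (r : G) * u * (r : G)⁻¹ ∈ Subgroup.centralizer (Q : Set G) :=
    fun r u => (centralizer_conj_mem (hL.leN (hRH r.2))).symm
  let φ : R → (Subgroup.centralizer (Q : Set G) ≃* Subgroup.centralizer (Q : Set G)) :=
    fun r => (cIso (r : G) _ _ (hmem r)).symm
  have hφ : ∀ r c, ((φ r c : Subgroup.centralizer (Q : Set G)) : G) =
      (r : G) * (c : G) * (r : G)⁻¹ := fun r c => rfl
  let cl : R → ConjClasses (Subgroup.centralizer (Q : Set G)) →
      ConjClasses (Subgroup.centralizer (Q : Set G)) :=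
    fun r => ConjClasses.map (φ r).toMonoidHom
  have hcl : ∀ r c, cl r (ConjClasses.mk c) = ConjClasses.mk (φ r c) := fun _ _ => rfl
  have hone : ∀ K, cl 1 K = K := fun K => by
    obtain ⟨c, rfl⟩ := ConjClasses.mk_surjective K
    rw [hcl]
    exact congrArg _ (Subtype.ext (by rw [hφ]; simp))
  have hmul : ∀ r s K, cl (r * s) K = cl r (cl s K) := fun r s K => by
    obtain ⟨c, rfl⟩ := ConjClasses.mk_surjective K
    rw [hcl, hcl, hcl]
    exact congrArg _ (Subtype.ext (by rw [hφ, hφ, hφ, Subgroup.coe_mul]; group))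
  let act : R →* Equiv.Perm (ConjClasses (Subgroup.centralizer (Q : Set G))) :=
    { toFun := fun r =>
        { toFun := cl r
          invFun := cl r⁻¹
          left_inv := fun K => by rw [← hmul, inv_mul_cancel, hone]
          right_inv := fun K => by rw [← hmul, mul_inv_cancel, hone] }
      map_one' := Equiv.ext hone
      map_mul' := fun r s => Equiv.ext (hmul r s) }
  let F : ConjClasses (Subgroup.centralizer (Q : Set G)) → Res M := fun K =>
    (bel M (Subgroup.centralizer (Q : Set G)) f).coeff ((rep K : Subgroup.centralizer (Q : Set G)) : G)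
      * red M (centralCharL M ξ (rep K))
  have hinv : ∀ r K, F (act r K) = F K := by
    intro r K
    have hconj : IsConj (rep (act r K)) (φ r (rep K)) := by
      apply ConjClasses.mk_eq_mk_iff_isConj.mp
      rw [mk_rep]
      conv_lhs => rw [← mk_rep K]
      exact hcl r _
    obtain ⟨d, hd⟩ := isConj_iff.mp hconj
    refine congrArg₂ (· * ·) ?_ ?_
    · have e1 := (conjA_eq_self_iff _ _).mp
        (isInv_iff_conjA.mp (isInv_bel (M := M) _ f) (d : G) d.2)
        ((φ r (rep K) : Subgroup.centralizer (Q : Set G)) : G)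
      have e2 := (conjA_eq_self_iff _ _).mp (hL.stab _ (hRH r.2))
        ((r : G) * ((rep K : Subgroup.centralizer (Q : Set G)) : G) * (r : G)⁻¹)
      rw [show (r : G)⁻¹ * ((r : G) * ((rep K : Subgroup.centralizer (Q : Set G)) : G) * (r : G)⁻¹) *
        (r : G) = ((rep K : Subgroup.centralizer (Q : Set G)) : G) by group, ← hφ r (rep K)] at e2
      rw [e2, ← e1]
      congr 1
      rw [← hd]
      simp [mul_assoc]
    · have hξ' : Glauberman.compIrr (φ r) ξ ∈ f := by
        have h := hL.stab _ (H.inv_mem (hRH r.2))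
        have hmem' : ∀ u, u ∈ Subgroup.centralizer (Q : Set G) ↔
            (r : G)⁻¹ * u * (r : G)⁻¹⁻¹ ∈ Subgroup.centralizer (Q : Set G) :=
          fun u => (centralizer_conj_mem (hL.leN (H.inv_mem (hRH r.2)))).symm
        rw [← bel_conjSet _ _ _ hmem' hL.pair.2] at h
        have h2 : conjSet (r : G)⁻¹ _ _ hmem' f = f :=
          bel_injective _ (isPBlock_pullSet _ hL.pair.2) hL.pair.2 h
        have h3 : Glauberman.compIrr (φ r) ξ ∈ conjSet (r : G)⁻¹ _ _ hmem' f := by
          rw [mem_conjSet_iff]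
          refine ⟨ξ, hξ, fun c c' hc => ?_⟩
          show (ξ : _ → ℂ) (φ r c') = (ξ : _ → ℂ) c
          refine congrArg _ (Subtype.ext ?_)
          rw [hφ r c', hc]
          group
        rwa [h2] at h3
      have e : red M (centralCharL M (Glauberman.compIrr (φ r) ξ) (rep K)) =
          red M (centralCharL M ξ (φ r (rep K))) := by
        congr 1
        refine Subtype.ext ?_
        rw [coe_centralCharL, coe_centralCharL]
        exact centralChar_comp (φ r) _ _
      rw [← sameBlock_iff_red.mp ((mem_block_iff hL.pair.2 hξ').mp hξ) (rep K), e]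
      congr 1
      refine Subtype.ext ?_
      rw [coe_centralCharL, coe_centralCharL]
      exact centralChar_congr ξ hconj
  have htot : ∑ K, F K = 1 := by
    have := val_bel (M := M) hL.pair.2 ξ
    rw [if_pos hξ] at this
    exact this
  rw [Glauberman.sum_eq_sum_fixed hR act F hinv] at htot
  obtain ⟨K, hK, hne⟩ := Finset.exists_ne_zero_of_sum_ne_zero (htot ▸ one_ne_zero)
  refine ⟨_, (rep K).2, left_ne_zero_of_mul hne, fun r hr => ?_⟩
  have hfix := (Finset.mem_filter.mp hK).2 ⟨r, hr⟩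
  have hconj : IsConj (φ ⟨r, hr⟩ (rep K)) (rep K) := by
    apply ConjClasses.mk_eq_mk_iff_isConj.mp
    rw [← hcl, mk_rep]
    exact hfix
  obtain ⟨d, hd⟩ := isConj_iff.mp hconj
  refine ⟨(d : G)⁻¹, Subgroup.inv_mem _ d.2, ?_⟩
  rw [Subgroup.mem_centralizer_singleton_iff, inv_inv]
  have hd' : (d : G) * (r * ((rep K : Subgroup.centralizer (Q : Set G)) : G) * r⁻¹) * (d : G)⁻¹ =
      ((rep K : Subgroup.centralizer (Q : Set G)) : G) := by
    have := congrArg Subtype.val hd
    simp only [Subgroup.coe_mul, Subgroup.coe_inv, hφ] at this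
    exact this
  calc (d : G) * r * ((rep K : Subgroup.centralizer (Q : Set G)) : G)
      = (d : G) * (r * ((rep K : Subgroup.centralizer (Q : Set G)) : G) * r⁻¹) * (d : G)⁻¹ *
        ((d : G) * r) := by group
    _ = ((rep K : Subgroup.centralizer (Q : Set G)) : G) * ((d : G) * r) := by rw [hd']

/-- The local maximal pair covers a Sylow subgroup of `H` modulo the centralizer. -/
theorem IsLocalMax.relIndex_le (hM : IsPModular p M) {Q H D : Subgroup G}
    {f : Set (IrrCharacter (Subgroup.centralizer (Q : Set G)))}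
    {k : Set (IrrCharacter (Subgroup.centralizer (D : Set G)))} (hL : IsLocal p M Q f H)
    (hD : IsLocalMax p M Q f H D k) {R : Subgroup G} (hR : IsPGroup p R) (hRH : R ≤ H) :
    (Subgroup.centralizer (Q : Set G)).relIndex R ≤
      (Subgroup.centralizer (Q : Set G)).relIndex D := by
  classical
  haveI := Fact.mk hM.1
  set C' := (Subgroup.centralizer (Q : Set G)).subgroupOf H with hC'
  haveI : C'.Normal := Subgroup.normal_subgroupOf_of_le_normalizer
    (hL.leN.trans (normalizer_le_normalizer_centralizer Q))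
  have himg : ∀ X : Subgroup G, X ≤ H → (Subgroup.centralizer (Q : Set G)).relIndex X =
      Nat.card ((X.subgroupOf H).map (QuotientGroup.mk' C')) := fun X hX => by
    rw [← Subgroup.relIndex_ker, QuotientGroup.ker_mk', hC', Subgroup.relIndex_subgroupOf hX]
  have hcard : ∀ X : Subgroup G, Nat.card X = (Subgroup.centralizer (Q : Set G)).relIndex X *
      Nat.card ((Subgroup.centralizer (Q : Set G)).subgroupOf X) :=
    fun X => (Subgroup.index_mul_card _).symm
  obtain ⟨u, huC, hne, hfix⟩ := exists_fixed_class hM hL hR hRH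
  set S := H ⊓ Subgroup.centralizer ({u} : Set G) with hS
  have hQS : Q ≤ S := le_inf hL.le (le_centralizer_singleton.mpr huC)
  obtain ⟨T, hT⟩ := exists_sylow_ge hQS hL.pair.1
  set T' := (T : Subgroup S).map S.subtype with hT'
  have hT'S : T' ≤ S := Subgroup.map_subtype_le _
  have hT'H : T' ≤ H := hT'S.trans inf_le_left
  obtain ⟨h, hh⟩ := exists_pair_of_coeff hM hL (T.isPGroup'.map _) hT hT'H
    (le_centralizer_singleton.mp (hT'S.trans inf_le_right)) hne
  obtain ⟨t, ht, hle⟩ := hD.absorb T' h hT'H hh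
  -- the image of `R` lies in the image of `S`
  have hRS : (R.subgroupOf H).map (QuotientGroup.mk' C') ≤
      (S.subgroupOf H).map (QuotientGroup.mk' C') := by
    rintro _ ⟨r, hr, rfl⟩
    obtain ⟨c, hc, hcr⟩ := hfix r hr
    refine ⟨⟨c, hL.cle hc⟩⁻¹ * r, ⟨H.mul_mem (H.inv_mem (hL.cle hc)) r.2, hcr⟩, ?_⟩
    have h1 : QuotientGroup.mk' C' (⟨c, hL.cle hc⟩ : H) = 1 :=
      (QuotientGroup.eq_one_iff _).mpr hc
    rw [map_mul, map_inv, h1, inv_one, one_mul]
  have hdvd : (Subgroup.centralizer (Q : Set G)).relIndex R ∣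
      (Subgroup.centralizer (Q : Set G)).relIndex S := by
    rw [himg R hRH, himg S inf_le_left]
    exact Subgroup.card_dvd_of_le hRS
  have hTS : Nat.card ((Subgroup.centralizer (Q : Set G)).subgroupOf T') ∣
      Nat.card ((Subgroup.centralizer (Q : Set G)).subgroupOf S) := by
    refine Subgroup.card_dvd_of_injective
      (((Subgroup.inclusion hT'S).comp (Subgroup.subtype _)).codRestrict _ fun x => x.2) ?_
    intro x y hxy
    exact Subtype.ext (Subgroup.inclusion_injective hT'S (congrArg Subtype.val hxy))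
  -- compare the `p`-parts
  have hRp : ∃ i, (Subgroup.centralizer (Q : Set G)).relIndex R = p ^ i := by
    obtain ⟨n, hn⟩ := IsPGroup.iff_card.mp hR
    obtain ⟨i, -, hi⟩ := (Nat.dvd_prime_pow hM.1).mp (hn ▸ Subgroup.relIndex_dvd_card _ R)
    exact ⟨i, hi⟩
  obtain ⟨i, hi⟩ := hRp
  obtain ⟨j, hj⟩ : ∃ j, Nat.card ((Subgroup.centralizer (Q : Set G)).subgroupOf T') = p ^ j :=
    IsPGroup.iff_card.mp ((T.isPGroup'.map _).to_subgroup _)
  have hmain : (Subgroup.centralizer (Q : Set G)).relIndex R ≤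
      (Subgroup.centralizer (Q : Set G)).relIndex T' := by
    have h1 : p ^ (i + j) ∣ Nat.card S := by
      rw [hcard S, pow_add, ← hi, ← hj]; exact mul_dvd_mul hdvd hTS
    have h2 : p ^ (i + j) ≤ Nat.card T' := by
      rw [hT', card_sylow_map]
      exact Nat.pow_le_pow_right hM.1.pos
        ((Nat.Prime.pow_dvd_iff_le_factorization hM.1 Nat.card_pos.ne').mp h1)
    rw [hcard T', pow_add, ← hi, ← hj] at h2
    exact Nat.le_of_mul_le_mul_right h2 Nat.card_pos
  refine hmain.trans ?_
  have hle' := subpair_le hle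
  rw [himg T' hT'H, himg D hD.le]
  calc Nat.card ((T'.subgroupOf H).map (QuotientGroup.mk' C'))
      = Nat.card (((T'.map (MulAut.conj t).toMonoidHom).subgroupOf H).map (QuotientGroup.mk' C')) := by
        have e : ((T'.map (MulAut.conj t).toMonoidHom).subgroupOf H) =
            (T'.subgroupOf H).map (MulAut.conj (⟨t, ht⟩ : H)).toMonoidHom := by
          ext y
          simp only [Subgroup.mem_subgroupOf, Blocks.mem_map_conj]
          rfl
        rw [e, Subgroup.map_map,
          show (QuotientGroup.mk' C').comp (MulAut.conj (⟨t, ht⟩ : H)).toMonoidHom =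
            (MulAut.conj (QuotientGroup.mk' C' ⟨t, ht⟩)).toMonoidHom.comp (QuotientGroup.mk' C') from
            MonoidHom.ext fun y => by simp [MulAut.conj_apply],
          ← Subgroup.map_map]
        exact (card_map_conj _ _).symm
    _ ≤ _ := Subgroup.card_le_of_le (Subgroup.map_mono (Subgroup.comap_mono hle'))

/-- Elements of a `p`-subgroup above the local maximal one lie in `D C(Q)`. -/
theorem IsLocalMax.le_sup (hM : IsPModular p M) {Q H D : Subgroup G}
    {f : Set (IrrCharacter (Subgroup.centralizer (Q : Set G)))}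
    {k : Set (IrrCharacter (Subgroup.centralizer (D : Set G)))} (hL : IsLocal p M Q f H)
    (hD : IsLocalMax p M Q f H D k) {R : Subgroup G} (hR : IsPGroup p R) (hRH : R ≤ H)
    (hDR : D ≤ R) : R ≤ D ⊔ Subgroup.centralizer (Q : Set G) := by
  have hle := hD.relIndex_le hM hL hR hRH
  intro r hr
  have hCN : R ≤ Subgroup.normalizer ((Subgroup.centralizer (Q : Set G) : Subgroup G) : Set G) :=
    (hRH.trans hL.leN).trans (normalizer_le_normalizer_centralizer Q)
  -- in `R`, the subgroup `D` and `C(Q) ⊓ R` generate a subgroup of full index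
  set K := (Subgroup.centralizer (Q : Set G)).subgroupOf R with hK
  haveI : K.Normal := Subgroup.normal_subgroupOf_of_le_normalizer hCN
  have himg : ∀ X : Subgroup G, X ≤ R → (Subgroup.centralizer (Q : Set G)).relIndex X =
      Nat.card ((X.subgroupOf R).map (QuotientGroup.mk' K)) := fun X hX => by
    rw [← Subgroup.relIndex_ker, QuotientGroup.ker_mk', hK, Subgroup.relIndex_subgroupOf hX]
  have heq : (D.subgroupOf R).map (QuotientGroup.mk' K) =
      (R.subgroupOf R).map (QuotientGroup.mk' K) :=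
    Subgroup.eq_of_le_of_card_ge (Subgroup.map_mono (Subgroup.comap_mono hDR))
      (by rw [← himg R le_rfl, ← himg D hDR]; exact hle)
  have hmem : QuotientGroup.mk' K ⟨r, hr⟩ ∈ (D.subgroupOf R).map (QuotientGroup.mk' K) := by
    rw [heq]; exact ⟨⟨r, hr⟩, hr, rfl⟩
  obtain ⟨d, hd, hde⟩ := hmem
  have hdK : d⁻¹ * ⟨r, hr⟩ ∈ K := QuotientGroup.eq.mp hde
  rw [show r = (d : G) * ((d : G)⁻¹ * r) by group]
  exact Subgroup.mul_mem_sup hd hdK

end Cfsg.Agent.BPairs
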