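import Cfsg.Agent.Lib.BrauerPairs.Local
import Cfsg.Agent.Lib.Blocks.PPart

/-!
# Conjugation of Brauer pairs below a maximal pair
-/

set_option linter.unusedSectionVars false

namespace Cfsg.Agent.BPairs

open MonoidAlgebra Blocks

universe u

variable {G : Type u} [Group G] [Finite G] {p : ℕ} {M : Ideal AlgInt} [M.IsPrime]

theorem conjIdx_conjIdx {a : BrauerPairIdx G} (ha : IsPBlock M a.2) (x y : G) :
    conjIdx x (conjIdx y a) = conjIdx (x * y) a := by
  refine idx_ext (M := M) (isPBlock_conjBlock _ _ (isPBlock_conjBlock _ _ ha))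
    (isPBlock_conjBlock _ _ ha) (map_conj_map_conj a.1 y x) ?_
  show bel M _ (conjBlock _ x (conjBlock a.1 y a.2)) = bel M _ (conjBlock a.1 (x * y) a.2)
  rw [bel_conjBlock _ _ (isPBlock_conjBlock _ _ ha), bel_conjBlock _ _ ha, bel_conjBlock _ _ ha,
    conjA_conjA]

theorem conjIdx_one {a : BrauerPairIdx G} (ha : IsPBlock M a.2) : conjIdx 1 a = a := by
  refine idx_ext (M := M) (isPBlock_conjBlock _ _ ha) ha (map_conj_one a.1) ?_
  show bel M _ (conjBlock a.1 1 a.2) = _
  rw [bel_conjBlock _ _ ha, conjA_one]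

theorem conjIdx_eq_self_iff {a : BrauerPairIdx G} (ha : IsPBlock M a.2) {x : G} :
    conjIdx x a = a ↔ x ∈ Subgroup.normalizer (a.1 : Set G) ∧
      conjA x (bel M (Subgroup.centralizer (a.1 : Set G)) a.2) =
        bel M (Subgroup.centralizer (a.1 : Set G)) a.2 := by
  constructor
  · intro h
    have h1 : a.1.map (MulAut.conj x).toMonoidHom = a.1 := congrArg Sigma.fst h
    refine ⟨Subgroup.mem_normalizer_iff.mpr fun u => ?_, ?_⟩
    · conv_rhs => rw [← h1, Blocks.mem_map_conj]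
      rw [show x⁻¹ * (x * u * x⁻¹) * x = u by group]
    · have h2 := congrArg
        (fun b : BrauerPairIdx G => bel M (Subgroup.centralizer (b.1 : Set G)) b.2) h
      simp only [conjIdx] at h2
      rw [bel_conjBlock _ _ ha] at h2
      exact h2
  · rintro ⟨hx, hb⟩
    refine idx_ext (M := M) (isPBlock_conjBlock _ _ ha) ha ?_ ?_
    · ext u
      show u ∈ a.1.map (MulAut.conj x).toMonoidHom ↔ u ∈ a.1
      rw [Blocks.mem_map_conj]
      exact (Subgroup.mem_normalizer_iff''.mp hx u).symm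
    · show bel M _ (conjBlock a.1 x a.2) = _
      rw [bel_conjBlock _ _ ha, hb]

theorem conjIdx_self {a : BrauerPairIdx G} (ha : IsPBlock M a.2) {x : G} (hx : x ∈ a.1) :
    conjIdx x a = a :=
  (conjIdx_eq_self_iff ha).mpr ⟨Subgroup.le_normalizer hx, conjA_bel_self a.1 a.2 hx⟩

theorem eq_of_chain_eq (hM : IsPModular p M) {a b : BrauerPairIdx G}
    (h : Relation.ReflTransGen (NormalSubpairRel p M) a b) (he : b.1 ≤ a.1) : a = b := by
  rcases chain_cases hM a b h with h' | ⟨c, -, hlt, hc⟩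
  · exact h'
  · exact absurd ((subpair_le hc).trans he) (not_le_of_gt hlt)

theorem chain_conj_of (hM : IsPModular p M) {a b : BrauerPairIdx G} (hb : IsPBlock M b.2)
    {x : G} (h : Relation.ReflTransGen (NormalSubpairRel p M) a (conjIdx x b)) :
    Relation.ReflTransGen (NormalSubpairRel p M) (conjIdx x⁻¹ a) b := by
  have := subpair_conj hM h x⁻¹
  rwa [conjIdx_conjIdx hb, inv_mul_cancel, conjIdx_one hb] at this

theorem maximal_of_chain (hM : IsPModular p M) {B : Set (IrrCharacter G)} {a b : BrauerPairIdx G}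
    (ha : IsMaximalBrauerPair p M B a.1 a.2)
    (h : Relation.ReflTransGen (NormalSubpairRel p M) a b) : a = b :=
  eq_of_chain_eq hM h
    (le_of_eq (ha.2 b.1 b.2 ((pairOf_iff_of_subpair hM ha.1.2.1 a b h).mpr ha.1) h))

theorem maximal_conj (hM : IsPModular p M) {B : Set (IrrCharacter G)} {a : BrauerPairIdx G}
    (ha : IsMaximalBrauerPair p M B a.1 a.2) (x : G) :
    IsMaximalBrauerPair p M B (conjIdx x a).1 (conjIdx x a).2 := by
  refine ⟨isBrauerPairOf_conj hM ha.1 x, fun R g hR hle => ?_⟩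
  have h := subpair_conj hM hle x⁻¹
  rw [conjIdx_conjIdx (show IsPBlock M a.2 from ha.1.1.2), inv_mul_cancel,
    conjIdx_one (show IsPBlock M a.2 from ha.1.1.2)] at h
  have h1 : R.map (MulAut.conj x⁻¹).toMonoidHom = a.1 :=
    ha.2 _ _ (isBrauerPairOf_conj hM hR x⁻¹) h
  show R = a.1.map (MulAut.conj x).toMonoidHom
  rw [← h1, map_conj_map_conj, mul_inv_cancel, map_conj_one]

theorem exists_conj_maximal (hM : IsPModular p M) {B : Set (IrrCharacter G)}
    {a b : BrauerPairIdx G} (ha : IsMaximalBrauerPair p M B a.1 a.2)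
    (hb : IsMaximalBrauerPair p M B b.1 b.2) : ∃ x : G, conjIdx x a = b := by
  obtain ⟨x, hx⟩ := exists_conj_below_maximal hM hb ha.1
  exact ⟨x, maximal_of_chain hM (maximal_conj hM ha x) hx⟩

section Below

variable {P : Subgroup G} {e : Set (IrrCharacter (Subgroup.centralizer (P : Set G)))}
  {Q : Subgroup G} {f : Set (IrrCharacter (Subgroup.centralizer (Q : Set G)))}

theorem below_of_le (hM : IsPModular p M) (hPe : IsBrauerPair p M P e)
    (hle : SubpairLE p M Q f P e) {R : Subgroup G} (hQR : Q ≤ R)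
    {h : Set (IrrCharacter (Subgroup.centralizer (R : Set G)))}
    (hR : SubpairLE p M R h P e) : SubpairLE p M Q f R h := by
  have hRp : IsBrauerPair p M R h :=
    (isBrauerPair_of_subpair hR hPe : IsBrauerPair p M R h)
  obtain ⟨f', ⟨-, hf'⟩, -⟩ := existsUnique_below hM hRp hQR
  have : f' = f := eq_of_below hM hPe _ Q rfl f' f (hf'.trans hR) hle
  rw [this] at hf'
  exact hf'

theorem rel_of_below (hM : IsPModular p M) (hPe : IsBrauerPair p M P e)
    (hle : SubpairLE p M Q f P e) {R : Subgroup G} (hQR : Q ≤ R)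
    (hRN : R ≤ Subgroup.normalizer (Q : Set G))
    {h : Set (IrrCharacter (Subgroup.centralizer (R : Set G)))}
    (hR : SubpairLE p M R h P e) :
    NormalSubpairRel p M (⟨Q, f⟩ : BrauerPairIdx G) ⟨R, h⟩ := by
  have hRp : IsBrauerPair p M R h :=
    (isBrauerPair_of_subpair hR hPe : IsBrauerPair p M R h)
  obtain ⟨f', hf', -⟩ := existsUnique_normal_below hM hRp hQR hRN
  have hrel : NormalSubpairRel p M (⟨Q, f'⟩ : BrauerPairIdx G) ⟨R, h⟩ := hf'
  have : f' = f := eq_of_below hM hPe _ Q rfl f' f (Relation.ReflTransGen.head hrel hR) hle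
  rw [this] at hrel
  exact hrel

/-- The part of `P` normalizing `Q` carries a pair normally above `(Q, f)`. -/
theorem exists_normalizer_pair (hM : IsPModular p M) (hPe : IsBrauerPair p M P e)
    (hle : SubpairLE p M Q f P e) :
    ∃ h : Set (IrrCharacter
        (Subgroup.centralizer ((P ⊓ Subgroup.normalizer (Q : Set G) : Subgroup G) : Set G))),
      SubpairLE p M (P ⊓ Subgroup.normalizer (Q : Set G)) h P e ∧
      NormalSubpairRel p M (⟨Q, f⟩ : BrauerPairIdx G) ⟨_, h⟩ := by
  obtain ⟨h, ⟨-, hh⟩, -⟩ := existsUnique_below hM hPe (inf_le_left : P ⊓ _ ≤ P)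
  exact ⟨h, hh, rel_of_below hM hPe hle (le_inf (subpair_le hle) Subgroup.le_normalizer)
    inf_le_right hh⟩

end Below

/-- The stabilizer of a pair. -/
def stabSub (M : Ideal AlgInt) [M.IsPrime] (Q : Subgroup G)
    (f : Set (IrrCharacter (Subgroup.centralizer (Q : Set G)))) : Subgroup G where
  carrier := {x | x ∈ Subgroup.normalizer (Q : Set G) ∧
    conjA x (bel M (Subgroup.centralizer (Q : Set G)) f) =
      bel M (Subgroup.centralizer (Q : Set G)) f}
  one_mem' := ⟨one_mem _, conjA_one _⟩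
  mul_mem' := fun {x y} hx hy => ⟨mul_mem hx.1 hy.1, by rw [← conjA_conjA, hy.2, hx.2]⟩
  inv_mem' := fun {x} hx => ⟨inv_mem hx.1, by
    conv_lhs => rw [← hx.2, conjA_conjA, inv_mul_cancel, conjA_one]⟩

theorem mem_stabSub {Q : Subgroup G} {f : Set (IrrCharacter (Subgroup.centralizer (Q : Set G)))}
    (hf : IsPBlock M f) {x : G} : x ∈ stabSub M Q f ↔ x ∈ Subgroup.normalizer (Q : Set G) ∧
      StabilizesBlock (Subgroup.centralizer (Q : Set G)) f x :=
  and_congr_right fun hx =>
    (conjA_bel_iff_stabilizes x _ hf (normalizer_le_normalizer_centralizer Q hx)).symm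

theorem isLocal_stabSub {Q : Subgroup G}
    {f : Set (IrrCharacter (Subgroup.centralizer (Q : Set G)))} (hQf : IsBrauerPair p M Q f) :
    IsLocal p M Q f (stabSub M Q f) :=
  isLocal_stabilizer hQf fun _ => mem_stabSub hQf.2

/-- The local maximal pair of a maximal pair is itself. -/
theorem maximal_localMax (hM : IsPModular p M) {B : Set (IrrCharacter G)} {P H : Subgroup G}
    {e : Set (IrrCharacter (Subgroup.centralizer (P : Set G)))}
    (hmax : IsMaximalBrauerPair p M B P e) (hL : IsLocal p M P e H) :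
    IsLocalMax p M P e H P e := by
  obtain ⟨D, k, E, hD, -⟩ := exists_local_max hM hL
  have heq : (⟨P, e⟩ : BrauerPairIdx G) = ⟨D, k⟩ :=
    maximal_of_chain hM hmax (Relation.ReflTransGen.single hD.rel)
  obtain ⟨rfl, h⟩ := Sigma.mk.inj_iff.mp heq
  obtain rfl := eq_of_heq h
  exact hD

/-- If the `p`-regular elements of `H` centralize `Q`, then `H` is generated by `C(Q)` and the local
maximal group. -/
theorem local_eq_sup (hM : IsPModular p M) {Q H D : Subgroup G}
    {f : Set (IrrCharacter (Subgroup.centralizer (Q : Set G)))}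
    {k : Set (IrrCharacter (Subgroup.centralizer (D : Set G)))} (hL : IsLocal p M Q f H)
    (hD : IsLocalMax p M Q f H D k)
    (hreg : ∀ x ∈ H, ¬ p ∣ orderOf x → x ∈ Subgroup.centralizer (Q : Set G)) :
    H ≤ D ⊔ Subgroup.centralizer (Q : Set G) := by
  haveI := Fact.mk hM.1
  set C := Subgroup.centralizer (Q : Set G) with hC
  haveI hN : (C.subgroupOf H).Normal := Subgroup.normal_subgroupOf_of_le_normalizer
    (hL.leN.trans (normalizer_le_normalizer_centralizer Q))
  have hDp : IsPGroup p D := hD.rel.2.1.1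
  obtain ⟨R, hR⟩ := exists_sylow_ge hD.le hDp
  set R' := (R : Subgroup H).map H.subtype with hR'
  have hRD : R' ≤ D ⊔ C :=
    hD.le_sup hM hL (R.isPGroup'.map _) (Subgroup.map_subtype_le _) hR
  -- the quotient is a `p`-group
  have hq : IsPGroup p (H ⧸ C.subgroupOf H) := by
    intro y
    obtain ⟨x, rfl⟩ := QuotientGroup.mk_surjective y
    obtain ⟨z, hz, -⟩ := Blocks.exists_isPPart (p := p) x
    obtain ⟨k, hk⟩ := Blocks.ppart_pow_eq_one hz
    obtain ⟨w, hzw, hcom, -, hw⟩ := hz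
    refine ⟨k, ?_⟩
    have hwC : w ∈ C.subgroupOf H := hreg w w.2 (by rwa [Subgroup.orderOf_coe])
    rw [← hzw, QuotientGroup.mk_mul, (QuotientGroup.eq_one_iff w).mpr hwC, mul_one,
      ← QuotientGroup.mk_pow, hk, QuotientGroup.mk_one]
  obtain ⟨n, hn⟩ := IsPGroup.iff_card.mp hq
  set K : Subgroup H := (R : Subgroup H) ⊔ C.subgroupOf H with hK
  have h1 : K.index ∣ p ^ n := hn ▸ Subgroup.index_dvd_of_le (le_sup_right : C.subgroupOf H ≤ K)
  have h2 : ¬ p ∣ K.index := fun h => R.not_dvd_index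
    (h.trans (Subgroup.index_dvd_of_le (le_sup_left : (R : Subgroup H) ≤ K)))
  obtain ⟨i, -, hi⟩ := (Nat.dvd_prime_pow hM.1).mp h1
  have hK1 : K.index = 1 := by
    rcases Nat.eq_zero_or_pos i with rfl | hi0
    · simpa using hi
    · exact absurd (hi ▸ dvd_pow_self p hi0.ne') h2
  intro x hx
  have hxK : (⟨x, hx⟩ : H) ∈ K := by rw [Subgroup.index_eq_one.mp hK1]; trivial
  have hKle : K.map H.subtype ≤ D ⊔ C := by
    rw [hK, Subgroup.map_sup]
    refine sup_le hRD ?_
    rintro _ ⟨c, hc, rfl⟩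
    exact Subgroup.mem_sup_right hc
  exact hKle ⟨⟨x, hx⟩, hxK, rfl⟩

theorem stabilizer_le_of_nilpotent (hM : IsPModular p M) {B : Set (IrrCharacter G)}
    (hnil : IsNilpotentBlock p M B) {Q : Subgroup G}
    {f : Set (IrrCharacter (Subgroup.centralizer (Q : Set G)))} (hQf : IsBrauerPairOf p M B Q f)
    {D : Subgroup G} {k : Set (IrrCharacter (Subgroup.centralizer (D : Set G)))}
    (hD : IsLocalMax p M Q f (stabSub M Q f) D k) :
    stabSub M Q f ≤ D ⊔ Subgroup.centralizer (Q : Set G) :=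
  local_eq_sup hM (isLocal_stabSub hQf.1) hD fun x hx hreg =>
    hnil.2 Q f hQf x hx.1 ((mem_stabSub hQf.1.2).mp hx).2 hreg

/-- In a nilpotent block, maximal pairs above a pair `(Q, f)` are conjugate under `C(Q)`. -/
theorem nilpotent_conj_above (hM : IsPModular p M) {B : Set (IrrCharacter G)}
    (hnil : IsNilpotentBlock p M B) :
    ∀ (n : ℕ) (a : BrauerPairIdx G), Nat.card G - Nat.card a.1 = n →
      IsBrauerPairOf p M B a.1 a.2 → ∀ b c : BrauerPairIdx G,
        IsMaximalBrauerPair p M B b.1 b.2 → IsMaximalBrauerPair p M B c.1 c.2 →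
        Relation.ReflTransGen (NormalSubpairRel p M) a b →
        Relation.ReflTransGen (NormalSubpairRel p M) a c →
        ∃ x ∈ Subgroup.centralizer (a.1 : Set G), conjIdx x b = c := by
  haveI := Fact.mk hM.1
  intro n
  induction n using Nat.strong_induction_on with
  | _ n ih =>
    intro a hn ha b c hb hc hab hac
    have hbb : IsPBlock M b.2 := hb.1.1.2
    have hcb : IsPBlock M c.2 := hc.1.1.2
    by_cases hab' : b.1 ≤ a.1
    · obtain rfl := eq_of_chain_eq hM hab hab'
      exact ⟨1, one_mem _, (conjIdx_one hbb).trans (maximal_of_chain hM hb hac)⟩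
    by_cases hac' : c.1 ≤ a.1
    · obtain rfl := eq_of_chain_eq hM hac hac'
      exact ⟨1, one_mem _, (conjIdx_one hbb).trans (maximal_of_chain hM hc hab).symm⟩
    obtain ⟨Q, f⟩ := a
    obtain ⟨D, k, E, hD, -⟩ := exists_local_max hM (isLocal_stabSub ha.1)
    obtain ⟨d, hDd, hd⟩ := exists_maximal hM
      ((pairOf_iff_of_subpair hM ha.2.1 _ ⟨D, k⟩ (Relation.ReflTransGen.single hD.rel)).mpr ha)
    have hle := stabilizer_le_of_nilpotent hM hnil ha hD
    -- each maximal pair above is moved to `d` by an element of the centralizer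
    have key : ∀ b : BrauerPairIdx G, IsMaximalBrauerPair p M B b.1 b.2 → ¬ b.1 ≤ Q →
        Relation.ReflTransGen (NormalSubpairRel p M) (⟨Q, f⟩ : BrauerPairIdx G) b →
        ∃ x ∈ Subgroup.centralizer (Q : Set G), conjIdx x b = d := by
      intro b hb hbQ hQb
      have hbb : IsPBlock M b.2 := hb.1.1.2
      obtain ⟨R, hR, h, hh, hrel⟩ : ∃ R, R = b.1 ⊓ Subgroup.normalizer (Q : Set G) ∧
          ∃ h, SubpairLE p M R h b.1 b.2 ∧
            NormalSubpairRel p M (⟨Q, f⟩ : BrauerPairIdx G) ⟨R, h⟩ :=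
        ⟨_, rfl, exists_normalizer_pair hM hb.1.1 hQb⟩
      have hlt : Q < R :=
        hR ▸ exists_normalizer_gt hb.1.1.1 (subpair_le hQb) fun e => hbQ (le_of_eq e.symm)
      obtain ⟨hQp, hRp, -, hRN, hst, -⟩ := isNormalSubpair_iff.mp hrel
      obtain ⟨t, ht, htD⟩ := hD.absorb R h (fun x hx => ⟨hRN hx, hst x hx⟩) hrel
      have hchain : Relation.ReflTransGen (NormalSubpairRel p M) (conjIdx t ⟨R, h⟩) d :=
        htD.trans hDd
      have hQt : Q < (conjIdx t (⟨R, h⟩ : BrauerPairIdx G)).1 := by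
        show Q < R.map (MulAut.conj t).toMonoidHom
        refine lt_of_le_of_ne ?_ fun e => hlt.ne ?_
        · intro q hq
          rw [Blocks.mem_map_conj]
          exact hlt.le ((Subgroup.mem_normalizer_iff''.mp ht.1 q).mp hq)
        · exact Subgroup.eq_of_le_of_card_ge hlt.le (by rw [e, card_map_conj])
      have hpair : IsBrauerPairOf p M B (conjIdx t (⟨R, h⟩ : BrauerPairIdx G)).1
          (conjIdx t (⟨R, h⟩ : BrauerPairIdx G)).2 :=
        isBrauerPairOf_conj hM ((pairOf_iff_of_subpair hM ha.2.1 ⟨R, h⟩ b hh).mp hb.1) t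
      obtain ⟨x, hx, hxe⟩ := ih _
        (by
          have h1 : Nat.card Q < Nat.card (conjIdx t (⟨R, h⟩ : BrauerPairIdx G)).1 :=
            Set.Finite.card_lt_card (Set.toFinite _) hQt
          have hn' : Nat.card G - Nat.card Q = n := hn
          have h2 := Subgroup.card_le_card_group (conjIdx t (⟨R, h⟩ : BrauerPairIdx G)).1
          omega)
        (conjIdx t ⟨R, h⟩) rfl hpair (conjIdx t b) d (maximal_conj hM hb t) hd
        (subpair_conj hM hh t) hchain
      rw [conjIdx_conjIdx hbb] at hxe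
      have hxt : x * t ∈ D ⊔ Subgroup.centralizer (Q : Set G) := mul_mem
        (Subgroup.mem_sup_right (centralizer_le_centralizer hQt.le hx)) (hle ht)
      rw [← SetLike.mem_coe, Subgroup.coe_mul_of_left_le_normalizer_right D
        (Subgroup.centralizer (Q : Set G)) ((hD.le.trans fun y hy => hy.1).trans
          (normalizer_le_normalizer_centralizer Q))] at hxt
      obtain ⟨y, hy, z, hz, hyz⟩ := hxt
      refine ⟨z, hz, ?_⟩
      have hdy : conjIdx y⁻¹ d = d := conjIdx_self hd.1.1.2 (inv_mem (subpair_le hDd hy))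
      rw [← hdy, ← hxe, conjIdx_conjIdx hbb]
      congr 1
      rw [← show y * z = x * t from hyz]
      group
    obtain ⟨x, hx, hxe⟩ := key b hb hab' hab
    obtain ⟨y, hy, hye⟩ := key c hc hac' hac
    refine ⟨y⁻¹ * x, mul_mem (inv_mem hy) hx, ?_⟩
    rw [← conjIdx_conjIdx hbb, hxe, ← hye, conjIdx_conjIdx hcb, inv_mul_cancel, conjIdx_one hcb]

/-- In a nilpotent block, the conjugations between pairs below a maximal pair come from it. -/
theorem exists_mem_of_nilpotent (hM : IsPModular p M) {B : Set (IrrCharacter G)}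
    (hnil : IsNilpotentBlock p M B) {P Q : Subgroup G}
    {e : Set (IrrCharacter (Subgroup.centralizer (P : Set G)))}
    {f : Set (IrrCharacter (Subgroup.centralizer (Q : Set G)))}
    (hmax : IsMaximalBrauerPair p M B P e) (hle : SubpairLE p M Q f P e) {g : G}
    (hg : SubpairLE p M (Q.map (MulAut.conj g).toMonoidHom) (conjBlock Q g f) P e) :
    ∃ y ∈ P, y⁻¹ * g ∈ Subgroup.centralizer (Q : Set G) := by
  have hQf : IsBrauerPairOf p M B Q f :=
    (pairOf_iff_of_subpair hM hmax.1.2.1 ⟨Q, f⟩ ⟨P, e⟩ hle).mp hmax.1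
  have hPb : IsPBlock M (⟨P, e⟩ : BrauerPairIdx G).2 := hmax.1.1.2
  have hg' : Relation.ReflTransGen (NormalSubpairRel p M) (⟨Q, f⟩ : BrauerPairIdx G)
      (conjIdx g⁻¹ ⟨P, e⟩) := by
    have := subpair_conj hM hg g⁻¹
    rwa [show (⟨Q.map (MulAut.conj g).toMonoidHom, conjBlock Q g f⟩ : BrauerPairIdx G) =
      conjIdx g ⟨Q, f⟩ from rfl, conjIdx_conjIdx (show IsPBlock M (⟨Q, f⟩ : BrauerPairIdx G).2
        from hQf.1.2), inv_mul_cancel,
      conjIdx_one (show IsPBlock M (⟨Q, f⟩ : BrauerPairIdx G).2 from hQf.1.2)] at this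
  obtain ⟨c, hc, hce⟩ := nilpotent_conj_above hM hnil _ ⟨Q, f⟩ rfl hQf ⟨P, e⟩
    (conjIdx g⁻¹ ⟨P, e⟩) hmax (maximal_conj hM (a := ⟨P, e⟩) hmax g⁻¹) hle hg'
  have hgc : g * c ∈ stabSub M P e := by
    have h := congrArg (conjIdx g) hce
    rw [conjIdx_conjIdx hPb, conjIdx_conjIdx hPb, mul_inv_cancel, conjIdx_one hPb] at h
    exact (conjIdx_eq_self_iff hPb).mp h
  have hsup := stabilizer_le_of_nilpotent hM hnil hmax.1
    (maximal_localMax hM hmax (isLocal_stabSub hmax.1.1)) hgc
  rw [← SetLike.mem_coe, Subgroup.coe_mul_of_left_le_normalizer_right P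
    (Subgroup.centralizer (P : Set G))
    ((Subgroup.le_normalizer).trans (normalizer_le_normalizer_centralizer P))] at hsup
  obtain ⟨y, hy, z, hz, hyz⟩ := hsup
  refine ⟨y, hy, ?_⟩
  rw [show y⁻¹ * g = z * c⁻¹ by
    rw [eq_mul_inv_iff_mul_eq, mul_assoc, ← show y * z = g * c from hyz, inv_mul_cancel_left]]
  exact mul_mem (centralizer_le_centralizer (subpair_le hle) hz) (inv_mem hc)

/-- A `p`-regular element acting like an element of a `p`-group acts trivially. -/
theorem centralizes_of_eq_action (hp : p.Prime) {Q : Subgroup G} {x g : G}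
    (hx : ¬ p ∣ orderOf x) {k : ℕ} (hg : g ^ p ^ k = 1)
    (hgN : g ∈ Subgroup.normalizer (Q : Set G))
    (h : ∀ u ∈ Q, x * u * x⁻¹ = g * u * g⁻¹) : x ∈ Subgroup.centralizer (Q : Set G) := by
  have hpow : ∀ i : ℕ, ∀ u ∈ Q, x ^ i * u * (x ^ i)⁻¹ = g ^ i * u * (g ^ i)⁻¹ := by
    intro i
    induction i with
    | zero => intro u _; simp
    | succ i ih =>
      intro u hu
      have hm : g * u * g⁻¹ ∈ Q := (Subgroup.mem_normalizer_iff.mp hgN u).mp hu
      calc x ^ (i + 1) * u * (x ^ (i + 1))⁻¹ = x ^ i * (x * u * x⁻¹) * (x ^ i)⁻¹ := by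
            rw [pow_succ]; group
        _ = g ^ i * (g * u * g⁻¹) * (g ^ i)⁻¹ := by rw [h u hu, ih _ hm]
        _ = _ := by rw [pow_succ]; group
  have hcop : (orderOf x).Coprime (p ^ k) :=
    ((hp.coprime_iff_not_dvd.mpr hx).symm).pow_right k
  obtain ⟨i, hi1, hi2⟩ := Nat.chineseRemainder hcop 1 0
  have hxi : x ^ i = x := by
    conv_rhs => rw [← pow_one x]
    exact (pow_eq_pow_iff_modEq).mpr hi1
  have hgi : g ^ i = 1 := by
    obtain ⟨j, rfl⟩ := (Nat.modEq_zero_iff_dvd).mp hi2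
    rw [pow_mul, hg, one_pow]
  rw [Subgroup.mem_centralizer_iff]
  intro u hu
  have := hpow i u hu
  rw [hxi, hgi, one_mul, inv_one, mul_one, mul_inv_eq_iff_eq_mul] at this
  exact this.symm

/-- The stabilizer of a pair below an abelian maximal one. -/
theorem abelian_stab (hM : IsPModular p M) {B : Set (IrrCharacter G)} {P Q : Subgroup G}
    {e : Set (IrrCharacter (Subgroup.centralizer (P : Set G)))}
    {f : Set (IrrCharacter (Subgroup.centralizer (Q : Set G)))}
    (hmax : IsMaximalBrauerPair p M B P e) (hle : SubpairLE p M Q f P e)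
    (hPQ : P ≤ Subgroup.centralizer (Q : Set G)) {x : G} (hx : x ∈ stabSub M Q f) :
    ∃ y ∈ stabSub M P e, ∃ c ∈ Subgroup.centralizer (Q : Set G), x = y * c := by
  have hQP := subpair_le hle
  have hQp : IsBrauerPair p M Q f := isBrauerPair_of_subpair hle hmax.1.1
  have hPb : IsPBlock M (⟨P, e⟩ : BrauerPairIdx G).2 := hmax.1.1.2
  obtain ⟨D, k, E, hD, -⟩ := exists_local_max hM (isLocal_centralizer hQp (hQP.trans hPQ))
  -- both maximal pairs are moved to the local one
  have key : ∀ b : BrauerPairIdx G, IsMaximalBrauerPair p M B b.1 b.2 →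
      b.1 ≤ Subgroup.centralizer (Q : Set G) →
      Relation.ReflTransGen (NormalSubpairRel p M) (⟨Q, f⟩ : BrauerPairIdx G) b →
      ∃ t ∈ Subgroup.centralizer (Q : Set G), conjIdx t b = ⟨D, k⟩ := by
    intro b hb hbC hQb
    have hrel : NormalSubpairRel p M (⟨Q, f⟩ : BrauerPairIdx G) b :=
      rel_of_below hM hb.1.1 hQb (subpair_le hQb)
        (hbC.trans (Subgroup.centralizer_le_normalizer _)) Relation.ReflTransGen.refl
    obtain ⟨t, ht, htD⟩ := hD.absorb b.1 b.2 hbC hrel
    exact ⟨t, ht, maximal_of_chain hM (maximal_conj hM hb t) htD⟩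
  obtain ⟨t, ht, hte⟩ := key ⟨P, e⟩ hmax hPQ hle
  have hfix : conjIdx x (⟨Q, f⟩ : BrauerPairIdx G) = ⟨Q, f⟩ :=
    (conjIdx_eq_self_iff (show IsPBlock M (⟨Q, f⟩ : BrauerPairIdx G).2 from hQp.2)).mpr hx
  obtain ⟨s, hs, hse⟩ := key (conjIdx x ⟨P, e⟩) (maximal_conj hM (a := ⟨P, e⟩) hmax x)
    (by
      rintro _ ⟨u, hu, rfl⟩
      exact (centralizer_conj_mem hx.1).mpr (hPQ hu))
    (by
      have := subpair_conj hM hle x
      rwa [hfix] at this)
  have hy : t⁻¹ * (s * x) ∈ stabSub M P e := by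
    apply (conjIdx_eq_self_iff hPb).mp
    rw [← conjIdx_conjIdx hPb, ← conjIdx_conjIdx hPb, hse, ← hte, conjIdx_conjIdx hPb,
      inv_mul_cancel, conjIdx_one hPb]
  refine ⟨t⁻¹ * (s * x), hy, (t⁻¹ * (s * x))⁻¹ * x, ?_, by group⟩
  rw [show (t⁻¹ * (s * x))⁻¹ * x = x⁻¹ * (s⁻¹ * t) * (x⁻¹)⁻¹ by group]
  exact (centralizer_conj_mem (inv_mem hx.1)).mpr (mul_mem (inv_mem hs) ht)

end Cfsg.Agent.BPairs

namespace Cfsg.Agent.BPairs

open Blocks

universe v

variable {G : Type v} [Group G] [Finite G] {p : ℕ} {M : Ideal AlgInt} [M.IsPrime]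

/-- Conjugation by an element of `P` maps pairs below `(P, e)` below `(P, e)`. -/
theorem conj_below (hM : IsPModular p M) {P Q : Subgroup G}
    {e : Set (IrrCharacter (Subgroup.centralizer (P : Set G)))}
    {f : Set (IrrCharacter (Subgroup.centralizer (Q : Set G)))}
    (he : IsPBlock M e) (hle : SubpairLE p M Q f P e) {y : G} (hy : y ∈ P) :
    SubpairLE p M (Q.map (MulAut.conj y).toMonoidHom) (conjBlock Q y f) P e := by
  have := subpair_conj hM hle y
  rwa [conjIdx_self (show IsPBlock M (⟨P, e⟩ : BrauerPairIdx G).2 from he) hy] at this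

/-- Nilpotency is tested below a maximal pair. -/
theorem nilpotent_of_below (hM : IsPModular p M) {B : Set (IrrCharacter G)} {P : Subgroup G}
    {e : Set (IrrCharacter (Subgroup.centralizer (P : Set G)))}
    (hmax : IsMaximalBrauerPair p M B P e)
    (h : ∀ (Q : Subgroup G) (f : Set (IrrCharacter (Subgroup.centralizer (Q : Set G)))),
      IsPBlock M f → SubpairLE p M Q f P e →
      ∀ x ∈ stabSub M Q f, ¬ p ∣ orderOf x → x ∈ Subgroup.centralizer (Q : Set G)) :
    IsNilpotentBlock p M B := by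
  refine ⟨hmax.1.2.1, fun R r hR x hx hst hreg => ?_⟩
  obtain ⟨y, hy⟩ := exists_conj_below_maximal hM hmax hR
  have hr : IsPBlock M r := hR.1.2
  have hxs : x ∈ stabSub M R r := (mem_stabSub hr).mpr ⟨hx, hst⟩
  have hrb : IsPBlock M (⟨R, r⟩ : BrauerPairIdx G).2 := hr
  have hfix : conjIdx (y * x * y⁻¹) (conjIdx y (⟨R, r⟩ : BrauerPairIdx G)) =
      conjIdx y ⟨R, r⟩ := by
    rw [conjIdx_conjIdx hrb, inv_mul_cancel_right, ← conjIdx_conjIdx hrb,
      (conjIdx_eq_self_iff hrb).mpr hxs]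
  have := h _ _ (isPBlock_conjBlock R y hr) hy (y * x * y⁻¹)
    ((conjIdx_eq_self_iff (show IsPBlock M (conjIdx y (⟨R, r⟩ : BrauerPairIdx G)).2 from
      isPBlock_conjBlock R y hr)).mp hfix)
    (by rwa [← MulAut.conj_apply, MulEquiv.orderOf_eq])
  exact conj_mem_centralizer.mpr this

end Cfsg.Agent.BPairs
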