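import Cfsg.Agent.Lib.BrauerPairs.Maximal
import Cfsg.Agent.Lib.Blocks.NormalPSupport
import Cfsg.Agent.Lib.Blocks.Normal

/-!
# Blocks over a normal `p`-subgroup as traces of centralizer blocks
-/

set_option linter.unusedSectionVars false

namespace Cfsg.Agent.BPairs

open MonoidAlgebra Blocks

universe u

variable {G : Type u} [Group G] [Finite G] {p : ℕ} {M : Ideal AlgInt} [M.IsPrime]

/-! ### Central idempotents as sets of characters -/

/-- The characters on which a central idempotent is the identity. -/
def idemSupport (S : MonoidAlgebra ℂ G) : Set (IrrCharacter G) :=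
  {χ | omega (χ : G → ℂ) S = 1}

theorem idemC_idemSupport {S : MonoidAlgebra ℂ G}
    (hS : S ∈ Subring.center (MonoidAlgebra ℂ G)) (hSS : S * S = S) :
    idemC (idemSupport S) = S := by
  classical
  refine central_ext (idemC_mem_center _) hS fun χ => ?_
  rw [omega_idemC]
  have h := omega_mul χ.2 hS S
  rw [hSS] at h
  split_ifs with e
  · exact e.symm
  · rcases eq_or_ne (omega (χ : G → ℂ) S) 0 with h0 | h0
    · exact h0.symm
    · exact absurd ((mul_eq_left₀ h0).mp h.symm) e

theorem blockCoeff_idemSupport {S : MonoidAlgebra ℂ G}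
    (hS : S ∈ Subring.center (MonoidAlgebra ℂ G)) (hSS : S * S = S) (u : G) :
    blockCoeff (idemSupport S) u = S.coeff u := by
  conv_rhs => rw [← idemC_idemSupport hS hSS]
  rw [idemC, coeff_ofFun]

/-- An integral primitive central idempotent is the idempotent of a block. -/
theorem isPBlock_of_primitive (hM : IsPModular p M) {A : Set (IrrCharacter G)}
    (hA : ∀ u, blockCoeff A u ∈ Loc M) (hne : bBar M A ≠ 0)
    (hprim : ∀ E, IsPBlock M E → bBar M E * bBar M A = bBar M A ∨ bBar M E * bBar M A = 0) :
    IsPBlock M A := by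
  classical
  obtain ⟨χ, hχ⟩ : A.Nonempty := by
    by_contra h
    rw [Set.not_nonempty_iff_eq_empty] at h
    refine hne (eq_zero_of_omegaBar hM _ (bBar_mul_self hA) fun χ => ?_)
    rw [omegaBar_bBar hA, if_neg]
    simp [h]
  refine ⟨χ, Set.Subset.antisymm (fun ψ hψ => ?_) (blockOf_subset_of_integral hA hχ)⟩
  have hE := isPBlock_blockOf (M := M) χ
  rcases hprim _ hE with h | h
  · have h2 := congrArg (omegaBar M ψ) h
    rw [map_mul, omegaBar_bBar hA, if_pos hψ, mul_one, omegaBar_bBar (blockCoeff_mem_loc hE)] at h2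
    by_contra hne'
    rw [if_neg hne'] at h2
    exact zero_ne_one h2
  · have h2 := congrArg (omegaBar M χ) h
    rw [map_mul, omegaBar_bBar hA, if_pos hχ, omegaBar_bBar (blockCoeff_mem_loc hE),
      if_pos (self_mem_blockOf χ), mul_one, map_zero] at h2
    exact absurd h2 one_ne_zero

theorem idemC_mul_of_disjoint {A A' : Set (IrrCharacter G)} (h : ∀ χ ∈ A, χ ∉ A') :
    idemC A * idemC A' = 0 := by
  classical
  refine central_ext (Subring.mul_mem _ (idemC_mem_center A) (idemC_mem_center A'))
    (Subring.zero_mem _) fun χ => ?_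
  rw [omega_mul χ.2 (idemC_mem_center A), omega_idemC, omega_idemC]
  split_ifs with h1 h2
  · exact absurd h2 (h χ h1)
  all_goals simp [omega]

/-! ### The idempotent of a centralizer block in the group algebra -/

/-- The idempotent of a block of a subgroup inside the complex group algebra. -/
noncomputable def celt (H : Subgroup G) (b : Set (IrrCharacter H)) : MonoidAlgebra ℂ G :=
  embH H (idemC b)

theorem coeff_celt (H : Subgroup G) (b : Set (IrrCharacter H)) (u : G) :
    (celt H b).coeff u = subgroupBlockCoeff H b u := by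
  by_cases hu : u ∈ H
  · rw [celt, coeff_embH H _ ⟨u, hu⟩, idemC, coeff_ofFun]
    simp [subgroupBlockCoeff, hu]
  · rw [celt, coeff_embH_of_notMem _ _ hu]
    simp [subgroupBlockCoeff, hu]

theorem celt_conjSet (x : G) (H H' : Subgroup G) (h : ∀ u, u ∈ H ↔ x * u * x⁻¹ ∈ H')
    (b : Set (IrrCharacter H)) : celt H' (conjSet x H H' h b) = conjA x (celt H b) := by
  refine MonoidAlgebra.ext (Finsupp.ext fun u => ?_)
  rw [coeff_conjA]
  by_cases hu : u ∈ H'
  · have hu' : x⁻¹ * u * x ∈ H := (h _).mpr (by simpa [mul_assoc] using hu)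
    rw [celt, celt, coeff_embH H' _ ⟨u, hu⟩, coeff_embH H _ ⟨_, hu'⟩, idemC, coeff_ofFun,
      idemC, coeff_ofFun, conjSet, blockCoeff_pullSet]
    rfl
  · rw [celt, celt, coeff_embH_of_notMem _ _ hu, coeff_embH_of_notMem]
    intro hmem
    exact hu (by simpa [mul_assoc] using (h _).mp hmem)

section NormalP

variable {P : Subgroup G} [hn : P.Normal]

theorem conj_mem_centralizer_iff (x u : G) :
    u ∈ Subgroup.centralizer (P : Set G) ↔ x * u * x⁻¹ ∈ Subgroup.centralizer (P : Set G) := by
  refine ⟨fun h => Subgroup.Normal.conj_mem inferInstance u h x, fun h => ?_⟩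
  have := Subgroup.Normal.conj_mem (H := Subgroup.centralizer (P : Set G)) inferInstance _ h x⁻¹
  simpa [mul_assoc] using this

theorem mem_normalizer_centralizer (x : G) :
    x ∈ Subgroup.normalizer ((Subgroup.centralizer (P : Set G) : Subgroup G) : Set G) :=
  Subgroup.mem_normalizer_iff.mpr fun u => conj_mem_centralizer_iff x u

theorem embH_resH_of_supp {a : MonoidAlgebra (Res M) G}
    (hsupp : ∀ u ∉ Subgroup.centralizer (P : Set G), a.coeff u = 0) :
    embH _ (resH (Subgroup.centralizer (P : Set G)) a) = a := by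
  refine MonoidAlgebra.ext (Finsupp.ext fun u => ?_)
  by_cases hu : u ∈ Subgroup.centralizer (P : Set G)
  · rw [coeff_embH _ _ ⟨u, hu⟩, coeff_resH]
  · rw [coeff_embH_of_notMem _ _ hu, hsupp u hu]

theorem isInv_of_supp {a : MonoidAlgebra (Res M) G}
    (hsupp : ∀ u ∉ Subgroup.centralizer (P : Set G), a.coeff u = 0) : IsInv P a := by
  intro q hq u
  by_cases hu : u ∈ Subgroup.centralizer (P : Set G)
  · rw [show q * u * q⁻¹ = u by rw [(Subgroup.mem_centralizer_iff.mp hu q hq)]; group]
  · rw [hsupp u hu, hsupp _ fun h => hu ((conj_mem_centralizer_iff q u).mpr h)]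

/-- A central idempotent supported on the centralizer meets a centralizer block in it or in `0`. -/
theorem mul_bel_cases (hM : IsPModular p M) (hP : IsPGroup p P)
    {e : Set (IrrCharacter (Subgroup.centralizer (P : Set G)))} (he : IsPBlock M e)
    {a : MonoidAlgebra (Res M) G}
    (hsupp : ∀ u ∉ Subgroup.centralizer (P : Set G), a.coeff u = 0)
    (hinv : IsInv (Subgroup.centralizer (P : Set G)) a) (haa : a * a = a) :
    a * bel M _ e = bel M _ e ∨ a * bel M _ e = 0 := by
  classical
  have hi : Inv2 P a := ⟨isInv_of_supp hsupp, hinv⟩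
  obtain ⟨ξ, hξ⟩ := block_nonempty he
  rcases val_zero_or_one hM hP ξ hi haa with h | h
  · right
    have hm := resH_mem_center_of_isInv (P := P) hi.2
    have hidem : (⟨_, hm⟩ : ZG (Res M) (Subgroup.centralizer (P : Set G))) * ⟨_, hm⟩ = ⟨_, hm⟩ :=
      Subtype.ext (by rw [Subring.coe_mul, ← resH_mul_of_isInv hM hP hi.1 hi.1, haa])
    have h0 : (⟨_, hm⟩ : ZG (Res M) _) * bBar M e = 0 := by
      refine eq_zero_of_omegaBar hM _ (by
        rw [mul_mul_mul_comm, hidem, bBar_mul_self (blockCoeff_mem_loc he)]) fun χ => ?_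
      rw [map_mul, omegaBar_bBar (blockCoeff_mem_loc he), ← val_eq_omegaBar P χ hm]
      split_ifs with e'
      · rw [val_congr_block ((mem_block_iff he e').mp hξ), h, zero_mul]
      · rw [mul_zero]
    rw [← embH_resH_of_supp hsupp, bel, ← map_mul]
    have h1 := congrArg Subtype.val h0
    rw [Subring.coe_mul, Subring.coe_zero] at h1
    rw [h1, map_zero]
  · left
    have := mul_of_occ hM hP he hi haa (occ_of_mem he hξ h)
    rwa [embH_resH_of_supp hsupp] at this

/-- The stabilizer of a centralizer block carries it as a block. -/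
theorem exists_stabilizer_block (hM : IsPModular p M) (hP : IsPGroup p P)
    {e : Set (IrrCharacter (Subgroup.centralizer (P : Set G)))} (he : IsPBlock M e)
    {T : Subgroup G}
    (hT : ∀ x : G, x ∈ T ↔ StabilizesBlock (Subgroup.centralizer (P : Set G)) e x) :
    ∃ E : Set (IrrCharacter T), IsPBlock M E ∧ bel M T E = bel M _ e ∧
      ∀ t : T, blockCoeff E t = subgroupBlockCoeff (Subgroup.centralizer (P : Set G)) e (t : G) := by
  classical
  haveI : Fact p.Prime := ⟨hM.1⟩
  haveI := charP_res hM
  have hbel : ∀ x, x ∈ T ↔ conjA x (bel M (Subgroup.centralizer (P : Set G)) e) = bel M (Subgroup.centralizer (P : Set G)) e := fun x =>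
    (hT x).trans (conjA_bel_iff_stabilizes x (Subgroup.centralizer (P : Set G)) he (mem_normalizer_centralizer (P := P) x))
  have hCT : (Subgroup.centralizer (P : Set G)) ≤ T := fun c hc => (hbel c).mpr (isInv_iff_conjA.mp (isInv_bel (Subgroup.centralizer (P : Set G)) e) c hc)
  have hPT : P ≤ T := fun q hq => (hbel q).mpr (isInv_iff_conjA.mp
    (isInv_of_supp fun u hu => coeff_embH_of_notMem _ _ hu) q hq)
  have hinv : ∀ x ∈ T, conjA x (celt (Subgroup.centralizer (P : Set G)) e) = celt (Subgroup.centralizer (P : Set G)) e := fun x hx => by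
    have h := (hbel x).mp hx
    rw [← bel_conjSet x (Subgroup.centralizer (P : Set G)) (Subgroup.centralizer (P : Set G)) (conj_mem_centralizer_iff (P := P) x) he] at h
    have h2 : conjSet x (Subgroup.centralizer (P : Set G)) (Subgroup.centralizer (P : Set G))
        (conj_mem_centralizer_iff (P := P) x) e = e :=
      bel_injective (Subgroup.centralizer (P : Set G)) (isPBlock_pullSet _ he) he h
    rw [← celt_conjSet x (Subgroup.centralizer (P : Set G)) (Subgroup.centralizer (P : Set G)) (conj_mem_centralizer_iff (P := P) x), h2]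
  let S : MonoidAlgebra ℂ T := ofFun fun t => subgroupBlockCoeff (Subgroup.centralizer (P : Set G)) e (t : G)
  have hSemb : embH T S = celt (Subgroup.centralizer (P : Set G)) e := by
    refine MonoidAlgebra.ext (Finsupp.ext fun u => ?_)
    by_cases hu : u ∈ T
    · rw [coeff_embH T _ ⟨u, hu⟩, coeff_ofFun, coeff_celt]
    · rw [coeff_embH_of_notMem _ _ hu, celt, coeff_embH_of_notMem _ _ fun h => hu (hCT h)]
  have hScen : S ∈ Subring.center (MonoidAlgebra ℂ T) := by
    rw [mem_center_iff_isClassFn]
    intro t c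
    simp only [S, coeff_ofFun, ← coeff_celt]
    have := (conjA_eq_self_iff _ _).mp (hinv _ (T.inv_mem c.2)) (t : G)
    simpa using this
  have hSS : S * S = S := embH_injective T (by
    rw [map_mul, hSemb, celt, ← map_mul, idemC_mul_self])
  set A := idemSupport S with hA
  have hcoeff : ∀ t : T, blockCoeff A t = subgroupBlockCoeff (Subgroup.centralizer (P : Set G)) e (t : G) := fun t => by
    rw [hA, blockCoeff_idemSupport hScen hSS, coeff_ofFun]
  have hloc : ∀ t : T, blockCoeff A t ∈ Loc M := fun t => by
    rw [hcoeff]; exact subgroupBlockCoeff_mem_loc he _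
  have hAbel : bel M T A = bel M (Subgroup.centralizer (P : Set G)) e := by
    refine MonoidAlgebra.ext (Finsupp.ext fun u => ?_)
    by_cases hu : u ∈ T
    · rw [show u = ((⟨u, hu⟩ : T) : G) from rfl, coeff_bel, coeff_bBar hloc, coeff_bel_eq he]
      exact congrArg _ (Subtype.ext (hcoeff _))
    · rw [bel, bel, coeff_embH_of_notMem _ _ hu, coeff_embH_of_notMem _ _ fun h => hu (hCT h)]
  have hblock : IsPBlock M A := by
    refine isPBlock_of_primitive hM hloc (fun h0 => bel_ne_zero (Subgroup.centralizer (P : Set G)) he ?_) fun F hF => ?_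
    · rw [← hAbel, bel, h0, Subring.coe_zero, map_zero]
    have hsupp : ∀ u ∉ (Subgroup.centralizer (P : Set G)), (bel M T F).coeff u = 0 := by
      intro u hu
      by_cases huT : u ∈ T
      · rw [show u = ((⟨u, huT⟩ : T) : G) from rfl, coeff_bel]
        refine coeff_bBar_eq_zero_of_notMem (P := P.subgroupOf T) hP.comap_subtype hF fun hmem => hu ?_
        rw [Subgroup.mem_centralizer_iff] at hmem ⊢
        intro q hq
        exact congrArg Subtype.val (hmem ⟨q, hPT hq⟩ hq)
      · rw [bel, coeff_embH_of_notMem _ _ huT]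
    have hidem := bel_mul_self T hF
    have key : ∀ z : ZG (Res M) T, embH T (z : MonoidAlgebra (Res M) T) = bel M (Subgroup.centralizer (P : Set G)) e →
        bel M T F * bel M (Subgroup.centralizer (P : Set G)) e = bel M (Subgroup.centralizer (P : Set G)) e → bBar M F * z = z := fun z hz h =>
      Subtype.ext (embH_injective T (by
        rw [Subring.coe_mul, map_mul, hz]
        exact h))
    rcases mul_bel_cases hM hP he hsupp (isInv_mono hCT (isInv_bel T F)) hidem with h | h
    · left
      exact key _ hAbel h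
    · right
      refine Subtype.ext (embH_injective T ?_)
      rw [Subring.coe_mul, Subring.coe_zero, map_mul, map_zero]
      show bel M T F * bel M T A = 0
      rw [hAbel, h]
  exact ⟨A, hblock, hAbel, hcoeff⟩

/-- A block over a normal `p`-subgroup is the trace of any of its centralizer blocks. -/
theorem blockCoeff_eq_trace (hM : IsPModular p M) (hP : IsPGroup p P)
    {B : Set (IrrCharacter G)}
    {e : Set (IrrCharacter (Subgroup.centralizer (P : Set G)))}
    (hBe : IsBrauerPairOf p M B P e) {T : Subgroup G}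
    (hT : ∀ x : G, x ∈ T ↔ StabilizesBlock (Subgroup.centralizer (P : Set G)) e x) [Fintype G]
    (g : G) :
    blockCoeff B g = (Nat.card T : ℂ)⁻¹ *
      ∑ x : G, subgroupBlockCoeff (Subgroup.centralizer (P : Set G)) e (x⁻¹ * g * x) := by
  classical
  haveI : Fact p.Prime := ⟨hM.1⟩
  haveI := charP_res hM
  obtain ⟨-, he, hB, hocc⟩ := isBrauerPairOf_iff.mp hBe
  haveI : Fintype (G ⧸ T) := Fintype.ofFinite _
  haveI : Fintype T := Fintype.ofFinite _
  have hbel : ∀ x, x ∈ T ↔ conjA x (bel M (Subgroup.centralizer (P : Set G)) e) = bel M (Subgroup.centralizer (P : Set G)) e := fun x =>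
    (hT x).trans (conjA_bel_iff_stabilizes x (Subgroup.centralizer (P : Set G)) he (mem_normalizer_centralizer (P := P) x))
  let cb : G → Set (IrrCharacter (Subgroup.centralizer (P : Set G))) := fun x => conjSet x (Subgroup.centralizer (P : Set G)) (Subgroup.centralizer (P : Set G)) (conj_mem_centralizer_iff (P := P) x) e
  have hcb : ∀ x, IsPBlock M (cb x) := fun x => isPBlock_pullSet _ he
  have hfix : ∀ x ∈ T, conjA x (celt (Subgroup.centralizer (P : Set G)) e) = celt (Subgroup.centralizer (P : Set G)) e := fun x hx => by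
    have h := (hbel x).mp hx
    rw [← bel_conjSet x (Subgroup.centralizer (P : Set G)) (Subgroup.centralizer (P : Set G)) (conj_mem_centralizer_iff (P := P) x) he] at h
    have h2 : conjSet x (Subgroup.centralizer (P : Set G)) (Subgroup.centralizer (P : Set G))
        (conj_mem_centralizer_iff (P := P) x) e = e :=
      bel_injective (Subgroup.centralizer (P : Set G)) (isPBlock_pullSet _ he) he h
    rw [← celt_conjSet x (Subgroup.centralizer (P : Set G)) (Subgroup.centralizer (P : Set G)) (conj_mem_centralizer_iff (P := P) x), h2]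
  have horth : ∀ q r : G ⧸ T, q ≠ r →
      conjA q.out (celt (Subgroup.centralizer (P : Set G)) e) * conjA r.out (celt (Subgroup.centralizer (P : Set G)) e) = 0 := by
    intro q r hqr
    rw [← celt_conjSet _ (Subgroup.centralizer (P : Set G)) (Subgroup.centralizer (P : Set G)) (conj_mem_centralizer_iff (P := P) _), ← celt_conjSet _ (Subgroup.centralizer (P : Set G)) (Subgroup.centralizer (P : Set G))
      (conj_mem_centralizer_iff (P := P) _), celt, celt, ← map_mul, idemC_mul_of_disjoint, map_zero]
    intro χ hχ hχ'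
    apply hqr
    have heq : cb q.out = cb r.out := block_eq_of_mem (hcb _) (hcb _) hχ hχ'
    have h := congrArg (bel M (Subgroup.centralizer (P : Set G))) heq
    rw [bel_conjSet _ _ _ _ he, bel_conjSet _ _ _ _ he] at h
    rw [← QuotientGroup.out_eq' q, ← QuotientGroup.out_eq' r, QuotientGroup.eq, hbel,
      ← conjA_conjA, ← h, conjA_conjA, inv_mul_cancel, conjA_one]
  set S : MonoidAlgebra ℂ G := ∑ q : G ⧸ T, conjA q.out (celt (Subgroup.centralizer (P : Set G)) e) with hS
  have hsum : ∀ u, (Nat.card T : ℂ)⁻¹ * ∑ x : G, subgroupBlockCoeff (Subgroup.centralizer (P : Set G)) e (x⁻¹ * u * x) =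
      S.coeff u := by
    intro u
    have hcT : (Nat.card T : ℂ) ≠ 0 := Nat.cast_ne_zero.mpr Nat.card_pos.ne'
    rw [inv_mul_eq_iff_eq_mul₀ hcT, hS, coeff_sum, Finsupp.finsetSum_apply, Finset.mul_sum]
    have hbij : Function.Bijective fun y : (G ⧸ T) × T => y.1.out * (y.2 : G) := by
      constructor
      · rintro ⟨q, t⟩ ⟨r, s⟩ h
        simp only at h
        have hq : q = r := by
          have := congrArg (QuotientGroup.mk : G → G ⧸ T) h
          rwa [QuotientGroup.mk_mul_of_mem _ t.2, QuotientGroup.mk_mul_of_mem _ s.2,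
            QuotientGroup.out_eq', QuotientGroup.out_eq'] at this
        subst hq
        exact Prod.ext rfl (Subtype.ext (mul_left_cancel h))
      · intro x
        exact ⟨⟨(x : G ⧸ T), ⟨(x : G ⧸ T).out⁻¹ * x,
          QuotientGroup.eq.mp (QuotientGroup.out_eq' _)⟩⟩, mul_inv_cancel_left _ _⟩
    rw [← Fintype.sum_equiv (Equiv.ofBijective _ hbij)
      (fun y => subgroupBlockCoeff (Subgroup.centralizer (P : Set G)) e ((y.1.out * (y.2 : G))⁻¹ * u * (y.1.out * (y.2 : G))))
      (fun x => subgroupBlockCoeff (Subgroup.centralizer (P : Set G)) e (x⁻¹ * u * x)) (fun _ => rfl), Fintype.sum_prod_type]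
    refine Finset.sum_congr rfl fun q _ => ?_
    rw [coeff_conjA, coeff_celt, Finset.sum_congr rfl (fun t _ => ?_) (g := fun _ : T =>
      subgroupBlockCoeff (Subgroup.centralizer (P : Set G)) e (q.out⁻¹ * u * q.out))]
    · simp [Nat.card_eq_fintype_card]
    · have := (conjA_eq_self_iff _ _).mp (hfix _ t.2) (q.out⁻¹ * u * q.out)
      rw [coeff_celt, coeff_celt] at this
      rw [← this]
      congr 1
      group
  have hScen : S ∈ Subring.center (MonoidAlgebra ℂ G) := by
    rw [mem_center_iff_isClassFn]
    intro u c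
    simp only [← hsum]
    congr 1
    refine Fintype.sum_equiv (Equiv.mulLeft c⁻¹) _ _ fun x => ?_
    simp only [Equiv.coe_mulLeft]
    congr 1
    group
  have hSS : S * S = S := by
    rw [hS, Finset.sum_mul_sum]
    refine Finset.sum_congr rfl fun q _ => ?_
    rw [Finset.sum_eq_single q (fun r _ hr => horth q r hr.symm) (by simp), ← conjA_mul, celt,
      ← map_mul, idemC_mul_self]
  rw [hsum]
  set A := idemSupport S
  have hcoeff : ∀ u, blockCoeff A u = S.coeff u := blockCoeff_idemSupport hScen hSS
  have hloc : ∀ u, blockCoeff A u ∈ Loc M := fun u => by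
    rw [hcoeff, hS, coeff_sum, Finsupp.finsetSum_apply]
    refine Subring.sum_mem _ fun q _ => ?_
    rw [coeff_conjA, coeff_celt]
    exact subgroupBlockCoeff_mem_loc he _
  have hAbar : (bBar M A : MonoidAlgebra (Res M) G) =
      ∑ q : G ⧸ T, conjA q.out (bel M (Subgroup.centralizer (P : Set G)) e) := by
    refine MonoidAlgebra.ext (Finsupp.ext fun u => ?_)
    rw [coeff_bBar hloc, coeff_sum, Finsupp.finsetSum_apply]
    simp only [coeff_conjA, coeff_bel_eq he]
    rw [← map_sum]
    refine congrArg _ (Subtype.ext ?_)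
    show blockCoeff A u = _
    rw [hcoeff, hS, coeff_sum, Finsupp.finsetSum_apply, AddSubmonoidClass.coe_finsetSum]
    simp only [coeff_conjA, coeff_celt]
  have hsuppF : ∀ F : Set (IrrCharacter G), IsPBlock M F → ∀ u ∉ (Subgroup.centralizer (P : Set G)), (bBar M F : MonoidAlgebra (Res M) G).coeff u = 0 :=
    fun F hF u hu => coeff_bBar_eq_zero_of_notMem hP hF hu
  have hmul : ∀ F : Set (IrrCharacter G), IsPBlock M F → ∀ d, (bBar M F : MonoidAlgebra (Res M) G) * bel M (Subgroup.centralizer (P : Set G)) e = d →
      (bBar M F : MonoidAlgebra (Res M) G) * (bBar M A : MonoidAlgebra (Res M) G) =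
        ∑ q : G ⧸ T, conjA q.out d := by
    intro F hF d hd
    rw [hAbar, Finset.mul_sum]
    refine Finset.sum_congr rfl fun q _ => ?_
    rw [← hd, conjA_mul, conjA_of_mem_center q.out (bBar M F).2]
  have hBA : bBar M B * bBar M A = bBar M A := Subtype.ext (by
    rw [Subring.coe_mul, hmul B hB (bel M (Subgroup.centralizer (P : Set G)) e) ?_, hAbar]
    have := mul_of_occ hM hP he (inv2_center P (bBar M B).2)
      (by rw [← Subring.coe_mul, bBar_mul_self (blockCoeff_mem_loc hB)]) hocc
    rwa [embH_resH_of_supp (hsuppF B hB)] at this)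
  have hne : bBar M A ≠ 0 := by
    intro h0
    have h1 := congrArg (· * conjA ((1 : G) : G ⧸ T).out (bel M (Subgroup.centralizer (P : Set G)) e)) hAbar
    simp only [h0, Subring.coe_zero, zero_mul, Finset.sum_mul] at h1
    have hterm : ∀ q : G ⧸ T, q ≠ ((1 : G) : G ⧸ T) →
        conjA q.out (bel M (Subgroup.centralizer (P : Set G)) e) * conjA ((1 : G) : G ⧸ T).out (bel M (Subgroup.centralizer (P : Set G)) e) = 0 := by
      intro q hq
      rw [← bel_conjSet _ (Subgroup.centralizer (P : Set G)) (Subgroup.centralizer (P : Set G)) (conj_mem_centralizer_iff (P := P) _) he,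
        ← bel_conjSet _ (Subgroup.centralizer (P : Set G)) (Subgroup.centralizer (P : Set G)) (conj_mem_centralizer_iff (P := P) _) he]
      refine bel_mul_of_ne hM (Subgroup.centralizer (P : Set G)) (hcb _) (hcb _) fun heq => hq ?_
      have h := congrArg (bel M (Subgroup.centralizer (P : Set G))) heq
      rw [bel_conjSet _ _ _ _ he, bel_conjSet _ _ _ _ he] at h
      rw [← QuotientGroup.out_eq' q, ← QuotientGroup.out_eq' ((1 : G) : G ⧸ T),
        QuotientGroup.eq, hbel, ← conjA_conjA, ← h, conjA_conjA, inv_mul_cancel, conjA_one]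
    rw [Finset.sum_eq_single _ (fun q _ hq => hterm q hq) (by simp), ← conjA_mul,
      bel_mul_self (Subgroup.centralizer (P : Set G)) he] at h1
    have h2 := congrArg (conjA ((1 : G) : G ⧸ T).out⁻¹) h1
    rw [conjA_conjA, inv_mul_cancel, conjA_one] at h2
    exact bel_ne_zero (Subgroup.centralizer (P : Set G)) he (h2.symm.trans (by simp [conjA]))
  have hAblock : IsPBlock M A := by
    refine isPBlock_of_primitive hM hloc hne fun F hF => ?_
    by_cases hFB : F = B
    · exact Or.inl (hFB ▸ hBA)
    · right
      rcases mul_bel_cases hM hP he (hsuppF F hF) (isInv_of_mem_center _ (bBar M F).2)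
        (by rw [← Subring.coe_mul, bBar_mul_self (blockCoeff_mem_loc hF)]) with h | h
      · exfalso
        exact hFB ((existsUnique_block hM hBe.1).unique
          (isBrauerPairOf_iff.mpr ⟨hP, he, hF, occ_of_mul he (isInv_of_mem_center _ (bBar M F).2)
            (by rw [embH_resH_of_supp (hsuppF F hF)]; exact h)⟩) hBe)
      · exact Subtype.ext (by
          rw [Subring.coe_mul, hmul F hF 0 h]
          simp [conjA])
  have hAB : A = B := by
    obtain ⟨χ, hχ⟩ := block_nonempty hAblock
    have h2 := congrArg (omegaBar M χ) hBA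
    rw [map_mul, omegaBar_bBar hloc, if_pos hχ, mul_one,
      omegaBar_bBar (blockCoeff_mem_loc hB)] at h2
    by_cases hχB : χ ∈ B
    · exact block_eq_of_mem hAblock hB hχ hχB
    · rw [if_neg hχB] at h2
      exact absurd h2 zero_ne_one
  rw [← hcoeff, hAB]

end NormalP

end Cfsg.Agent.BPairs
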