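import Cfsg.Agent.Lib.BrauerPairs.Pairs
import Mathlib.GroupTheory.Nilpotent

/-!
# Inclusion of Brauer pairs
-/

set_option linter.unusedSectionVars false

namespace Cfsg.Agent.BPairs

open MonoidAlgebra Blocks

universe u

variable {G : Type u} [Group G] [Finite G] {p : ℕ} {M : Ideal AlgInt} [M.IsPrime]

theorem centralizer_le_centralizer {Q P : Subgroup G} (h : Q ≤ P) :
    Subgroup.centralizer (P : Set G) ≤ Subgroup.centralizer (Q : Set G) :=
  Subgroup.centralizer_le fun _ hx => h hx

theorem isInv_mono {H K : Subgroup G} (h : H ≤ K) {a : MonoidAlgebra (Res M) G} (ha : IsInv K a) :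
    IsInv H a := fun q hq => ha q (h hq)

theorem inv2_bel {Q P : Subgroup G} (hQP : Q ≤ P)
    {f : Set (IrrCharacter (Subgroup.centralizer (Q : Set G)))}
    (hst : ∀ x ∈ P, conjA x (bel M _ f) = bel M _ f) : Inv2 P (bel M _ f) :=
  ⟨isInv_iff_conjA.mpr hst, isInv_mono (centralizer_le_centralizer hQP) (isInv_bel _ f)⟩

theorem conjA_ne_zero_coeff {x u : G} {a : MonoidAlgebra (Res M) G} {P : Subgroup G} (hx : x ∈ P)
    (hu : u ∈ Subgroup.centralizer (P : Set G)) : (conjA x a).coeff u = a.coeff u := by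
  rw [coeff_conjA]
  congr 1
  rw [mul_assoc, ← Subgroup.mem_centralizer_iff.mp hu x hx, inv_mul_cancel_left]

/-- Conjugation permutes the blocks of a normalised subgroup. -/
noncomputable def blockPerm (Q P : Subgroup G) (hPN : P ≤ Subgroup.normalizer (Q : Set G)) :
    P →* Equiv.Perm {f : Set (IrrCharacter (Subgroup.centralizer (Q : Set G))) // IsPBlock M f} :=
  have hC : ∀ x : P, ∀ u, u ∈ Subgroup.centralizer (Q : Set G) ↔
      (x : G) * u * (x : G)⁻¹ ∈ Subgroup.centralizer (Q : Set G) :=
    fun x _ => (centralizer_conj_mem (hPN x.2)).symm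
  let act : P → {f : Set (IrrCharacter (Subgroup.centralizer (Q : Set G))) // IsPBlock M f} →
      {f : Set (IrrCharacter (Subgroup.centralizer (Q : Set G))) // IsPBlock M f} :=
    fun x f => ⟨conjSet (x : G) _ _ (hC x) f.1, isPBlock_pullSet _ f.2⟩
  have hone : ∀ f, act 1 f = f := fun f => Subtype.ext (bel_injective _ (act 1 f).2 f.2 (by
    rw [bel_conjSet _ _ _ _ f.2]; exact conjA_one _))
  have hmul : ∀ x y f, act (x * y) f = act x (act y f) := fun x y f =>
    Subtype.ext (bel_injective _ (act (x * y) f).2 (act x (act y f)).2 (by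
      show bel M _ (conjSet ((x * y : P) : G) _ _ _ f.1) =
        bel M _ (conjSet (x : G) _ _ _ (act y f).1)
      rw [bel_conjSet _ _ _ _ f.2, bel_conjSet _ _ _ _ (act y f).2, bel_conjSet _ _ _ _ f.2,
        conjA_conjA, Subgroup.coe_mul]))
  { toFun := fun x =>
      { toFun := act x
        invFun := act x⁻¹
        left_inv := fun f => by rw [← hmul, inv_mul_cancel, hone]
        right_inv := fun f => by rw [← hmul, mul_inv_cancel, hone] }
    map_one' := Equiv.ext hone
    map_mul' := fun x y => Equiv.ext (hmul x y) }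

theorem bel_blockPerm (Q P : Subgroup G) (hPN : P ≤ Subgroup.normalizer (Q : Set G)) (x : P)
    (f : {f : Set (IrrCharacter (Subgroup.centralizer (Q : Set G))) // IsPBlock M f}) :
    bel M _ (blockPerm (M := M) Q P hPN x f).1 = conjA (x : G) (bel M _ f.1) :=
  bel_conjSet _ _ _ _ f.2

/-- Exactly one block lies normally below a given pair. -/
theorem existsUnique_normal_below (hM : IsPModular p M) {P Q : Subgroup G}
    {e : Set (IrrCharacter (Subgroup.centralizer (P : Set G)))} (hPe : IsBrauerPair p M P e)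
    (hQP : Q ≤ P) (hPN : P ≤ Subgroup.normalizer (Q : Set G)) :
    ∃! f, IsNormalSubpair p M Q f P e := by
  classical
  haveI := Fact.mk hM.1
  haveI := charP_res hM
  haveI := Fintype.ofFinite {f : Set (IrrCharacter (Subgroup.centralizer (Q : Set G))) // IsPBlock M f}
  obtain ⟨ξ, hξ⟩ := block_nonempty hPe.2
  have hQ : IsPGroup p Q := IsPGroup.to_le hPe.1 hQP
  have hstab : ∀ f : {f : Set (IrrCharacter (Subgroup.centralizer (Q : Set G))) // IsPBlock M f},
      (∀ x, blockPerm (M := M) Q P hPN x f = f) ↔ ∀ x ∈ P, conjA x (bel M (Subgroup.centralizer (Q : Set G)) f.1) = bel M (Subgroup.centralizer (Q : Set G)) f.1 := by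
    intro f
    constructor
    · intro h x hx
      rw [← bel_blockPerm Q P hPN ⟨x, hx⟩ f, h]
    · intro h x
      exact Subtype.ext (bel_injective _ (blockPerm (M := M) Q P hPN x f).2 f.2
        ((bel_blockPerm Q P hPN x f).trans (h x.1 x.2)))
  have htot : ∑ f : {f : Set (IrrCharacter (Subgroup.centralizer (Q : Set G))) // IsPBlock M f}, val M P ξ (bel M (Subgroup.centralizer (Q : Set G)) f.1) = 1 := by
    rw [← val_one (M := M) P ξ, ← sum_bel hM (Subgroup.centralizer (Q : Set G)), val_sum]
    exact (Finset.sum_subtype (blocks M (Subgroup.centralizer (Q : Set G))) (fun f => mem_blocks)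
      (fun f => val M P ξ (bel M (Subgroup.centralizer (Q : Set G)) f))).symm
  rw [Glauberman.sum_eq_sum_fixed hPe.1 (blockPerm (M := M) Q P hPN) _ (fun x f => by
    rw [bel_blockPerm]
    simp only [val]
    refine Finset.sum_congr rfl fun K _ => ?_
    rw [conjA_ne_zero_coeff x.2 (rep K).2])] at htot
  obtain ⟨f, hf, hne⟩ := Finset.exists_ne_zero_of_sum_ne_zero (htot ▸ one_ne_zero)
  have hst := (hstab f).mp (Finset.mem_filter.mp hf).2
  have hocc : Occ M P e (bel M (Subgroup.centralizer (Q : Set G)) f.1) := occ_of_mem hPe.2 hξ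
    ((val_zero_or_one hM hPe.1 ξ (inv2_bel hQP hst) (bel_mul_self _ f.2)).resolve_left hne)
  refine ⟨f.1, isNormalSubpair_iff.mpr ⟨⟨hQ, f.2⟩, hPe, hQP, hPN, hst, hocc⟩, fun g hg => ?_⟩
  obtain ⟨hg1, -, -, -, hgst, hgocc⟩ := isNormalSubpair_iff.mp hg
  by_contra hne'
  have h0 := val_mul hM hPe.1 ξ (inv2_bel hQP hgst).1 (inv2_bel hQP hst).1
    (inv2_bel hQP hgst).2 (inv2_bel hQP hst).2
  rw [bel_mul_of_ne hM (Subgroup.centralizer (Q : Set G)) hg1.2 f.2 hne', hgocc ξ hξ, hocc ξ hξ, one_mul] at h0
  exact one_ne_zero (h0.symm.trans (by simp [val]))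

/-- Occurrence passes along normal inclusions in both directions. -/
theorem occ_iff_of_normal (hM : IsPModular p M) {Q P : Subgroup G}
    {f : Set (IrrCharacter (Subgroup.centralizer (Q : Set G)))}
    {e : Set (IrrCharacter (Subgroup.centralizer (P : Set G)))}
    (h : IsNormalSubpair p M Q f P e) {a : MonoidAlgebra (Res M) G} (haQ : Inv2 Q a)
    (haP : IsInv P a) (haa : a * a = a) : Occ M P e a ↔ Occ M Q f a := by
  obtain ⟨⟨hQ, hf⟩, ⟨hP, he⟩, hQP, hPN, hst, hocc⟩ := isNormalSubpair_iff.mp h
  obtain ⟨ξ, hξ⟩ := block_nonempty he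
  obtain ⟨η, hη⟩ := block_nonempty hf
  have haP2 : Inv2 P a := ⟨haP, isInv_mono (centralizer_le_centralizer hQP) haQ.2⟩
  set a' := embH (Subgroup.centralizer (Q : Set G)) (resH (Subgroup.centralizer (Q : Set G)) a) with ha'def
  have hcoef : ∀ u ∈ (Subgroup.centralizer (Q : Set G)), a'.coeff u = a.coeff u := fun u hu => by
    rw [ha'def, show u = ((⟨u, hu⟩ : (Subgroup.centralizer (Q : Set G))) : G) from rfl, coeff_embH, coeff_resH]
  have ha' : IsInv P a' := by
    intro q hq u
    by_cases hu : u ∈ (Subgroup.centralizer (Q : Set G))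
    · rw [hcoef _ ((centralizer_conj_mem (hPN hq)).mpr hu), hcoef _ hu, haP q hq u]
    · rw [ha'def, coeff_embH_of_notMem _ _ hu,
        coeff_embH_of_notMem _ _ fun h => hu ((centralizer_conj_mem (hPN hq)).mp h)]
  have ha'C : IsInv (Subgroup.centralizer (P : Set G)) a' :=
    isInv_mono (centralizer_le_centralizer hQP)
      (isInv_embH le_rfl (resH_mem_center_of_isInv haQ.2))
  have hva' : val M P ξ a' = val M P ξ a := by
    simp only [val]
    refine Finset.sum_congr rfl fun K _ => ?_
    rw [hcoef _ (centralizer_le_centralizer hQP (rep K).2)]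
  have hprod : val M P ξ (a' * bel M (Subgroup.centralizer (Q : Set G)) f) = val M P ξ a := by
    rw [val_mul hM hP ξ ha' (inv2_bel hQP hst).1 ha'C (inv2_bel hQP hst).2, hocc ξ hξ, mul_one, hva']
  constructor
  · intro ho
    refine occ_of_mem hf hη ((val_zero_or_one hM hQ η haQ haa).resolve_left fun h0 => ?_)
    have hm := resH_mem_center_of_isInv (P := Q) haQ.2
    have hidem : (⟨_, hm⟩ : ZG (Res M) (Subgroup.centralizer (Q : Set G))) * ⟨_, hm⟩ = ⟨_, hm⟩ :=
      Subtype.ext (by rw [Subring.coe_mul, ← resH_mul_of_isInv hM hQ haQ.1 haQ.1, haa])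
    have hz : (⟨_, hm⟩ : ZG (Res M) (Subgroup.centralizer (Q : Set G))) * bBar M f = 0 := by
      refine eq_zero_of_omegaBar hM _
        (by rw [mul_mul_mul_comm, hidem, bBar_mul_self (blockCoeff_mem_loc hf)]) fun χ => ?_
      classical
      rw [map_mul, omegaBar_bBar (blockCoeff_mem_loc hf), ← val_eq_omegaBar Q χ hm]
      split_ifs with e'
      · rw [val_congr_block ((mem_block_iff hf e').mp hη), h0, zero_mul]
      · rw [mul_zero]
    have hzero : a' * bel M (Subgroup.centralizer (Q : Set G)) f = 0 := by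
      rw [ha'def, bel, ← map_mul]
      rw [show resH (Subgroup.centralizer (Q : Set G)) a * (bBar M f : MonoidAlgebra (Res M) (Subgroup.centralizer (Q : Set G))) = 0 from congrArg Subtype.val hz,
        map_zero]
    rw [hzero, ho ξ hξ] at hprod
    exact one_ne_zero (hprod.symm.trans (by simp [val]))
  · intro ho
    have heq : a' * bel M (Subgroup.centralizer (Q : Set G)) f = bel M (Subgroup.centralizer (Q : Set G)) f := by
      rw [ha'def, bel, ← map_mul, resH_mul_of_occ hM hQ hf haQ haa ho]
    rw [heq] at hprod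
    exact occ_of_mem he hξ (hprod.symm.trans (hocc ξ hξ))

theorem subpair_le {Q P : Subgroup G} {f : Set (IrrCharacter (Subgroup.centralizer (Q : Set G)))}
    {e : Set (IrrCharacter (Subgroup.centralizer (P : Set G)))} (h : SubpairLE p M Q f P e) :
    Q ≤ P := by
  have : ∀ a b : BrauerPairIdx G, Relation.ReflTransGen (NormalSubpairRel p M) a b → a.1 ≤ b.1 := by
    intro a b hab
    induction hab with
    | refl => exact le_rfl
    | tail _ hr ih => exact ih.trans hr.2.2.1
  exact this _ _ h

theorem isBrauerPair_of_subpair {a b : BrauerPairIdx G}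
    (h : Relation.ReflTransGen (NormalSubpairRel p M) a b) (hb : IsBrauerPair p M b.1 b.2) :
    IsBrauerPair p M a.1 a.2 := by
  induction h using Relation.ReflTransGen.head_induction_on with
  | refl => exact hb
  | head hr _ _ => exact hr.1

theorem eq_of_normal_self (hM : IsPModular p M) {Q : Subgroup G}
    {f g : Set (IrrCharacter (Subgroup.centralizer (Q : Set G)))}
    (h : IsNormalSubpair p M Q f Q g) : f = g := by
  classical
  obtain ⟨hf, hg, -, -, -, hocc⟩ := isNormalSubpair_iff.mp h
  obtain ⟨ξ, hξ⟩ := block_nonempty hg.2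
  have := hocc ξ hξ
  rw [val_bel hf.2] at this
  split_ifs at this with e
  · exact block_eq_of_mem hf.2 hg.2 e hξ
  · exact absurd this zero_ne_one

/-- An occurrence propagates down a chain inside a stabilising group. -/
theorem occ_chain (hM : IsPModular p M) {Q N : Subgroup G}
    {f₀ : Set (IrrCharacter (Subgroup.centralizer (Q : Set G)))} (hf₀ : IsPBlock M f₀)
    (hst : ∀ x ∈ N, conjA x (bel M _ f₀) = bel M _ f₀) :
    ∀ a b : BrauerPairIdx G, Relation.ReflTransGen (NormalSubpairRel p M) a b → Q ≤ a.1 →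
      b.1 ≤ N → Occ M b.1 b.2 (bel M _ f₀) → Occ M a.1 a.2 (bel M _ f₀) := by
  intro a b h
  induction h using Relation.ReflTransGen.head_induction_on with
  | refl => exact fun _ _ h => h
  | head hr hcb ih =>
    intro hQa hbN ho
    have hQc := hQa.trans hr.2.2.1
    have hcN := (subpair_le hcb).trans hbN
    have haN := hr.2.2.1.trans hcN
    exact (occ_iff_of_normal hM hr
      (inv2_bel hQa fun x hx => hst x (haN hx))
      (isInv_iff_conjA.mpr fun x hx => hst x (hcN hx)) (bel_mul_self _ hf₀)).mp (ih hQc hbN ho)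

/-- A chain either is trivial or starts with a strict normal step. -/
theorem chain_cases (hM : IsPModular p M) :
    ∀ a b : BrauerPairIdx G, Relation.ReflTransGen (NormalSubpairRel p M) a b →
      a = b ∨ ∃ c, NormalSubpairRel p M a c ∧ a.1 < c.1 ∧
        Relation.ReflTransGen (NormalSubpairRel p M) c b := by
  intro a b h
  induction h using Relation.ReflTransGen.head_induction_on with
  | refl => exact Or.inl rfl
  | @head a c hr hcb ih =>
    rcases lt_or_eq_of_le (hr.2.2.1 : a.1 ≤ c.1) with hlt | heq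
    · exact Or.inr ⟨c, hr, hlt, hcb⟩
    · obtain ⟨Q, f⟩ := a
      obtain ⟨R, g⟩ := c
      obtain rfl : Q = R := heq
      obtain rfl : f = g := eq_of_normal_self hM hr
      exact ih

theorem exists_normalizer_gt {P Q : Subgroup G} (hP : IsPGroup p P) [Fact p.Prime] (hQP : Q ≤ P)
    (hne : Q ≠ P) : Q < P ⊓ Subgroup.normalizer (Q : Set G) := by
  haveI : Group.IsNilpotent P := hP.isNilpotent
  have hne' : Q.subgroupOf P < ⊤ := lt_top_iff_ne_top.mpr fun h =>
    hne (le_antisymm hQP (Subgroup.subgroupOf_eq_top.mp h))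
  obtain ⟨y, hy, hy'⟩ := SetLike.exists_of_lt
    (Group.normalizerCondition_of_isNilpotent (Q.subgroupOf P) hne')
  refine lt_of_le_of_ne (le_inf hQP Subgroup.le_normalizer) fun heq => hy' ?_
  have : (y : G) ∈ P ⊓ Subgroup.normalizer (Q : Set G) := ⟨y.2, by
    show (y : G) ∈ Subgroup.normalizer (Q : Set G)
    rw [Subgroup.mem_normalizer_iff]
    intro h
    constructor
    · intro hh
      exact (Subgroup.mem_normalizer_iff.mp hy ⟨h, hQP hh⟩).mp hh
    · intro hh
      have hmem : h ∈ P := by
        have := mul_mem (mul_mem (inv_mem y.2) (hQP hh)) y.2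
        simpa [mul_assoc] using this
      exact (Subgroup.mem_normalizer_iff.mp hy ⟨h, hmem⟩).mpr hh⟩
  rw [← heq] at this
  exact this

/-- A block below a given pair exists on every smaller subgroup. -/
theorem exists_below (hM : IsPModular p M) {P : Subgroup G}
    {e : Set (IrrCharacter (Subgroup.centralizer (P : Set G)))} (hPe : IsBrauerPair p M P e) :
    ∀ (n : ℕ) (Q : Subgroup G), Nat.card P - Nat.card Q = n → Q ≤ P →
      ∃ f, IsPBlock M f ∧ SubpairLE p M Q f P e := by
  haveI := Fact.mk hM.1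
  intro n
  induction n using Nat.strong_induction_on with
  | _ n ih =>
    intro Q hn hQP
    by_cases hne : Q = P
    · subst hne; exact ⟨e, hPe.2, Relation.ReflTransGen.refl⟩
    set R := P ⊓ Subgroup.normalizer (Q : Set G) with hR
    have hlt := exists_normalizer_gt hPe.1 hQP hne
    have hcard : Nat.card Q < Nat.card R := Set.Finite.card_lt_card (Set.toFinite _) hlt
    have hRP : Nat.card R ≤ Nat.card P := Subgroup.card_le_of_le inf_le_left
    obtain ⟨g, hg, hgP⟩ := ih _ (by omega) R rfl inf_le_left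
    have hgp : IsBrauerPair p M R g := ⟨IsPGroup.to_le hPe.1 inf_le_left, hg⟩
    obtain ⟨f, hf, -⟩ := existsUnique_normal_below hM hgp hlt.le inf_le_right
    exact ⟨f, hf.1.2, Relation.ReflTransGen.head (show NormalSubpairRel p M ⟨Q, f⟩ ⟨R, g⟩ from hf) hgP⟩

/-- The block below a given pair on a smaller subgroup is unique. -/
theorem eq_of_below (hM : IsPModular p M) {P : Subgroup G}
    {e : Set (IrrCharacter (Subgroup.centralizer (P : Set G)))} (hPe : IsBrauerPair p M P e) :
    ∀ (n : ℕ) (Q : Subgroup G), Nat.card P - Nat.card Q = n →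
      ∀ f f', SubpairLE p M Q f P e → SubpairLE p M Q f' P e → f = f' := by
  haveI := Fact.mk hM.1
  intro n
  induction n using Nat.strong_induction_on with
  | _ n ih =>
    intro Q hn f f' h h'
    have hQP := subpair_le h
    by_cases hne : Q = P
    · subst hne
      have key : ∀ g, SubpairLE p M Q g Q e → g = e := by
        intro g hg
        rcases chain_cases hM _ _ hg with hh | ⟨c, -, hlt, hc⟩
        · exact eq_of_heq (Sigma.mk.inj_iff.mp hh).2
        · exact absurd (subpair_le hc) (not_le_of_gt hlt)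
      rw [key f h, key f' h']
    set N := P ⊓ Subgroup.normalizer (Q : Set G) with hN
    have hlt := exists_normalizer_gt hPe.1 hQP hne
    obtain ⟨gN, hgN, hgNP⟩ := exists_below hM hPe _ N rfl inf_le_left
    have hNp : IsBrauerPair p M N gN := ⟨IsPGroup.to_le hPe.1 inf_le_left, hgN⟩
    obtain ⟨f₀, hf₀, huniq⟩ := existsUnique_normal_below hM hNp hlt.le inf_le_right
    obtain ⟨hf₀p, -, -, -, hst, hocc⟩ := isNormalSubpair_iff.mp hf₀
    have key : ∀ g, SubpairLE p M Q g P e → g = f₀ := by
      intro g hg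
      rcases chain_cases hM _ _ hg with hh | ⟨⟨R, r⟩, hr, hltR, hrP⟩
      · exact absurd (Sigma.mk.inj_iff.mp hh).1 hne
      have hRN : R ≤ N := le_inf (subpair_le hrP) hr.2.2.2.1
      have hcard : Nat.card Q < Nat.card R := Set.Finite.card_lt_card (Set.toFinite _) hltR
      have hRP : Nat.card R ≤ Nat.card P := Subgroup.card_le_of_le (subpair_le hrP)
      obtain ⟨r', hr', hr'N⟩ := exists_below hM hNp _ R rfl hRN
      have hrr : r' = r := ih _ (by omega) R rfl r' r (hr'N.trans hgNP) hrP
      subst hrr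
      have hoR := occ_chain hM hf₀p.2 hst ⟨R, r'⟩ ⟨N, gN⟩ hr'N hr.2.2.1 le_rfl hocc
      have hrp : IsBrauerPair p M R r' := hr.2.1
      obtain ⟨_, -, huniqR⟩ : ∃ f, IsNormalSubpair p M Q f R r' ∧
          ∀ g, IsNormalSubpair p M Q g R r' → g = f :=
        existsUnique_normal_below hM hrp hr.2.2.1 hr.2.2.2.1
      exact (huniqR g hr).trans (huniqR f₀ (isNormalSubpair_iff.mpr
        ⟨hf₀p, hrp, hr.2.2.1, hr.2.2.2.1, fun x hx => hst x (hRN hx), hoR⟩)).symm
    rw [key f h, key f' h']

theorem existsUnique_below (hM : IsPModular p M) {P Q : Subgroup G}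
    {e : Set (IrrCharacter (Subgroup.centralizer (P : Set G)))} (hPe : IsBrauerPair p M P e)
    (hQP : Q ≤ P) : ∃! f, IsPBlock M f ∧ SubpairLE p M Q f P e := by
  obtain ⟨f, hf, hfP⟩ := exists_below hM hPe _ Q rfl hQP
  exact ⟨f, ⟨hf, hfP⟩, fun g hg => eq_of_below hM hPe _ Q rfl g f hg.2 hfP⟩

/-- Pairs in inclusion belong to the same blocks. -/
theorem pairOf_iff_of_subpair (hM : IsPModular p M) {B : Set (IrrCharacter G)} (hB : IsPBlock M B) :
    ∀ a b : BrauerPairIdx G, Relation.ReflTransGen (NormalSubpairRel p M) a b →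
      (IsBrauerPairOf p M B b.1 b.2 ↔ IsBrauerPairOf p M B a.1 a.2) := by
  intro a b h
  induction h using Relation.ReflTransGen.head_induction_on with
  | refl => exact Iff.rfl
  | head hr _ ih =>
    refine ih.trans ?_
    have hi := occ_iff_of_normal hM hr
      (inv2_center _ (bBar M B).2) (inv2_center _ (bBar M B).2).1
      (by rw [← Subring.coe_mul, bBar_mul_self (blockCoeff_mem_loc hB)])
    rw [isBrauerPairOf_iff, isBrauerPairOf_iff, hi]
    exact ⟨fun h => ⟨hr.1.1, hr.1.2, hB, h.2.2.2⟩, fun h => ⟨hr.2.1.1, hr.2.1.2, hB, h.2.2.2⟩⟩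

/-- Every pair belongs to exactly one block. -/
theorem existsUnique_block (hM : IsPModular p M) {P : Subgroup G}
    {e : Set (IrrCharacter (Subgroup.centralizer (P : Set G)))} (hPe : IsBrauerPair p M P e) :
    ∃! B : Set (IrrCharacter G), IsBrauerPairOf p M B P e := by
  obtain ⟨ξ, hξ⟩ := block_nonempty hPe.2
  have htot : ∑ B ∈ blocks M G, val M P ξ (bBar M B : MonoidAlgebra (Res M) G) = 1 := by
    rw [← val_sum, ← AddSubmonoidClass.coe_finsetSum, sum_bBar hM, OneMemClass.coe_one, val_one]
  obtain ⟨B, hB, hne⟩ := Finset.exists_ne_zero_of_sum_ne_zero (htot ▸ one_ne_zero)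
  have hB' := mem_blocks.mp hB
  have hi := inv2_center P (bBar M B).2
  have hocc : Occ M P e (bBar M B : MonoidAlgebra (Res M) G) := occ_of_mem hPe.2 hξ
    ((val_zero_or_one hM hPe.1 ξ hi (by rw [← Subring.coe_mul,
      bBar_mul_self (blockCoeff_mem_loc hB')])).resolve_left hne)
  refine ⟨B, isBrauerPairOf_iff.mpr ⟨hPe.1, hPe.2, hB', hocc⟩, fun B' h => ?_⟩
  obtain ⟨-, -, hB'', hocc'⟩ := isBrauerPairOf_iff.mp h
  by_contra hne'
  have hi' := inv2_center P (bBar M B').2
  have h0 := val_mul hM hPe.1 ξ hi'.1 hi.1 hi'.2 hi.2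
  rw [hocc ξ hξ, hocc' ξ hξ, one_mul, ← Subring.coe_mul, bBar_mul_of_ne hM hB'' hB' hne'] at h0
  exact one_ne_zero (h0.symm.trans (by simp [val]))

end Cfsg.Agent.BPairs
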