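import Cfsg.Agent.Lib.BrauerPairs.Maximal
import Cfsg.Agent.Lib.Blocks.Subgroup
import Cfsg.Agent.Lib.Blocks.FirstMain
import Cfsg.Agent.Lib.OddLocal.PiCore

/-!
# Brauer pairs and `π`-kernels of blocks

A normal subgroup of order prime to `p` is in the kernel of a block exactly when the central
character is `1` on its idempotent; this propagates along inclusions of Brauer pairs.
-/

set_option linter.unusedSectionVars false

namespace Cfsg.Agent.BPairs

open MonoidAlgebra Blocks

universe u

variable {G : Type u} [Group G] [Finite G] {p : ℕ} {M : Ideal AlgInt} [M.IsPrime]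

open Classical in
/-- The averaging element of a subgroup of order prime to `p`. -/
noncomputable def eK (M : Ideal AlgInt) [M.IsPrime] (K : Subgroup G) : MonoidAlgebra (Res M) G :=
  ofFun fun u => if u ∈ K then (Nat.card K : Res M)⁻¹ else 0

open Classical in
theorem coeff_eK (K : Subgroup G) (u : G) :
    (eK M K).coeff u = if u ∈ K then (Nat.card K : Res M)⁻¹ else 0 := coeff_ofFun _ u

theorem cast_card_ne_zero (hM : IsPModular p M) {K : Subgroup G} (hK : ¬ p ∣ Nat.card K) :
    (Nat.card K : Res M) ≠ 0 := by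
  haveI := charP_res (M := M) hM
  exact mt (CharP.cast_eq_zero_iff (Res M) p _).mp hK

theorem isInv_eK {Q K : Subgroup G} (h : Q ≤ Subgroup.normalizer (K : Set G)) :
    IsInv Q (eK M K) := by
  classical
  intro q hq u
  rw [coeff_eK, coeff_eK]
  exact if_congr (Subgroup.mem_normalizer_iff.mp (h hq) u).symm rfl rfl

theorem eK_mul_self (hM : IsPModular p M) {K : Subgroup G} (hK : ¬ p ∣ Nat.card K) :
    eK M K * eK M K = eK M K := by
  classical
  letI := Fintype.ofFinite G
  ext m
  rw [coeff_mul_sum]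
  simp only [coeff_eK]
  by_cases hm : m ∈ K
  · have e : ∀ u : G, ((if u ∈ K then (Nat.card K : Res M)⁻¹ else 0) *
        if u⁻¹ * m ∈ K then (Nat.card K : Res M)⁻¹ else 0) =
        if u ∈ K then (Nat.card K : Res M)⁻¹ * (Nat.card K : Res M)⁻¹ else 0 := by
      intro u
      by_cases hu : u ∈ K
      · rw [if_pos hu, if_pos (mul_mem (inv_mem hu) hm), if_pos hu]
      · rw [if_neg hu, if_neg hu, zero_mul]
    rw [Finset.sum_congr rfl fun u _ => e u, if_pos hm, ← Finset.sum_filter, Finset.sum_const,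
      show (Finset.univ.filter fun u : G => u ∈ K).card = Nat.card K from
        (Nat.card_eq_fintype_card.trans (Fintype.card_subtype _)).symm,
      nsmul_eq_mul, ← mul_assoc, mul_inv_cancel₀ (cast_card_ne_zero hM hK), one_mul]
  · rw [if_neg hm]
    refine Finset.sum_eq_zero fun u _ => ?_
    by_cases hu : u ∈ K
    · rw [if_pos hu, if_neg fun h => hm (by simpa using mul_mem hu h), mul_zero]
    · rw [if_neg hu, zero_mul]

theorem eK_mem_center (N : Subgroup G) [N.Normal] :
    eK M N ∈ Subring.center (MonoidAlgebra (Res M) G) := by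
  rw [mem_center_iff_isClassFn]
  intro g h
  exact isInv_eK (Q := ⊤) (by rw [Subgroup.normalizer_eq_top]) h trivial g

/-- The averaging element of a normal subgroup in the centre. -/
noncomputable def eZ (M : Ideal AlgInt) [M.IsPrime] (N : Subgroup G) [N.Normal] : ZG (Res M) G :=
  ⟨eK M N, eK_mem_center N⟩

/-- The kernel criterion. -/
theorem omegaBar_eZ_iff (hM : IsPModular p M) {N : Subgroup G} [N.Normal]
    (hN : ¬ p ∣ Nat.card N) (χ : IrrCharacter G) :
    omegaBar M χ (eZ M N) = 1 ↔ ∀ n ∈ N, (χ : G → ℂ) n = (χ : G → ℂ) 1 := by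
  classical
  letI := Fintype.ofFinite G
  have hc : (Nat.card N : ℂ) ≠ 0 := Nat.cast_ne_zero.mpr Nat.card_pos.ne'
  have hcL : ((Nat.card N : ℕ) : ℂ)⁻¹ ∈ Loc M :=
    inv_mem_loc (natCast_mem _ _) (mt (memLocalIdeal_natCast hM _).mp hN)
  let f : G → Loc M := fun u => if u ∈ N then ⟨_, hcL⟩ else 0
  have hf : ofFun f ∈ Subring.center (MonoidAlgebra (Loc M) G) := by
    rw [mem_center_iff_isClassFn]
    intro g h
    simp only [coeff_ofFun, f]
    exact if_congr ((Subgroup.mem_normalizer_iff.mp
      ((Subgroup.normalizer_eq_top (H := N)).symm ▸ Subgroup.mem_top h : h ∈ _) g).symm) rfl rfl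
  set z : ZG (Loc M) G := ⟨ofFun f, hf⟩
  have hred : redZ M G z = eZ M N := by
    refine Subtype.ext ?_
    ext u
    rw [coe_redZ, coeff_map', coeff_ofFun]
    show red M (f u) = (eK M N).coeff u
    rw [coeff_eK]
    simp only [f]
    split_ifs
    · apply eq_inv_of_mul_eq_one_left
      rw [← map_natCast (red M) (Nat.card N), ← map_mul, ← map_one (red M)]
      exact congrArg _ (Subtype.ext (by simp [hc]))
    · exact map_zero _
  have hv : ((omegaL M χ z : Loc M) : ℂ) =
      (∑ u : G, if u ∈ N then (Nat.card N : ℂ)⁻¹ * (χ : G → ℂ) u else 0) / (χ : G → ℂ) 1 := by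
    rw [coe_omegaL, omega, ev_eq_sum]
    congr 1
    refine Finset.sum_congr rfl fun u _ => ?_
    rw [coeff_map', coeff_ofFun]
    simp only [f]
    split_ifs <;> simp
  have hzz : z * z = z := by
    refine Subtype.ext ?_
    apply toC_injective
    show toC M G (ofFun f * ofFun f) = toC M G (ofFun f)
    ext m
    rw [coeff_map', coeff_map', coeff_mul_sum, map_sum, coeff_ofFun]
    simp only [coeff_ofFun, map_mul, f, apply_ite (Subring.subtype (Loc M)), map_zero,
      Subring.subtype_apply]
    by_cases hm : m ∈ N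
    · have e : ∀ u : G, ((if u ∈ N then ((Nat.card N : ℂ))⁻¹ else 0) *
          if u⁻¹ * m ∈ N then ((Nat.card N : ℂ))⁻¹ else 0) =
          if u ∈ N then ((Nat.card N : ℂ))⁻¹ * ((Nat.card N : ℂ))⁻¹ else 0 := by
        intro u
        by_cases hu : u ∈ N
        · rw [if_pos hu, if_pos (mul_mem (inv_mem hu) hm), if_pos hu]
        · rw [if_neg hu, if_neg hu, zero_mul]
      rw [Finset.sum_congr rfl fun u _ => e u, if_pos hm, ← Finset.sum_filter, Finset.sum_const,
        show (Finset.univ.filter fun u : G => u ∈ N).card = Nat.card N from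
          (Nat.card_eq_fintype_card.trans (Fintype.card_subtype _)).symm,
        nsmul_eq_mul, ← mul_assoc, mul_inv_cancel₀ hc, one_mul]
    · rw [if_neg hm]
      refine Finset.sum_eq_zero fun u _ => ?_
      by_cases hu : u ∈ N
      · rw [if_pos hu, if_neg fun h => hm (by simpa using mul_mem hu h), mul_zero]
      · rw [if_neg hu, zero_mul]
  have hone : omegaBar M χ (eZ M N) = 1 ↔ ((omegaL M χ z : Loc M) : ℂ) = 1 := by
    rw [← hred, omegaBar_redZ]
    have hsq : omegaL M χ z * omegaL M χ z = omegaL M χ z := by rw [← map_mul, hzz]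
    constructor
    · intro h
      rcases eq_or_ne ((omegaL M χ z : Loc M) : ℂ) 0 with h0 | h0
      · rw [show omegaL M χ z = 0 from Subtype.ext (by simpa using h0), map_zero] at h
        exact absurd h zero_ne_one
      · have := congrArg (fun x : Loc M => (x : ℂ)) hsq
        simp only [Subring.coe_mul] at this
        exact (mul_eq_left₀ h0).mp this
    · intro h
      rw [show omegaL M χ z = 1 from Subtype.ext (by simpa using h), map_one]
  have hsum : ∀ n ∈ N, ((χ : G → ℂ) n).re ≤ ((χ : G → ℂ) 1).re := fun n _ =>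
    (Complex.re_le_norm _).trans (CT.norm_isCharacter_le (CT.isCharacter_of_isIrr χ.2) n)
  rw [hone, hv, div_eq_one_iff_eq (CT.irr_one_ne_zero χ.2), ← Finset.sum_filter, ← Finset.mul_sum]
  have hcard : ((Finset.univ.filter fun u : G => u ∈ N).card : ℂ) = (Nat.card N : ℂ) := by
    rw [Nat.card_eq_fintype_card, Fintype.card_subtype]
  constructor
  · intro h n hn
    rw [inv_mul_eq_iff_eq_mul₀ hc] at h
    have h2 : ∑ u ∈ Finset.univ.filter (fun u : G => u ∈ N),
        (((χ : G → ℂ) 1).re - ((χ : G → ℂ) u).re) = 0 := by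
      have := congrArg Complex.re h
      rw [Complex.re_sum] at this
      rw [Finset.sum_sub_distrib, this, Finset.sum_const, nsmul_eq_mul]
      rw [Complex.mul_re, Complex.natCast_re, Complex.natCast_im, zero_mul, sub_zero,
        ← Complex.natCast_re (Finset.card _), hcard, Complex.natCast_re, sub_self]
    have h3 := (Finset.sum_eq_zero_iff_of_nonneg fun u hu =>
      sub_nonneg.mpr (hsum u (Finset.mem_filter.mp hu).2)).mp h2 n (by simp [hn])
    have him : ((χ : G → ℂ) 1).im = 0 := by rw [charDegree_cast, Complex.natCast_im]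
    have hle := CT.norm_isCharacter_le (CT.isCharacter_of_isIrr χ.2) n
    rw [sub_eq_zero] at h3
    rw [h3, Complex.norm_def] at hle
    have hpos : 0 ≤ ((χ : G → ℂ) n).re := by
      rw [← h3, charDegree_cast, Complex.natCast_re]; positivity
    have h4 := Real.sqrt_le_left hpos |>.mp hle
    rw [Complex.normSq_apply] at h4
    have hi : ((χ : G → ℂ) n).im = 0 := by nlinarith [mul_self_nonneg ((χ : G → ℂ) n).im]
    exact Complex.ext h3.symm (by rw [hi, him])
  · intro h
    rw [Finset.sum_congr rfl fun u hu => h u (Finset.mem_filter.mp hu).2, Finset.sum_const,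
      nsmul_eq_mul, hcard, inv_mul_cancel_left₀ hc]

theorem resH_eK {H K : Subgroup G} (hKH : K ≤ H) :
    resH H (eK M K) = eK M (K.subgroupOf H) := by
  classical
  ext h
  rw [coeff_resH, coeff_eK, coeff_eK, card_subgroupOf hKH]
  exact if_congr Subgroup.mem_subgroupOf.symm rfl rfl

/-- Occurrence of the averaging element is the kernel condition. -/
theorem occ_eK_iff (hM : IsPModular p M) {P K : Subgroup G}
    {e : Set (IrrCharacter (Subgroup.centralizer (P : Set G)))}
    (hK : K ≤ Subgroup.centralizer (P : Set G))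
    (hCK : Subgroup.centralizer (P : Set G) ≤ Subgroup.normalizer (K : Set G))
    (hpK : ¬ p ∣ Nat.card K) :
    Occ M P e (eK M K) ↔ ∀ ξ ∈ e, ∀ k : Subgroup.centralizer (P : Set G), (k : G) ∈ K →
      (ξ : Subgroup.centralizer (P : Set G) → ℂ) k =
        (ξ : Subgroup.centralizer (P : Set G) → ℂ) 1 := by
  haveI : (K.subgroupOf (Subgroup.centralizer (P : Set G))).Normal :=
    (Subgroup.normal_subgroupOf_iff_le_normalizer hK).mpr hCK
  have hm := resH_mem_center_of_isInv (P := P) (isInv_eK (M := M) hCK)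
  refine forall₂_congr fun ξ _ => ?_
  rw [val_eq_omegaBar P ξ hm,
    show (⟨_, hm⟩ : ZG (Res M) _) = eZ M (K.subgroupOf (Subgroup.centralizer (P : Set G))) from
      Subtype.ext (resH_eK hK),
    omegaBar_eZ_iff hM (by rwa [card_subgroupOf hK])]
  exact ⟨fun h k hk => h k (Subgroup.mem_subgroupOf.mpr hk),
    fun h k hk => h k (Subgroup.mem_subgroupOf.mp hk)⟩

theorem le_normalizer_inf_self {K C : Subgroup G}
    (h : C ≤ Subgroup.normalizer (K : Set G)) :
    C ≤ Subgroup.normalizer ((K ⊓ C : Subgroup G) : Set G) := fun c hc =>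
  Subgroup.mem_normalizer_iff.mpr fun u => by
    rw [Subgroup.mem_inf, Subgroup.mem_inf]
    refine and_congr (Subgroup.mem_normalizer_iff.mp (h hc) u)
      ⟨fun hu => C.mul_mem (C.mul_mem hc hu) (C.inv_mem hc),
        fun hu => ?_⟩
    simpa [mul_assoc] using C.mul_mem (C.mul_mem (C.inv_mem hc) hu) hc

/-- On the centralizer a normalised subgroup averages as its fixed points. -/
theorem val_eK_inf (hM : IsPModular p M) {P K : Subgroup G} (hP : IsPGroup p P)
    (hPK : P ≤ Subgroup.normalizer (K : Set G))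
    (hCK : Subgroup.centralizer (P : Set G) ≤ Subgroup.normalizer (K : Set G))
    (hpK : ¬ p ∣ Nat.card K) (ξ : IrrCharacter (Subgroup.centralizer (P : Set G))) :
    val M P ξ (eK M K) = val M P ξ (eK M (K ⊓ Subgroup.centralizer (P : Set G))) := by
  classical
  set C := Subgroup.centralizer (P : Set G)
  set L := K ⊓ C with hL
  have hpL : ¬ p ∣ Nat.card L := fun h => hpK (h.trans (Subgroup.card_dvd_of_le inf_le_left))
  have hCL : C ≤ Subgroup.normalizer (L : Set G) := le_normalizer_inf_self hCK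
  set lam : Res M := (Nat.card K : Res M)⁻¹ * (Nat.card L : Res M) with hlam
  have hcoef : ∀ η : IrrCharacter C, val M P η (eK M K) = lam * val M P η (eK M L) := by
    intro η
    simp only [val, Finset.mul_sum]
    refine Finset.sum_congr rfl fun κ _ => ?_
    rw [coeff_eK, coeff_eK]
    by_cases hu : ((rep κ : C) : G) ∈ K
    · rw [if_pos hu, if_pos (show ((rep κ : C) : G) ∈ L from ⟨hu, (rep κ).2⟩), hlam, mul_assoc,
        ← mul_assoc (Nat.card L : Res M), mul_inv_cancel₀ (cast_card_ne_zero hM hpL), one_mul]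
    · rw [if_neg hu, if_neg fun h => hu h.1]
      simp
  have hlam1 : lam = 1 := by
    have h1 : val M P (CT.trivIrr C) (eK M L) = 1 := by
      haveI : (L.subgroupOf C).Normal :=
        (Subgroup.normal_subgroupOf_iff_le_normalizer inf_le_right).mpr hCL
      have hm := resH_mem_center_of_isInv (P := P) (isInv_eK (M := M) hCL)
      rw [val_eq_omegaBar P _ hm,
        show (⟨_, hm⟩ : ZG (Res M) _) = eZ M (L.subgroupOf C) from
          Subtype.ext (resH_eK inf_le_right),
        omegaBar_eZ_iff hM (by rwa [card_subgroupOf inf_le_right])]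
      exact fun _ _ => rfl
    rcases val_zero_or_one hM hP (CT.trivIrr C) ⟨isInv_eK hPK, isInv_eK hCK⟩
      (eK_mul_self hM hpK) with h | h
    · rw [hcoef, h1, mul_one] at h
      exact absurd h (mul_ne_zero (inv_ne_zero (cast_card_ne_zero hM hpK))
        (cast_card_ne_zero hM hpL))
    · rwa [hcoef, h1, mul_one] at h
  rw [hcoef, hlam1, one_mul]

section Pi

variable {π : Set ℕ}

/-- The largest normal `π'`-subgroup of the centralizer. -/
noncomputable def coreC (π : Set ℕ) (P : Subgroup G) : Subgroup G :=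
  piCoreOf {q | q ∉ π} (Subgroup.centralizer (P : Set G))

theorem coreC_le (P : Subgroup G) : coreC π P ≤ Subgroup.centralizer (P : Set G) :=
  OddLocal.piCoreOf_le _ _

theorem normalizer_le_coreC (P : Subgroup G) :
    Subgroup.normalizer (P : Set G) ≤ Subgroup.normalizer (coreC π P : Set G) :=
  (normalizer_le_normalizer_centralizer P).trans (OddLocal.normalizer_le_normalizer_piCoreOf _ _)

theorem centralizer_le_coreC (P : Subgroup G) :
    Subgroup.centralizer (P : Set G) ≤ Subgroup.normalizer (coreC π P : Set G) :=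
  OddLocal.le_normalizer_piCoreOf_self _ _

theorem not_dvd_coreC (hp : p.Prime) (hpπ : p ∈ π) (P : Subgroup G) :
    ¬ p ∣ Nat.card (coreC π P) := fun h => OddLocal.piCoreOf_primes _ _ hp h hpπ

theorem inf_le_coreC {Q P : Subgroup G} (hPN : P ≤ Subgroup.normalizer (Q : Set G)) (hQP : Q ≤ P) :
    coreC π Q ⊓ Subgroup.centralizer (P : Set G) ≤ coreC π P := by
  refine OddLocal.le_piCoreOf inf_le_right (le_normalizer_inf_self
    ((centralizer_le_centralizer hQP).trans (centralizer_le_coreC Q))) fun r hr hd => ?_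
  exact OddLocal.piCoreOf_primes _ _ hr (hd.trans (Subgroup.card_dvd_of_le inf_le_left))

/-- The `π`-elements condition. -/
def IsPiPrimeElem (π : Set ℕ) (x : G) : Prop := ∀ q : ℕ, q.Prime → q ∣ orderOf x → q ∉ π

theorem isPiPrimeElem_of_mem_coreC {P : Subgroup G} {x : G} (hx : x ∈ coreC π P) :
    IsPiPrimeElem π x := fun q hq hd => OddLocal.piCoreOf_primes _ _ hq
  (hd.trans (by
    have := orderOf_dvd_natCard (⟨x, hx⟩ : coreC π P)
    rwa [Subgroup.orderOf_mk] at this))

/-- A pair kills the `π'`-core of its centralizer. -/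
def Kills (M : Ideal AlgInt) [M.IsPrime] (π : Set ℕ) (a : BrauerPairIdx G) : Prop :=
  Occ M a.1 a.2 (eK M (coreC π a.1))

theorem occ_eK_step (hM : IsPModular p M) (hpπ : p ∈ π) {a b : BrauerPairIdx G}
    (h : NormalSubpairRel p M a b) :
    Occ M a.1 a.2 (eK M (coreC π a.1)) ↔
      Occ M b.1 b.2 (eK M (coreC π a.1 ⊓ Subgroup.centralizer (b.1 : Set G))) := by
  have hr := h
  obtain ⟨-, ⟨hP, -⟩, hQP, hPN, -⟩ := hr
  have hpK := not_dvd_coreC (G := G) hM.1 hpπ a.1
  have hPK := hPN.trans (normalizer_le_coreC (π := π) a.1)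
  have hCK : Subgroup.centralizer (b.1 : Set G) ≤ Subgroup.normalizer (coreC π a.1 : Set G) :=
    (centralizer_le_centralizer hQP).trans (centralizer_le_coreC a.1)
  rw [← occ_iff_of_normal hM h ⟨isInv_eK (hQP.trans hPK), isInv_eK (centralizer_le_coreC a.1)⟩
    (isInv_eK hPK) (eK_mul_self hM hpK)]
  exact forall₂_congr fun ξ _ => by rw [val_eK_inf hM hP hPK hCK hpK ξ]

/-- The kernel property passes down. -/
theorem kills_down (hM : IsPModular p M) (hpπ : p ∈ π) {a b : BrauerPairIdx G}
    (h : Relation.ReflTransGen (NormalSubpairRel p M) a b) (hb : Kills M π b) : Kills M π a := by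
  induction h using Relation.ReflTransGen.head_induction_on with
  | refl => exact hb
  | @head a c hr _ ih =>
    obtain ⟨-, -, hQP, hPN, -⟩ := id hr
    refine (occ_eK_step hM hpπ hr).mpr ?_
    have hle := inf_le_coreC (π := π) hPN hQP
    rw [occ_eK_iff hM inf_le_right (le_normalizer_inf_self
      ((centralizer_le_centralizer hQP).trans (centralizer_le_coreC a.1)))
      fun hd => not_dvd_coreC (G := G) hM.1 hpπ a.1 (hd.trans (Subgroup.card_dvd_of_le inf_le_left))]
    intro ξ hξ k hk
    exact (occ_eK_iff hM (coreC_le c.1) (centralizer_le_coreC c.1)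
      (not_dvd_coreC hM.1 hpπ c.1)).mp ih ξ hξ k (hle hk)

/-- Above a pair with a normal Hall `π'`-subgroup the kernel property passes up. -/
theorem kills_up (hM : IsPModular p M) (hpπ : p ∈ π) {a b : BrauerPairIdx G}
    (h : Relation.ReflTransGen (NormalSubpairRel p M) a b)
    (hall : ∀ x ∈ Subgroup.centralizer (a.1 : Set G), IsPiPrimeElem π x → x ∈ coreC π a.1)
    (ha : Kills M π a) : Kills M π b ∧
      ∀ x ∈ Subgroup.centralizer (b.1 : Set G), IsPiPrimeElem π x → x ∈ coreC π b.1 := by
  induction h with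
  | refl => exact ⟨ha, hall⟩
  | @tail c d _ hr ih =>
    obtain ⟨hc, hcall⟩ := ih
    obtain ⟨-, -, hQP, hPN, -⟩ := id hr
    have heq : coreC π c.1 ⊓ Subgroup.centralizer (d.1 : Set G) = coreC π d.1 :=
      le_antisymm (inf_le_coreC hPN hQP) fun x hx => ⟨hcall x
        (centralizer_le_centralizer hQP (coreC_le d.1 hx)) (isPiPrimeElem_of_mem_coreC hx),
        coreC_le d.1 hx⟩
    refine ⟨?_, fun x hx hπ => heq ▸ ⟨hcall x (centralizer_le_centralizer hQP hx) hπ, hx⟩⟩
    have := (occ_eK_step hM hpπ hr).mp hc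
    rwa [heq] at this

theorem map_coreC_le (P : Subgroup G) (x : G) :
    (coreC π P).map (MulAut.conj x).toMonoidHom ≤
      coreC π (P.map (MulAut.conj x).toMonoidHom) := by
  have hC := map_conj_centralizer P x
  refine OddLocal.le_piCoreOf ?_ ?_ fun r hr hd => ?_
  · rw [← hC]; exact Subgroup.map_mono (coreC_le P)
  · rw [← hC]
    exact le_trans (Subgroup.map_mono (centralizer_le_coreC P)) (Subgroup.le_normalizer_map _)
  · rw [Subgroup.card_map_of_injective (MulAut.conj x).injective] at hd
    exact OddLocal.piCoreOf_primes _ _ hr hd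

theorem map_coreC (P : Subgroup G) (x : G) :
    (coreC π P).map (MulAut.conj x).toMonoidHom =
      coreC π (P.map (MulAut.conj x).toMonoidHom) := by
  refine le_antisymm (map_coreC_le P x) fun u hu => ?_
  have h := map_coreC_le (π := π) (P.map (MulAut.conj x).toMonoidHom) x⁻¹
    (Subgroup.mem_map_of_mem _ hu)
  rw [map_conj_map_conj, inv_mul_cancel, map_conj_one] at h
  rw [mem_map_conj]
  simpa using h

theorem conjA_eK (K : Subgroup G) (x : G) :
    conjA x (eK M K) = eK M (K.map (MulAut.conj x).toMonoidHom) := by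
  classical
  ext u
  rw [coeff_conjA, coeff_eK, coeff_eK,
    Subgroup.card_map_of_injective (MulAut.conj x).injective]
  exact if_congr mem_map_conj.symm rfl rfl

theorem kills_conj (hM : IsPModular p M) (hpπ : p ∈ π) {a : BrauerPairIdx G}
    (ha : IsBrauerPair p M a.1 a.2) (h : Kills M π a) (x : G) : Kills M π (conjIdx x a) := by
  have := occ_conj hM ha.1 ha.2
    ⟨isInv_eK (Subgroup.le_normalizer.trans (normalizer_le_coreC a.1)),
      isInv_eK (centralizer_le_coreC a.1)⟩ (eK_mul_self hM (not_dvd_coreC hM.1 hpπ a.1)) h x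
  rw [conjA_eK, map_coreC] at this
  exact this

theorem kills_of_conj (hM : IsPModular p M) (hpπ : p ∈ π) {a : BrauerPairIdx G}
    (ha : IsBrauerPair p M a.1 a.2) {x : G} (h : Kills M π (conjIdx x a)) : Kills M π a := by
  have h2 := kills_conj hM hpπ (isBrauerPair_conj ha x) h x⁻¹
  rwa [show conjIdx x⁻¹ (conjIdx x a) = a from
    idx_ext (M := M) (isPBlock_conjBlock _ _ (isPBlock_conjBlock _ _ ha.2)) ha.2
      (by show (a.1.map _).map _ = a.1; rw [map_conj_map_conj, inv_mul_cancel, map_conj_one])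
      (by
        show bel M _ (conjBlock (a.1.map _) x⁻¹ (conjBlock a.1 x a.2)) = _
        rw [bel_conjBlock _ _ (isPBlock_conjBlock _ _ ha.2), bel_conjBlock _ _ ha.2, conjA_conjA,
          inv_mul_cancel, conjA_one])] at h2

/-- If one maximal pair has the kernel property, all pairs of the block have it. -/
theorem kills_all (hM : IsPModular p M) (hpπ : p ∈ π) {B : Set (IrrCharacter G)}
    {a b : BrauerPairIdx G} (hmax : IsMaximalBrauerPair p M B a.1 a.2)
    (hb : IsBrauerPairOf p M B b.1 b.2) (ha : Kills M π a) : Kills M π b := by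
  obtain ⟨x, hx⟩ := exists_conj_below_maximal hM hmax hb
  exact kills_of_conj hM hpπ hb.1 (x := x) (kills_down hM hpπ hx ha)

end Pi

/-- A block of a subgroup `H ≥ C(P)` seen at `P` gives pairs of the induced block on which its
central character is the central character of the pair. -/
theorem exists_local_pair (hM : IsPModular p M) {P H : Subgroup G} (hP : IsPGroup p P)
    (hPH : P ≤ H) (hCH : Subgroup.centralizer (P : Set G) ≤ H) {b : Set (IrrCharacter H)}
    {B : Set (IrrCharacter G)} (hind : IsInducedBlock M H b B)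
    {u : H} (hu : (u : G) ∈ Subgroup.centralizer (P : Set G))
    (hbu : (bBar M b : MonoidAlgebra (Res M) H).coeff u ≠ 0) :
    ∃ e, IsBrauerPairOf p M B P e ∧ ∀ ξ ∈ e, ∀ η ∈ b, ∀ a : ZG (Res M) H,
      val M P ξ (embH H (a : MonoidAlgebra (Res M) H)) = omegaBar M η a := by
  classical
  have hinv : ∀ a : ZG (Res M) H, Inv2 P (embH H (a : MonoidAlgebra (Res M) H)) := fun a =>
    ⟨isInv_embH hPH a.2, isInv_embH hCH a.2⟩
  obtain ⟨hb, hB, -⟩ := id hind
  obtain ⟨e, he, hocc⟩ := exists_occ hM hP (a := bel M H b)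
    (hinv (bBar M b)) (bel_mul_self H hb) hu (by rwa [coeff_bel])
  have hom : ∀ ξ ∈ e, ∀ η ∈ b, ∀ a : ZG (Res M) H,
      val M P ξ (embH H (a : MonoidAlgebra (Res M) H)) = omegaBar M η a := by
    intro ξ hξ η hη
    let l : ZG (Res M) H →+* Res M :=
      { toFun := fun a => val M P ξ (embH H (a : MonoidAlgebra (Res M) H))
        map_one' := by rw [OneMemClass.coe_one, map_one, val_one]
        map_mul' := fun a c => by
          rw [Subring.coe_mul, map_mul,
            val_mul hM hP ξ (hinv a).1 (hinv c).1 (hinv a).2 (hinv c).2]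
        map_zero' := by simp [val]
        map_add' := fun a c => by rw [Subring.coe_add, map_add, val_add] }
    have hl : ∀ c, l (scalarZ c) = c := by
      intro c
      show val M P ξ (embH H (single 1 c)) = c
      rw [embH_single, OneMemClass.coe_one]
      have hm : resH (Subgroup.centralizer (P : Set G)) (single (1 : G) c) ∈
          Subring.center (MonoidAlgebra (Res M) (Subgroup.centralizer (P : Set G))) :=
        resH_mem_center _ (scalarZ c).2
      rw [val_eq_omegaBar P ξ hm]
      refine Eq.trans ?_ (omegaBar_scalarZ ξ c)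
      congr 1
      refine Subtype.ext ?_
      ext v
      rw [coeff_resH]
      simp only [scalarZ, coeff_single]
      by_cases hv : v = 1
      · subst hv; simp
      · rw [Finsupp.single_eq_of_ne hv,
          Finsupp.single_eq_of_ne (fun e' => hv (Subtype.ext e') : ¬ (v : G) = (1 : G))]
    obtain ⟨η₀, h0⟩ := exists_eq_omegaBar hM l hl
    have h1 : omegaBar M η₀ (bBar M b) = 1 := by rw [← h0]; exact hocc ξ hξ
    rw [omegaBar_bBar (blockCoeff_mem_loc hb)] at h1
    split_ifs at h1 with hmem
    · intro a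
      show l a = _
      rw [h0, omegaBar_eq_of_sameBlock ((mem_block_iff hb hmem).mp hη)]
    · exact absurd h1 zero_ne_one
  refine ⟨e, isBrauerPairOf_iff.mpr ⟨hP, he, hB, fun ξ hξ => ?_⟩, hom⟩
  obtain ⟨η, hη⟩ := block_nonempty hb
  obtain ⟨χ, hχ⟩ := block_nonempty hB
  have h2 : val M P ξ (embH H (resZ H (bBar M B) : MonoidAlgebra (Res M) H)) = 1 := by
    rw [hom ξ hξ η hη, ← indBar_apply, indBar_eq_of_isInducedBlock hind hη hχ,
      omegaBar_bBar_eq_one hB hχ]
  rw [← h2]
  simp only [val]
  refine Finset.sum_congr rfl fun κ _ => ?_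
  rw [show ((rep κ : Subgroup.centralizer (P : Set G)) : G) =
    ((⟨_, hCH (rep κ).2⟩ : H) : G) from rfl, coeff_embH, coe_resZ, coeff_resH]

/-- The kernel condition of the block is seen at the pair. -/
theorem block_kills_iff (hM : IsPModular p M) {P H K : Subgroup G} (hP : IsPGroup p P)
    (hPH : P ≤ H) (hCH : Subgroup.centralizer (P : Set G) ≤ H) {b : Set (IrrCharacter H)}
    (hb : IsPBlock M b) {e : Set (IrrCharacter (Subgroup.centralizer (P : Set G)))}
    (he : IsPBlock M e) (hom : ∀ ξ ∈ e, ∀ η ∈ b, ∀ a : ZG (Res M) H,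
      val M P ξ (embH H (a : MonoidAlgebra (Res M) H)) = omegaBar M η a)
    (hKH : K ≤ H) (hHK : H ≤ Subgroup.normalizer (K : Set G)) (hpK : ¬ p ∣ Nat.card K) :
    (∀ η ∈ b, ∀ k : H, (k : G) ∈ K → (η : H → ℂ) k = (η : H → ℂ) 1) ↔
      Occ M P e (eK M (K ⊓ Subgroup.centralizer (P : Set G))) := by
  classical
  haveI : (K.subgroupOf H).Normal := (Subgroup.normal_subgroupOf_iff_le_normalizer hKH).mpr hHK
  have hval : ∀ ξ ∈ e, ∀ η ∈ b,
      val M P ξ (eK M (K ⊓ Subgroup.centralizer (P : Set G))) =
        omegaBar M η (eZ M (K.subgroupOf H)) := by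
    intro ξ hξ η hη
    rw [← val_eK_inf hM hP (hPH.trans hHK) (hCH.trans hHK) hpK ξ, ← hom ξ hξ η hη]
    simp only [val]
    refine Finset.sum_congr rfl fun κ _ => ?_
    rw [show ((rep κ : Subgroup.centralizer (P : Set G)) : G) =
      ((⟨_, hCH (rep κ).2⟩ : H) : G) from rfl, coeff_embH]
    rw [show ((eZ M (K.subgroupOf H) : ZG (Res M) H) : MonoidAlgebra (Res M) H) =
      eK M (K.subgroupOf H) from rfl, ← resH_eK hKH, coeff_resH]
  have hcard : ¬ p ∣ Nat.card (K.subgroupOf H) := by rwa [card_subgroupOf hKH]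
  constructor
  · intro h ξ hξ
    obtain ⟨η, hη⟩ := block_nonempty hb
    rw [hval ξ hξ η hη]
    exact (omegaBar_eZ_iff hM hcard η).mpr fun k hk => h η hη k (Subgroup.mem_subgroupOf.mp hk)
  · intro h η hη k hk
    obtain ⟨ξ, hξ⟩ := block_nonempty he
    exact (omegaBar_eZ_iff hM hcard η).mp ((hval ξ hξ η hη).symm.trans (h ξ hξ)) k
      (Subgroup.mem_subgroupOf.mpr hk)

theorem mem_piCoreOf_iff {π : Set ℕ} {H : Subgroup G} (x : H) :
    (x : G) ∈ piCoreOf π H ↔ x ∈ piCore π H :=
  Subgroup.mem_map_iff_mem H.subtype_injective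

/-- The pair of the Brauer correspondent at a defect group is maximal. -/
theorem exists_max_normalizer (hM : IsPModular p M) {B : Set (IrrCharacter G)} {D : Subgroup G}
    (hBD : IsDefectGroup p M B D) {B₁ : Set (IrrCharacter (Subgroup.normalizer (D : Set G)))}
    (hB₁ : IsInducedBlock M (Subgroup.normalizer (D : Set G)) B₁ B) :
    ∃ e, IsMaximalBrauerPair p M B D e ∧ ∀ ξ ∈ e, ∀ η ∈ B₁,
      ∀ a : ZG (Res M) (Subgroup.normalizer (D : Set G)),
        val M D ξ (embH _ (a : MonoidAlgebra (Res M) (Subgroup.normalizer (D : Set G)))) =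
          omegaBar M η a := by
  haveI := Fact.mk hM.1
  haveI := charP_res (M := M) hM
  obtain ⟨g, -, -, hD, -⟩ := defectGroup_spec hBD
  have hDN : D ≤ Subgroup.normalizer (D : Set G) := Subgroup.le_normalizer
  haveI : (D.subgroupOf (Subgroup.normalizer (D : Set G))).Normal :=
    (Subgroup.normal_subgroupOf_iff_le_normalizer hDN).mpr le_rfl
  have hDp : IsPGroup p (D.subgroupOf (Subgroup.normalizer (D : Set G))) :=
    hD.of_equiv (Subgroup.subgroupOfEquivOfLe hDN).symm
  have hne := br_ne_zero_of_normal hDp (bBar_ne_zero hB₁.1)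
    (bBar_mul_self (blockCoeff_mem_loc hB₁.1))
  rw [br_apply, ne_eq, trunc_eq_zero_iff] at hne
  push Not at hne
  obtain ⟨u, hu, hu0⟩ := hne
  obtain ⟨e, he, hom⟩ := exists_local_pair hM hD hDN (Subgroup.centralizer_le_normalizer _) hB₁
    ((mem_centralizer_subgroupOf hDN).mp hu) hu0
  refine ⟨e, ⟨he, fun R r hR hle => ?_⟩, hom⟩
  obtain ⟨⟨P, eP⟩, hPle, hPmax⟩ := exists_maximal hM hR
  have h1 : D ≤ R := subpair_le hle
  have h2 : R ≤ P := subpair_le hPle
  have hc := card_defect_eq hM he.2.1 (isDefectGroup_of_maximal hM hPmax) hBD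
  exact le_antisymm (h2.trans (Subgroup.eq_of_le_of_card_ge (h1.trans h2) hc.le).ge) h1

theorem kills_of_normalizer (hM : IsPModular p M) {π : Set ℕ} (hpπ : p ∈ π)
    {B : Set (IrrCharacter G)} {D : Subgroup G}
    (hBD : IsDefectGroup p M B D) {B₁ : Set (IrrCharacter (Subgroup.normalizer (D : Set G)))}
    (hB₁ : IsInducedBlock M (Subgroup.normalizer (D : Set G)) B₁ B)
    (hker : ∀ n : Subgroup.normalizer (D : Set G),
      n ∈ piCore {q | q ∉ π} (Subgroup.normalizer (D : Set G)) → n ∈ blockKer B₁) :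
    ∃ e, IsMaximalBrauerPair p M B D e ∧ Kills M π ⟨D, e⟩ := by
  obtain ⟨e, he, hom⟩ := exists_max_normalizer hM hBD hB₁
  refine ⟨e, he, ?_⟩
  have hle : coreC π D ≤ piCoreOf {q | q ∉ π} (Subgroup.normalizer (D : Set G)) :=
    OddLocal.le_piCoreOf ((coreC_le D).trans (Subgroup.centralizer_le_normalizer _))
      (normalizer_le_coreC D) fun r hr hd => OddLocal.piCoreOf_primes _ _ hr hd
  have := (block_kills_iff hM he.1.1.1 Subgroup.le_normalizer
    (Subgroup.centralizer_le_normalizer _) hB₁.1 he.1.1.2 hom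
    ((coreC_le D).trans (Subgroup.centralizer_le_normalizer _))
    (normalizer_le_coreC D) (not_dvd_coreC hM.1 hpπ D)).mp fun η hη k hk =>
      hker k ((mem_piCoreOf_iff k).mp (hle hk)) η hη
  rwa [inf_eq_left.mpr (coreC_le D)] at this

/-- The `π'`-core of a subgroup containing the centralizer of a defect group of an inducing
block is in the kernel of that block. -/
theorem piCore_le_blockKer (hM : IsPModular p M) {π : Set ℕ} (hpπ : p ∈ π)
    {B : Set (IrrCharacter G)} {a : BrauerPairIdx G} (hmax : IsMaximalBrauerPair p M B a.1 a.2)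
    (ha : Kills M π a) {H : Subgroup G} {b : Set (IrrCharacter H)}
    (hb : IsInducedBlock M H b B) {D₀ : Subgroup H} (hD₀ : IsDefectGroup p M b D₀)
    (hC : Subgroup.centralizer ((D₀.map H.subtype : Subgroup G) : Set G) ≤ H) (x : H)
    (hx : x ∈ piCore {q | q ∉ π} H) : x ∈ blockKer b := by
  haveI := Fact.mk hM.1
  obtain ⟨g, hg, hle, hDp, -⟩ := defectGroup_spec hD₀
  have hP : IsPGroup p (D₀.map H.subtype) := hDp.map _
  have hPH : D₀.map H.subtype ≤ H := Subgroup.map_subtype_le _
  have hu : (g : G) ∈ Subgroup.centralizer ((D₀.map H.subtype : Subgroup G) : Set G) := by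
    refine Subgroup.mem_centralizer_iff.mpr ?_
    rintro _ ⟨q, hq, rfl⟩
    exact congrArg Subtype.val (Subgroup.mem_centralizer_singleton_iff.mp (hle hq))
  generalize D₀.map H.subtype = P at hP hPH hu hC
  obtain ⟨e, he, hom⟩ := exists_local_pair hM hP hPH hC hb hu
    ((coeff_bBar_ne_zero_iff (blockCoeff_mem_loc hb.1) g).mpr hg.2.1)
  have hk : Kills M π ⟨P, e⟩ := kills_all hM hpπ (b := ⟨P, e⟩) hmax he ha
  set K := piCoreOf {q | q ∉ π} H
  have hKn : H ≤ Subgroup.normalizer (K : Set G) := OddLocal.le_normalizer_piCoreOf_self _ _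
  have hpK : ¬ p ∣ Nat.card K := fun h => OddLocal.piCoreOf_primes _ _ hM.1 h hpπ
  have hpL : ¬ p ∣ Nat.card (K ⊓ Subgroup.centralizer (P : Set G) : Subgroup G) :=
    fun h => hpK (h.trans (Subgroup.card_dvd_of_le inf_le_left))
  have hLn := le_normalizer_inf_self (hC.trans hKn)
  have hLC : K ⊓ Subgroup.centralizer (P : Set G) ≤ coreC π P :=
    OddLocal.le_piCoreOf inf_le_right hLn fun r hr hd =>
      OddLocal.piCoreOf_primes _ _ hr (hd.trans (Subgroup.card_dvd_of_le inf_le_left))
  have hocc : Occ M P e (eK M (K ⊓ Subgroup.centralizer (P : Set G))) :=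
    (occ_eK_iff hM inf_le_right hLn hpL).mpr fun ξ hξ k hk' =>
      (occ_eK_iff hM (coreC_le P) (centralizer_le_coreC P) (not_dvd_coreC hM.1 hpπ P)).mp hk
        ξ hξ k (hLC hk')
  exact fun η hη => (block_kills_iff hM hP hPH hC hb.1 he.1.2 hom (OddLocal.piCoreOf_le _ _) hKn
    hpK).mpr hocc η hη x ((mem_piCoreOf_iff x).mpr hx)

end Cfsg.Agent.BPairs
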