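import Cfsg.Agent.Lib.BrauerPairs.Maximal
import Cfsg.Agent.S4663

/-!
# Brauer pairs of the principal block
-/

set_option linter.unusedSectionVars false

namespace Cfsg.Agent.BPairs

open Blocks

universe u

variable {G : Type u} [Group G] [Finite G] {p : ℕ} {M : Ideal AlgInt} [M.IsPrime]

theorem conjBlock_principal (Q : Subgroup G) (x : G) :
    conjBlock Q x (principalBlock M (Subgroup.centralizer (Q : Set G))) =
      principalBlock M (Subgroup.centralizer
        ((Q.map (MulAut.conj x).toMonoidHom : Subgroup G) : Set G)) :=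
  block_eq_of_mem (isPBlock_conjBlock Q x isPBlock_principalBlock) isPBlock_principalBlock
    (χ := CT.trivIrr _) ⟨CT.trivIrr _, trivIrr_mem_principalBlock, fun _ _ _ => rfl⟩
    trivIrr_mem_principalBlock

theorem principal_pair_iff (hM : IsPModular p M) {Q : Subgroup G} (hQ : IsPGroup p Q)
    {e : Set (IrrCharacter (Subgroup.centralizer (Q : Set G)))} (he : IsPBlock M e) :
    IsBrauerPairOf p M (principalBlock M G) Q e ↔
      e = principalBlock M (Subgroup.centralizer (Q : Set G)) :=
  letI := Fintype.ofFinite G
  haveI := Fact.mk hM.1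
  S4663.result p M hM Q hQ e he

theorem principal_isMaximal (hM : IsPModular p M) [Fact p.Prime] (S : Sylow p G) :
    IsMaximalBrauerPair p M (principalBlock M G) (S : Subgroup G)
      (principalBlock M (Subgroup.centralizer ((S : Subgroup G) : Set G))) := by
  refine ⟨(principal_pair_iff hM S.isPGroup' isPBlock_principalBlock).mpr rfl, fun R g hR hle => ?_⟩
  exact S.is_maximal' hR.1.1 (subpair_le hle)

theorem principal_below (hM : IsPModular p M) [Fact p.Prime] (S : Sylow p G) {Q : Subgroup G}
    (hQ : Q ≤ (S : Subgroup G)) :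
    SubpairLE p M Q (principalBlock M (Subgroup.centralizer (Q : Set G))) (S : Subgroup G)
      (principalBlock M (Subgroup.centralizer ((S : Subgroup G) : Set G))) := by
  have hmax := principal_isMaximal hM S
  obtain ⟨f, ⟨hf, hle⟩, -⟩ := existsUnique_below hM hmax.1.1 hQ
  have hpair := (pairOf_iff_of_subpair hM isPBlock_principalBlock ⟨Q, f⟩ _ hle).mp hmax.1
  rw [(principal_pair_iff hM (S.isPGroup'.to_le hQ) hf).mp hpair] at hle
  exact hle

end Cfsg.Agent.BPairs
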